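import Cfsg.Agent.Lib.StarChar.Section
import Cfsg.Agent.Lib.BrauerPairs.Fusion

/-!
# The sections of a nilpotent block

In a nilpotent block the sections are given by the classes of the defect group, so that a class
function `ζ` of the defect group gives a function `fz` of Brauer elements, and the inner product
of two star products is a weighted sum over the defect group (`classInner_star`).
-/

set_option autoImplicit false

namespace Cfsg.Agent.Lib.StarChar.NilpotentPairing

open MonoidAlgebra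
open scoped ComplexConjugate
open Cfsg.Agent.Lib.Blocks (localRing residue lin)
open Cfsg.Agent.Lib.BrauerPairs.Center Cfsg.Agent.Lib.BrauerPairs.Trunc
open Cfsg.Agent.Lib.BrauerPairs.Conj Cfsg.Agent.Lib.BrauerPairs.Pairs
open Cfsg.Agent.Lib.BrauerPairs.Transport Cfsg.Agent.Lib.BrauerPairs.Maximal
open Cfsg.Agent.Lib.BrauerPairs.Local Cfsg.Agent.Lib.BrauerPairs.Bridge
open Cfsg.Agent.Lib.BrauerPairs.Fusion
open Cfsg.Agent.Lib.StarChar.Fixed Cfsg.Agent.Lib.StarChar.Equiv
open Cfsg.Agent.Lib.StarChar.Integrality Cfsg.Agent.Lib.StarChar.Comp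
open Cfsg.Agent.Lib.StarChar.Section Cfsg.Agent.Lib.Characters.Basic

universe u

attribute [local instance] Ideal.Quotient.field

variable {M : Ideal Cfsg.AlgInt} [M.IsMaximal] {G : Type u} [Group G] [Finite G]
  {p : ℕ} [Fact p.Prime] [CharP (Res M) p]

local notation "C[" P "]" => Subgroup.centralizer ((P : Subgroup G) : Set G)

section Phi

variable (χ χ' : Cfsg.IrrCharacter G)

omit [CharP (Res M) p] [Fact p.Prime] in
/-- The parts of a character on conjugate sections. -/
theorem phi_conj (t q : G) {ω : Blk (Res M) C[Subgroup.zpowers q]}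
    {ω' : Blk (Res M) C[Subgroup.zpowers (t * q * t⁻¹)]}
    (h : bext C[Subgroup.zpowers (t * q * t⁻¹)] ω' = conjA t (bext C[Subgroup.zpowers q] ω))
    (s : C[Subgroup.zpowers q]) :
    phi (χ : G → ℂ) (t * q * t⁻¹) ω' (conjEquiv t _ _ (mem_centralizer_conj t q) s) =
      phi (χ : G → ℂ) q ω s := by
  obtain rfl : ω' = cBlk t _ _ (mem_centralizer_conj t q) ω :=
    bext_injective _ (h.trans (bext_cBlk _ _ _ _ _).symm)
  rw [← lin_eq_phi, ← lin_eq_phi, eHat_cj, toC_cj,
    show t * q * t⁻¹ * ((conjEquiv t _ _ (mem_centralizer_conj t q) s : C[_]) : G) =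
      t * (q * (s : G)) * t⁻¹ by
        show t * q * t⁻¹ * (t * (s : G) * t⁻¹) = _
        group,
    ← cj_single t (q * (s : G)) 1, ← map_mul, lin_cj]

variable (p) in
open scoped Classical in
/-- The product of the parts of two characters on a section. -/
noncomputable def phiSum (q : G) (ω : Blk (Res M) C[Subgroup.zpowers q]) : ℂ :=
  letI := Fintype.ofFinite C[Subgroup.zpowers q]
  ∑ s : C[Subgroup.zpowers q], if p ∣ orderOf s then 0
    else phi (χ : G → ℂ) q ω s * conj (phi (χ' : G → ℂ) q ω s)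

omit [CharP (Res M) p] [Fact p.Prime] in
open scoped Classical in
theorem phiSum_eq (q : G) [Fintype C[Subgroup.zpowers q]]
    (ω : Blk (Res M) C[Subgroup.zpowers q]) :
    phiSum p χ χ' q ω = ∑ s : C[Subgroup.zpowers q], if p ∣ orderOf s then 0
      else phi (χ : G → ℂ) q ω s * conj (phi (χ' : G → ℂ) q ω s) := by
  rw [phiSum]
  convert rfl

omit [CharP (Res M) p] [Fact p.Prime] in
theorem phiSum_isInv : IsInv (phiSum (M := M) p χ χ') := by
  intro t q ω ω' h
  classical
  have := Fintype.ofFinite C[Subgroup.zpowers q]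
  have := Fintype.ofFinite C[Subgroup.zpowers (t * q * t⁻¹)]
  rw [phiSum_eq, phiSum_eq]
  refine (Fintype.sum_equiv (conjEquiv t _ _ (mem_centralizer_conj t q)).toEquiv _ _ fun s => ?_).symm
  show _ = if p ∣ orderOf (conjEquiv t _ _ (mem_centralizer_conj t q) s) then (0 : ℂ) else
    phi (χ : G → ℂ) (t * q * t⁻¹) ω' (conjEquiv t _ _ (mem_centralizer_conj t q) s) *
      conj (phi (χ' : G → ℂ) (t * q * t⁻¹) ω' (conjEquiv t _ _ (mem_centralizer_conj t q) s))
  rw [MulEquiv.orderOf_eq, phi_conj χ t q h s, phi_conj χ' t q h s]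

/-- Only the sections of the block occur. -/
theorem phiSum_eq_zero (hM : Cfsg.IsPModular p M) {q : G} (hq : ∃ k : ℕ, orderOf q = p ^ k)
    (ω : Blk (Res M) C[Subgroup.zpowers q])
    (hne : ¬ PairOf p (blkOf M χ) (⟨Subgroup.zpowers q, ω⟩ : Idx (Res M) G)) :
    phiSum p χ χ' q ω = 0 := by
  classical
  have := Fintype.ofFinite C[Subgroup.zpowers q]
  rw [phiSum_eq]
  refine Finset.sum_eq_zero fun s _ => ?_
  split_ifs with hs
  · rfl
  · rw [phi_eq_zero χ hM hq ω hne hs, zero_mul]

end Phi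

variable {b : Idx (Res M) G}

/-- The block of `C(u)` below the maximal pair. -/
noncomputable def blkAt (hb : IsPGroup p b.1) (u : b.1) :
    Blk (Res M) C[Subgroup.zpowers (u : G)] :=
  (exists_le_of_le hb b.2 _ (Subgroup.zpowers_le.mpr u.2)).choose

theorem le_blkAt (hb : IsPGroup p b.1) (u : b.1) :
    Le p (⟨Subgroup.zpowers (u : G), blkAt hb u⟩ : Idx (Res M) G) b :=
  (exists_le_of_le hb b.2 _ (Subgroup.zpowers_le.mpr u.2)).choose_spec

theorem eq_blkAt (hb : IsPGroup p b.1) (u : b.1) {ω : Blk (Res M) C[Subgroup.zpowers (u : G)]}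
    (h : Le p (⟨Subgroup.zpowers (u : G), ω⟩ : Idx (Res M) G) b) : ω = blkAt hb u :=
  le_unique hb b.2 h (le_blkAt hb u)

omit [Fact p.Prime] [CharP (Res M) p] in
/-- The maximal pair is fixed by its subgroup. -/
theorem cPair_eq_self {v : G} (hv : v ∈ b.1) : cPair v b = b := by
  refine sigma_ext_of_bext ?_ ?_
  · exact map_conj_eq_of_mem (Subgroup.le_normalizer hv)
  · rw [bext_cPair]
    exact Theta.bext_mem_fx b.1 b.2 v hv

omit [Fact p.Prime] [CharP (Res M) p] in
theorem cPair_zpowers_eq (t q : G) {ω : Blk (Res M) C[Subgroup.zpowers q]}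
    {ω' : Blk (Res M) C[Subgroup.zpowers (t * q * t⁻¹)]}
    (h : bext C[Subgroup.zpowers (t * q * t⁻¹)] ω' = conjA t (bext C[Subgroup.zpowers q] ω)) :
    (⟨Subgroup.zpowers (t * q * t⁻¹), ω'⟩ : Idx (Res M) G) =
      cPair t ⟨Subgroup.zpowers q, ω⟩ := by
  refine sigma_ext_of_bext ?_ ?_
  · exact ((MonoidHom.map_zpowers (MulAut.conj t).toMonoidHom q)).symm
  · rw [bext_cPair]
    exact h

omit [Fact p.Prime] [CharP (Res M) p] in
theorem conj_mem_of_le {x q : G} {ω : Blk (Res M) C[Subgroup.zpowers q]}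
    (h : Le p (cPair x (⟨Subgroup.zpowers q, ω⟩ : Idx (Res M) G)) b) : x * q * x⁻¹ ∈ b.1 :=
  h.subgroup_le (Subgroup.mem_map_of_mem _ (Subgroup.mem_zpowers q))

variable {ψ : Blk (Res M) G} (hb : Top p b) (hψ : PairOf p ψ b) (hnil : Nilp p ψ)

include hb hψ hnil

/-- Fused elements are conjugate in the defect group. -/
theorem isConj_of_le {x y q : G} {ω : Blk (Res M) C[Subgroup.zpowers q]}
    (h : Le p (cPair x (⟨Subgroup.zpowers q, ω⟩ : Idx (Res M) G)) b)
    (h' : Le p (cPair y (⟨Subgroup.zpowers q, ω⟩ : Idx (Res M) G)) b) :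
    IsConj (⟨x * q * x⁻¹, conj_mem_of_le h⟩ : b.1) ⟨y * q * y⁻¹, conj_mem_of_le h'⟩ := by
  obtain ⟨v, hv, hvq⟩ := exists_inner_of_nilp hnil hb hψ _ (y * x⁻¹) h
    (by rw [← cPair_mul, inv_mul_cancel_right]; exact h')
  refine isConj_iff.mpr ⟨⟨v, hv⟩, Subtype.ext ?_⟩
  show v * (x * q * x⁻¹) * v⁻¹ = y * q * y⁻¹
  rw [← hvq (x * q * x⁻¹) ⟨q, Subgroup.mem_zpowers q, rfl⟩]
  group

omit hb hψ hnil in
variable (p) (b) in
open scoped Classical in
/-- A function of the defect group on the Brauer elements. -/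
noncomputable def fz (ζ : b.1 → ℂ) (q : G) (ω : Blk (Res M) C[Subgroup.zpowers q]) : ℂ :=
  if h : ∃ x : G, Le p (cPair x (⟨Subgroup.zpowers q, ω⟩ : Idx (Res M) G)) b then
    ζ ⟨h.choose * q * h.choose⁻¹, conj_mem_of_le h.choose_spec⟩ else ζ 1

theorem fz_eq {ζ : b.1 → ℂ} (hζ : Cfsg.IsClassFunction b.1 ζ) {x q : G}
    {ω : Blk (Res M) C[Subgroup.zpowers q]}
    (h : Le p (cPair x (⟨Subgroup.zpowers q, ω⟩ : Idx (Res M) G)) b) :
    fz p b ζ q ω = ζ ⟨x * q * x⁻¹, conj_mem_of_le h⟩ := by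
  classical
  have hex : ∃ x : G, Le p (cPair x (⟨Subgroup.zpowers q, ω⟩ : Idx (Res M) G)) b := ⟨x, h⟩
  rw [fz, dif_pos hex]
  obtain ⟨v, hv⟩ := isConj_iff.mp (isConj_of_le hb hψ hnil hex.choose_spec h)
  rw [← hv, hζ]

theorem fz_blkAt {ζ : b.1 → ℂ} (hζ : Cfsg.IsClassFunction b.1 ζ) (u : b.1) :
    fz p b ζ (u : G) (blkAt hb.1 u) = ζ u := by
  rw [fz_eq hb hψ hnil hζ (x := 1) (by rw [cPair_one]; exact le_blkAt hb.1 u)]
  congr 1
  exact Subtype.ext (by simp)

omit hb hψ hnil [Fact p.Prime] [CharP (Res M) p] in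
theorem fz_one (ζ : b.1 → ℂ) (ω : Blk (Res M) C[Subgroup.zpowers (1 : G)]) :
    fz p b ζ 1 ω = ζ 1 := by
  classical
  rw [fz]
  split_ifs with h
  · congr 1
    exact Subtype.ext (by simp)
  · rfl

theorem fz_isInv {ζ : b.1 → ℂ} (hζ : Cfsg.IsClassFunction b.1 ζ) : IsInv (fz p b ζ) := by
  intro t q ω ω' h
  classical
  have hpair := cPair_zpowers_eq t q h
  by_cases hex : ∃ x : G, Le p (cPair x (⟨Subgroup.zpowers q, ω⟩ : Idx (Res M) G)) b
  · obtain ⟨x, hx⟩ := hex
    rw [fz_eq hb hψ hnil hζ hx, fz_eq hb hψ hnil hζ (x := x * t⁻¹) ?_]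
    · congr 1
      exact Subtype.ext (by group)
    · rw [hpair, ← cPair_mul, inv_mul_cancel_right]
      exact hx
  · rw [fz, fz, dif_neg hex, dif_neg]
    rintro ⟨x, hx⟩
    rw [hpair, ← cPair_mul] at hx
    exact hex ⟨_, hx⟩

theorem fz_isCoherent {ζ : b.1 → ℂ} (hζ : Cfsg.IsCharacter b.1 ζ) :
    IsCoherent p (fz p b ζ) := by
  classical
  have hcl := isClassFunction_of_isCharacter hζ
  intro Q hQ Ω
  by_cases hex : ∃ x : G, Le p (cPair x (⟨Q, Ω⟩ : Idx (Res M) G)) b
  · obtain ⟨x, hx⟩ := hex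
    have hm : ∀ q : Q, x * (q : G) * x⁻¹ ∈ b.1 := fun q =>
      hx.subgroup_le (Subgroup.mem_map_of_mem _ q.2)
    refine ⟨ζ ∘ (((MulAut.conj x).toMonoidHom.comp Q.subtype).codRestrict b.1 hm),
      ⟨_, 0, isCharacter_comp _ hζ, isCharacter_zero, (sub_zero _).symm⟩, ?_⟩
    intro q hq ω hω
    rw [fz_eq hb hψ hnil hcl ((le_cPair x hω).trans hx)]
    rfl
  · obtain ⟨n, hn⟩ : ∃ n : ℕ, ζ 1 = n := by
      obtain ⟨n, ρ, rfl⟩ := hζ
      exact ⟨_, Representation.char_one _⟩
    refine ⟨n • (1 : Q → ℂ), ⟨_, 0, isCharacter_nsmul isCharacter_one n, isCharacter_zero,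
      (sub_zero _).symm⟩, fun q hq ω hω => ?_⟩
    rw [fz, dif_neg, hn]
    · simp
    rintro ⟨x, hx⟩
    apply hex
    have h1 : PairOf p ψ (cPair x (⟨Subgroup.zpowers q, ω⟩ : Idx (Res M) G)) :=
      (pairOf_iff_of_le hb.1 hx _).mpr hψ
    have h2 := pairOf_cPair h1 x⁻¹
    rw [← cPair_mul, inv_mul_cancel, cPair_one] at h2
    exact exists_le_conj_top ((pairOf_iff_of_le hQ hω _).mp h2) hb hψ

omit hψ hnil in
/-- The weight of an element of the defect group. -/
noncomputable def wt (u : b.1) : ℂ :=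
  ((Nat.card {w : b.1 // IsConj u w} : ℂ) * (Nat.card C[Subgroup.zpowers (u : G)] : ℂ))⁻¹

/-- **The sections.** A sum over the Brauer elements of the block is a sum over the defect
group. -/
theorem sum_sections [Fintype G] [Fintype b.1]
    [∀ q : G, Fintype (Blk (Res M) C[Subgroup.zpowers q])]
    {W : ∀ q : G, Blk (Res M) (Subgroup.centralizer (Subgroup.zpowers q : Set G)) → ℂ}
    (hW : IsInv W) (h0 : ∀ q ω, W q ω ≠ 0 →
      PairOf p ψ (⟨Subgroup.zpowers q, ω⟩ : Idx (Res M) G)) :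
    ∑ q : G, ∑ ω : Blk (Res M) C[Subgroup.zpowers q], W q ω =
      (Fintype.card G : ℂ) * ∑ u : b.1, wt u * W u (blkAt hb.1 u) := by
  classical
  let R : G → b.1 → ∀ q : G, Blk (Res M) C[Subgroup.zpowers q] → Prop := fun g u q ω =>
    q = g * u * g⁻¹ ∧ (⟨Subgroup.zpowers q, ω⟩ : Idx (Res M) G) =
      cPair g ⟨Subgroup.zpowers (u : G), blkAt hb.1 u⟩
  -- each element of the block is reached with total weight one
  have hone : ∀ q ω, W q ω ≠ 0 →
      ∑ u : b.1, wt u * (∑ g : G, if R g u q ω then (1 : ℂ) else 0) = 1 := by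
    intro q ω hne
    obtain ⟨x, hx⟩ := exists_le_conj_top (h0 q ω hne) hb hψ
    set u₀ : b.1 := ⟨x * q * x⁻¹, conj_mem_of_le hx⟩ with hu₀
    have hA : ∀ u : b.1, (∑ g : G, if R g u q ω then (1 : ℂ) else 0) =
        if IsConj u₀ u then (Nat.card C[Subgroup.zpowers (u : G)] : ℂ) else 0 := by
      intro u
      rw [Finset.sum_boole]
      split_ifs with hc
      · obtain ⟨v, hv⟩ := isConj_iff.mp hc
        have hv' : (v : G) * (x * q * x⁻¹) * (v : G)⁻¹ = (u : G) := congrArg Subtype.val hv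
        set g₁ : G := ((v : G) * x)⁻¹ with hg₁
        have hq : q = g₁ * u * g₁⁻¹ := by rw [hg₁, ← hv']; group
        have hR : R g₁ u q ω := by
          refine ⟨hq, ?_⟩
          have h1 : Le p (cPair ((v : G) * x) (⟨Subgroup.zpowers q, ω⟩ : Idx (Res M) G)) b := by
            rw [cPair_mul]
            have := le_cPair (v : G) hx
            rwa [cPair_eq_self v.2] at this
          have h2 : (cPair ((v : G) * x) (⟨Subgroup.zpowers q, ω⟩ : Idx (Res M) G)) =
              ⟨Subgroup.zpowers (u : G), blkAt hb.1 u⟩ := by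
            have e : (cPair ((v : G) * x) (⟨Subgroup.zpowers q, ω⟩ : Idx (Res M) G)).1 =
                Subgroup.zpowers (u : G) := by
              refine (MonoidHom.map_zpowers (MulAut.conj ((v : G) * x)).toMonoidHom q).trans ?_
              rw [← hv']
              congr 1
              simp [mul_assoc]
            revert h1
            generalize cPair ((v : G) * x) (⟨Subgroup.zpowers q, ω⟩ : Idx (Res M) G) = a at e ⊢
            obtain ⟨A, α⟩ := a
            obtain rfl : A = Subgroup.zpowers (u : G) := e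
            intro h1
            rw [eq_blkAt hb.1 u h1]
          rw [← h2, ← cPair_mul, hg₁, inv_mul_cancel, cPair_one]
        have hset : ∀ g : G, R g u q ω ↔ g⁻¹ * g₁ ∈ C[Subgroup.zpowers (u : G)] := by
          intro g
          rw [Theta.centralizer_zpowers, Subgroup.mem_centralizer_singleton_iff]
          constructor
          · rintro ⟨h, -⟩
            have h3 : g₁ * u * g₁⁻¹ = g * u * g⁻¹ := hq.symm.trans h
            calc g⁻¹ * g₁ * u = g⁻¹ * (g₁ * u * g₁⁻¹) * g₁ := by group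
              _ = g⁻¹ * (g * u * g⁻¹) * g₁ := by rw [h3]
              _ = u * (g⁻¹ * g₁) := by group
          · intro h
            have hz : g⁻¹ * g₁ ∈ C[Subgroup.zpowers (u : G)] := by
              rw [Theta.centralizer_zpowers, Subgroup.mem_centralizer_singleton_iff]
              exact h
            have h4 : cPair (g⁻¹ * g₁) (⟨Subgroup.zpowers (u : G), blkAt hb.1 u⟩ : Idx (Res M) G) =
                ⟨Subgroup.zpowers (u : G), blkAt hb.1 u⟩ := mem_stab.mp (centralizer_le_stab _ hz)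
            refine ⟨?_, ?_⟩
            · calc q = g * ((g⁻¹ * g₁) * u) * g₁⁻¹ := by rw [hq]; group
                _ = g * ((u : G) * (g⁻¹ * g₁)) * g₁⁻¹ := by rw [h]
                _ = g * u * g⁻¹ := by group
            · conv_rhs => rw [← h4, ← cPair_mul, mul_inv_cancel_left]
              exact hR.2
        have hcard : (Finset.univ.filter fun g : G => R g u q ω).card =
            Nat.card C[Subgroup.zpowers (u : G)] := by
          rw [← Fintype.card_subtype, ← Nat.card_eq_fintype_card]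
          refine Nat.card_congr
            { toFun := fun g => ⟨(g : G)⁻¹ * g₁, (hset g).mp g.2⟩
              invFun := fun z => ⟨g₁ * (z : G)⁻¹, (hset _).mpr (by
                rw [show (g₁ * (z : G)⁻¹)⁻¹ * g₁ = (z : G) by group]; exact z.2)⟩
              left_inv := fun g => Subtype.ext (by simp [mul_assoc])
              right_inv := fun z => Subtype.ext (by simp [mul_assoc]) }
        rw [hcard]
      · rw [Nat.cast_eq_zero, Finset.card_eq_zero, Finset.filter_eq_empty_iff]
        rintro g - ⟨hq, hpair⟩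
        apply hc
        have hxg : Le p (cPair (x * g) (⟨Subgroup.zpowers (u : G), blkAt hb.1 u⟩ :
            Idx (Res M) G)) b := by
          rw [cPair_mul, ← hpair]
          exact hx
        have h5 := isConj_of_le hb hψ hnil hxg
          (y := 1) (by rw [cPair_one]; exact le_blkAt hb.1 u)
        convert h5 using 1
        · exact Subtype.ext (by show x * q * x⁻¹ = _; rw [hq]; group)
        · exact Subtype.ext (by simp)
    simp only [hA, mul_ite, mul_zero]
    rw [← Finset.sum_filter]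
    have hterm : ∀ u ∈ Finset.univ.filter (fun u : b.1 => IsConj u₀ u),
        wt u * (Nat.card C[Subgroup.zpowers (u : G)] : ℂ) =
          (Nat.card {w : b.1 // IsConj u₀ w} : ℂ)⁻¹ := by
      intro u hu
      have hc : IsConj u₀ u := (Finset.mem_filter.mp hu).2
      rw [wt, mul_inv, mul_assoc, inv_mul_cancel₀ (Nat.cast_ne_zero.mpr Nat.card_pos.ne'), mul_one]
      congr 2
      exact Nat.card_congr (Equiv.subtypeEquivRight fun w => ⟨hc.trans, hc.symm.trans⟩)
    rw [Finset.sum_congr rfl hterm, Finset.sum_const, nsmul_eq_mul, Nat.card_eq_fintype_card,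
      Fintype.card_subtype, mul_inv_cancel₀]
    exact Nat.cast_ne_zero.mpr (Finset.card_ne_zero_of_mem
      (Finset.mem_filter.mpr ⟨Finset.mem_univ u₀, IsConj.refl u₀⟩))
  -- each pair `(g, u)` reaches one element
  have huniq : ∀ (g : G) (u : b.1),
      ∑ q : G, ∑ ω : Blk (Res M) C[Subgroup.zpowers q],
        (if R g u q ω then W q ω else 0) = W u (blkAt hb.1 u) := by
    intro g u
    rw [Finset.sum_eq_single (g * (u : G) * g⁻¹)]
    · have hb' := bext_cBlk g _ _ (mem_centralizer_conj g (u : G)) (blkAt hb.1 u)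
      rw [Finset.sum_eq_single (cBlk g _ _ (mem_centralizer_conj g (u : G)) (blkAt hb.1 u))]
      · rw [if_pos ⟨rfl, cPair_zpowers_eq g (u : G) hb'⟩]
        exact hW g u _ _ hb'
      · intro ω _ hω
        rw [if_neg]
        rintro ⟨-, h⟩
        rw [← cPair_zpowers_eq g (u : G) hb'] at h
        exact hω (eq_of_heq (Sigma.mk.inj_iff.mp h).2)
      · exact fun h => absurd (Finset.mem_univ _) h
    · intro q _ hq
      exact Finset.sum_eq_zero fun ω _ => if_neg fun h => hq h.1
    · exact fun h => absurd (Finset.mem_univ _) h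
  calc ∑ q : G, ∑ ω : Blk (Res M) C[Subgroup.zpowers q], W q ω
      = ∑ q : G, ∑ ω : Blk (Res M) C[Subgroup.zpowers q],
          ∑ u : b.1, ∑ g : G, wt u * (if R g u q ω then W q ω else 0) := by
        refine Finset.sum_congr rfl fun q _ => Finset.sum_congr rfl fun ω _ => ?_
        by_cases hne : W q ω = 0
        · simp [hne]
        · conv_lhs => rw [← mul_one (W q ω), ← hone q ω hne]
          rw [Finset.mul_sum]
          refine Finset.sum_congr rfl fun u _ => ?_
          rw [Finset.mul_sum, Finset.mul_sum]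
          refine Finset.sum_congr rfl fun g _ => ?_
          split_ifs <;> ring
    _ = ∑ u : b.1, ∑ g : G, ∑ q : G, ∑ ω : Blk (Res M) C[Subgroup.zpowers q],
          wt u * (if R g u q ω then W q ω else 0) := by
        rw [Finset.sum_congr rfl fun q _ => Finset.sum_comm, Finset.sum_comm]
        refine Finset.sum_congr rfl fun u _ => ?_
        rw [Finset.sum_congr rfl fun q _ => Finset.sum_comm, Finset.sum_comm]
    _ = _ := by
        rw [Finset.mul_sum]
        refine Finset.sum_congr rfl fun u _ => ?_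
        simp only [← Finset.mul_sum, huniq]
        rw [Finset.sum_const, Finset.card_univ, nsmul_eq_mul]
        ring

/-- **The inner product of two star products.** -/
theorem classInner_star [Fintype G] [Fintype b.1] (hM : Cfsg.IsPModular p M)
    {χ χ' : Cfsg.IrrCharacter G} (hχ : blkOf M χ = ψ) {ζ ξ : b.1 → ℂ}
    (hζ : Cfsg.IsClassFunction b.1 ζ) (hξ : Cfsg.IsClassFunction b.1 ξ) :
    Cfsg.classInner (starFn χ (fz p b ζ) p) (starFn χ' (fz p b ξ) p) =
      ∑ u : b.1, wt u * phiSum p χ χ' u (blkAt hb.1 u) * (ζ u * conj (ξ u)) := by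
  classical
  have : ∀ q : G, Fintype C[Subgroup.zpowers q] := fun q => Fintype.ofFinite _
  have : ∀ q : G, Fintype (Blk (Res M) C[Subgroup.zpowers q]) := fun q => Fintype.ofFinite _
  let W : ∀ q : G, Blk (Res M) (Subgroup.centralizer (Subgroup.zpowers q : Set G)) → ℂ :=
    fun q ω => if (∃ k : ℕ, orderOf q = p ^ k) then
      fz p b ζ q ω * conj (fz p b ξ q ω) * phiSum p χ χ' q ω else 0
  have hW : IsInv W := by
    intro t q ω ω' h
    show ite _ _ _ = ite _ _ _
    rw [fz_isInv hb hψ hnil hζ t q ω ω' h, fz_isInv hb hψ hnil hξ t q ω ω' h,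
      phiSum_isInv χ χ' t q ω ω' h]
    refine if_congr ?_ rfl rfl
    rw [show orderOf (t * q * t⁻¹) = orderOf q from (MulAut.conj t).orderOf_eq q]
  have h0 : ∀ q ω, W q ω ≠ 0 → PairOf p ψ (⟨Subgroup.zpowers q, ω⟩ : Idx (Res M) G) := by
    intro q ω hne
    by_contra hp
    apply hne
    show ite _ _ _ = _
    split_ifs with hq
    · rw [phiSum_eq_zero χ χ' hM hq ω (hχ ▸ hp), mul_zero]
    · rfl
  rw [Cfsg.classInner, sum_star_mul χ _ hM χ' _, Finset.sum_filter]
  have e : ∀ q : G, (if (∃ k : ℕ, orderOf q = p ^ k) then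
      ∑ ω : Blk (Res M) C[Subgroup.zpowers q], fz p b ζ q ω * conj (fz p b ξ q ω) *
        ∑ s : C[Subgroup.zpowers q], (if p ∣ orderOf s then 0
          else phi (χ : G → ℂ) q ω s * conj (phi (χ' : G → ℂ) q ω s)) else 0) =
      ∑ ω : Blk (Res M) C[Subgroup.zpowers q], W q ω := by
    intro q
    split_ifs with hq
    · refine Finset.sum_congr rfl fun ω _ => ?_
      show _ = ite _ _ _
      rw [if_pos hq, phiSum_eq]
    · exact (Finset.sum_eq_zero fun ω _ => if_neg hq).symm
  rw [Finset.sum_congr rfl fun q _ => e q, sum_sections hb hψ hnil hW h0,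
    Nat.card_eq_fintype_card, inv_mul_cancel_left₀ (Nat.cast_ne_zero.mpr Fintype.card_ne_zero)]
  refine Finset.sum_congr rfl fun u _ => ?_
  obtain ⟨k, hk⟩ := IsPGroup.iff_orderOf.mp hb.1 u
  show _ * ite _ _ _ = _
  rw [if_pos ⟨k, by rw [← hk, Subgroup.orderOf_coe]⟩, fz_blkAt hb hψ hnil hζ,
    fz_blkAt hb hψ hnil hξ]
  ring

omit hψ hnil in
/-- The weight is constant on the classes. -/
theorem wt_mul_phiSum_conj (χ χ' : Cfsg.IrrCharacter G) (u v : b.1) :
    wt (v * u * v⁻¹) * phiSum p χ χ' ((v * u * v⁻¹ : b.1) : G) (blkAt hb.1 (v * u * v⁻¹)) =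
      wt u * phiSum p χ χ' u (blkAt hb.1 u) := by
  have hc : IsConj u (v * u * v⁻¹) := isConj_iff.mpr ⟨v, rfl⟩
  have e : (((v * u * v⁻¹ : b.1)) : G) = (v : G) * u * (v : G)⁻¹ := rfl
  congr 1
  · rw [wt, wt]
    refine congrArg₂ (fun a c : ℕ => ((a : ℂ) * (c : ℂ))⁻¹) ?_ ?_
    · exact Nat.card_congr (Equiv.subtypeEquivRight fun w => ⟨hc.trans, hc.symm.trans⟩)
    · exact (Nat.card_congr
        (conjEquiv (v : G) _ _ (mem_centralizer_conj (v : G) (u : G))).toEquiv).symm
  · refine phiSum_isInv χ χ' (v : G) u (blkAt hb.1 u) _ ?_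
    have hle : Le p (⟨Subgroup.zpowers ((v : G) * u * (v : G)⁻¹),
        cBlk (v : G) _ _ (mem_centralizer_conj (v : G) (u : G)) (blkAt hb.1 u)⟩ : Idx (Res M) G)
          b := by
      rw [cPair_zpowers_eq (v : G) (u : G) (bext_cBlk _ _ _ _ _)]
      have := le_cPair (v : G) (le_blkAt hb.1 u)
      rwa [cPair_eq_self v.2] at this
    have := eq_blkAt hb.1 (v * u * v⁻¹) hle
    rw [← bext_cBlk (v : G) _ _ (mem_centralizer_conj (v : G) (u : G)) (blkAt hb.1 u)]
    exact congrArg _ this.symm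

end Cfsg.Agent.Lib.StarChar.NilpotentPairing
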