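import Cfsg.Agent.Lib.StarChar.Section
import Cfsg.Agent.Lib.Blocks.MajorSection
import Cfsg.Agent.Lib.BrauerPairs.LocalDefect

/-!
# Sections on which a character does not vanish

A character of height zero has a non-zero part in every section of its block; any character has
one in the sections at the central elements of a defect group.
-/

set_option autoImplicit false

namespace Cfsg.Agent.Lib.StarChar.Free

open scoped ComplexConjugate
open Cfsg.Agent.Lib.Blocks Cfsg.Agent.Lib.Blocks.Contrib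
open Cfsg.Agent.Lib.Blocks.SectionPart Cfsg.Agent.Lib.Blocks.SectionMatrix
open Cfsg.Agent.Lib.Blocks.MajorSection Cfsg.Agent.Lib.Blocks.BlockPart
open Cfsg.Agent.Lib.BrauerPairs.Center Cfsg.Agent.Lib.BrauerPairs.Conj
open Cfsg.Agent.Lib.BrauerPairs.Pairs Cfsg.Agent.Lib.BrauerPairs.Transport
open Cfsg.Agent.Lib.BrauerPairs.Maximal Cfsg.Agent.Lib.BrauerPairs.Bridge
open Cfsg.Agent.Lib.StarChar.Section
open Cfsg.Agent.Lib.Characters.Basic

universe u

attribute [local instance] Ideal.Quotient.field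

variable {M : Ideal Cfsg.AlgInt} [M.IsMaximal] {G : Type u} [Group G] [Finite G]
  {p : ℕ} [Fact p.Prime]

local notation "C[" P "]" => Subgroup.centralizer ((P : Subgroup G) : Set G)

/-- A non-zero contribution gives a non-zero part. -/
theorem exists_phi_ne_zero [Fintype G] (hM : Cfsg.IsPModular p M) (χ : Cfsg.IrrCharacter G)
    {q : G} [Fintype C[Subgroup.zpowers q]] {x : C[Subgroup.zpowers q]} (hxq : (x : G) = q)
    (hx : Pelt p x) (ω : Blk (Res M) C[Subgroup.zpowers q])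
    (hne : cX p (toSet ω) x χ χ ≠ 0) :
    ∃ s : C[Subgroup.zpowers q], ¬ p ∣ orderOf s ∧ phi (χ : G → ℂ) q ω s ≠ 0 := by
  classical
  by_contra hall
  push Not at hall
  apply hne
  have := Fintype.ofFinite (Cfsg.IrrCharacter C[Subgroup.zpowers q])
  have hsect : sect q C[Subgroup.zpowers q] (χ : G → ℂ) =
      ∑ θ : Cfsg.IrrCharacter C[Subgroup.zpowers q], acoef x χ θ •
        (θ : C[Subgroup.zpowers q] → ℂ) := by
    funext c
    rw [sum_smul_apply, sect_apply]
    refine Eq.trans ?_ (restrict_mul hx.commute χ c)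
    rw [hxq]
  have hphi : ∀ s, phi (χ : G → ℂ) q ω s =
      ∑ θ ∈ bset (toSet ω), acoef x χ θ * (θ : C[Subgroup.zpowers q] → ℂ) s := fun s => by
    rw [phi, blockPart_apply]
    refine Finset.sum_congr rfl fun θ _ => ?_
    rw [hsect, Characters.Complete.classInner_irr_sum]
  have hrow : ∀ ζ : Cfsg.IrrCharacter C[Subgroup.zpowers q],
      rowq p (toSet ω) x χ ζ = 0 := by
    intro ζ
    have h0 : ∑ θ ∈ bset (toSet ω), acoef x χ θ *
        regSum p (θ : C[Subgroup.zpowers q] → ℂ) (ζ : C[Subgroup.zpowers q] → ℂ) = 0 := by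
      simp only [regSum_eq_sum, Finset.mul_sum]
      rw [Finset.sum_comm]
      refine Finset.sum_eq_zero fun s _ => ?_
      by_cases hs : p ∣ orderOf s
      · simp [hs]
      · simp only [if_neg hs, ← mul_assoc, ← Finset.sum_mul]
        rw [← hphi, hall s hs, zero_mul]
    have h1 : ((primeToCard p C[Subgroup.zpowers q] : ℂ) *
        ((p : ℂ) ^ minVdeg p (toSet ω))) * rowq p (toSet ω) x χ ζ = 0 := by
      rw [rowq, Finset.mul_sum, ← h0]
      refine Finset.sum_congr rfl fun θ hθ => ?_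
      rw [regSum_eq_contribN, ← pow_mul_nq hM (isPBlock_toSet ω) (mem_bset.mp hθ) ζ]
      push_cast
      ring
    refine (mul_eq_zero.mp h1).resolve_left (mul_ne_zero ?_ ?_)
    · exact Nat.cast_ne_zero.mpr (primeToCard_pos p).ne'
    · exact pow_ne_zero _ (Nat.cast_ne_zero.mpr (Fact.out : p.Prime).ne_zero)
  rw [cX]
  exact Finset.sum_eq_zero fun ζ _ => by rw [hrow ζ, zero_mul]

variable [CharP (Res M) p]

theorem isInducedBlock_of_pairOf {q : G} (hq : IsPGroup p (Subgroup.zpowers q))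
    {ω : Blk (Res M) C[Subgroup.zpowers q]} {B : Set (Cfsg.IrrCharacter G)}
    (hB : Cfsg.IsPBlock M B)
    (h : PairOf p (blk hB) (⟨Subgroup.zpowers q, ω⟩ : Idx (Res M) G)) :
    Cfsg.IsInducedBlock M C[Subgroup.zpowers q] (toSet ω) B := by
  rw [BrauerPairs.InducedPair.isInducedBlock_iff hq (isPBlock_toSet ω) hB, blk_toSet]
  exact h

theorem exists_pelt {q : G} (hq : ∃ k : ℕ, orderOf q = p ^ k) :
    ∃ x : C[Subgroup.zpowers q], (x : G) = q ∧ Pelt p x := by
  refine ⟨⟨q, ?_⟩, rfl, ⟨hq, rfl⟩⟩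
  rw [Theta.centralizer_zpowers, Subgroup.mem_centralizer_singleton_iff]

/-- Height zero: every section of the block occurs. -/
theorem exists_phi_ne_zero_height_zero [Fintype G] (hM : Cfsg.IsPModular p M)
    {B : Set (Cfsg.IrrCharacter G)} (hB : Cfsg.IsPBlock M B) {χ : Cfsg.IrrCharacter G}
    (hχ : χ ∈ B) (h0 : vdeg p χ = minVdeg p B) {q : G} (hq : ∃ k : ℕ, orderOf q = p ^ k)
    (ω : Blk (Res M) C[Subgroup.zpowers q])
    (h : PairOf p (blk hB) (⟨Subgroup.zpowers q, ω⟩ : Idx (Res M) G)) :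
    ∃ s : C[Subgroup.zpowers q], ¬ p ∣ orderOf s ∧ phi (χ : G → ℂ) q ω s ≠ 0 := by
  have := Fintype.ofFinite C[Subgroup.zpowers q]
  obtain ⟨x, hxq, hx⟩ := exists_pelt hq
  refine exists_phi_ne_zero hM χ hxq hx ω fun h1 => ?_
  exact not_memLocalIdeal_cX hM hx
    (isInducedBlock_of_pairOf (Comp.isPGroup_of_orderOf hq) hB h) hχ hχ h0 h0
    (h1 ▸ memLocalIdeal_zero)

/-- Central elements of a defect group: every character occurs. -/
theorem exists_phi_ne_zero_central [Fintype G] (hM : Cfsg.IsPModular p M)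
    {B : Set (Cfsg.IrrCharacter G)} (hB : Cfsg.IsPBlock M B) {χ : Cfsg.IrrCharacter G}
    (hχ : χ ∈ B) {b : Idx (Res M) G} (hb : Top p b) (hψb : PairOf p (blk hB) b) {q : G}
    (hqP : q ∈ b.1) (hqZ : q ∈ C[b.1]) (ω : Blk (Res M) C[Subgroup.zpowers q])
    (hle : Le p (⟨Subgroup.zpowers q, ω⟩ : Idx (Res M) G) b) :
    ∃ s : C[Subgroup.zpowers q], ¬ p ∣ orderOf s ∧ phi (χ : G → ℂ) q ω s ≠ 0 := by
  have := Fintype.ofFinite C[Subgroup.zpowers q]
  obtain ⟨P, e⟩ := b
  have hq : ∃ k : ℕ, orderOf q = p ^ k := by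
    obtain ⟨k, hk⟩ := IsPGroup.iff_orderOf.mp hb.1 ⟨q, hqP⟩
    exact ⟨k, by rw [← hk, ← Subgroup.orderOf_coe]⟩
  have hqg := Comp.isPGroup_of_orderOf hq
  have hpair : PairOf p (blk hB) (⟨Subgroup.zpowers q, ω⟩ : Idx (Res M) G) :=
    (pairOf_iff_of_le hb.1 hle _).mpr hψb
  obtain ⟨x, hxq, hx⟩ := exists_pelt hq
  refine exists_phi_ne_zero hM χ hxq hx ω (cX_self_ne_zero hM hx
    (isInducedBlock_of_pairOf hqg hB hpair) ?_ hχ)
  -- the defects agree
  have hPH : P ≤ C[Subgroup.zpowers q] := by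
    intro u hu
    rw [Theta.centralizer_zpowers, Subgroup.mem_centralizer_singleton_iff]
    exact hqZ u hu
  have hω := isPBlock_toSet (M := M) ω
  have hφ : BrauerPairs.Trunc.ext C[Subgroup.zpowers q] (bidem ω) =
      bext C[(⟨Subgroup.zpowers q, ω⟩ : Idx (Res M) G).1] ω := rfl
  obtain ⟨D, hD, hPD⟩ := BrauerPairs.LocalDefect.exists_inf_le_isDef
    (a := (⟨Subgroup.zpowers q, ω⟩ : Idx (Res M) G)) (b := (⟨P, e⟩ : Idx (Res M) G)) hb.1 hle
    (Subgroup.centralizer_le_normalizer _) ω hφ (R := P) le_rfl hPH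
  obtain ⟨y, -, hy⟩ := BrauerPairs.LocalDefect.exists_map_isDef_le hb hψb hle
    (Subgroup.centralizer_le_normalizer _) ω hφ (isFixedBy_bext _ ω) hD
  have hcard : Nat.card D = Nat.card P := by
    refine le_antisymm ?_ ?_
    · have h1 := Subgroup.card_le_of_le hy
      rwa [BrauerPairs.Maximal.card_map_conj, Subgroup.card_map_of_injective
        (Subgroup.subtype_injective _)] at h1
    · have h1 := Subgroup.card_le_of_le hPD
      rwa [Nat.card_congr (Subgroup.subgroupOfEquivOfLe hPH).toEquiv] at h1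
  have hD' : Cfsg.IsDefectGroup p M (toSet ω) D := by
    rw [isDefectGroup_iff hω, blk_toSet]; exact hD
  have hP' : Cfsg.IsDefectGroup p M B P := (isDefectGroup_iff hB P).mpr (isDef_of_top hb hψb)
  rw [card_isDefectGroup hM hω hD', card_isDefectGroup hM hB hP'] at hcard
  exact Nat.pow_right_injective (Fact.out : p.Prime).two_le hcard

end Cfsg.Agent.Lib.StarChar.Free
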