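import Cfsg.Agent.Lib.StarChar.NilpotentPairing
import Cfsg.Agent.Lib.StarChar.Free
import Cfsg.Agent.Lib.GaloisMean.Basic

/-!
# The characters of a nilpotent block

For a character `χ₀` of height zero in a nilpotent block with defect group `P`, the map taking an
irreducible character `ζ` of `P` to the star product `ζ * χ₀` is a bijection onto the block
(`exists_equiv`).
-/

set_option autoImplicit false

namespace Cfsg.Agent.Lib.StarChar.Nilpotent

open MonoidAlgebra
open scoped ComplexConjugate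
open Cfsg.Agent.Lib.Blocks Cfsg.Agent.Lib.Blocks.Contrib
open Cfsg.Agent.Lib.BrauerPairs.Center Cfsg.Agent.Lib.BrauerPairs.Conj
open Cfsg.Agent.Lib.BrauerPairs.Pairs Cfsg.Agent.Lib.BrauerPairs.Transport
open Cfsg.Agent.Lib.BrauerPairs.Maximal Cfsg.Agent.Lib.BrauerPairs.Bridge
open Cfsg.Agent.Lib.BrauerPairs.Fusion Cfsg.Agent.Lib.BC78.Galois
open Cfsg.Agent.Lib.StarChar.Comp Cfsg.Agent.Lib.StarChar.Section
open Cfsg.Agent.Lib.StarChar.NilpotentPairing Cfsg.Agent.Lib.Characters.Basic

universe u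

attribute [local instance] Ideal.Quotient.field

section General

variable {G : Type u} [Group G] [Fintype G]

/-- The inner product of generalized characters is an integer. -/
theorem exists_int_classInner {F F' : G → ℂ} (h : Cfsg.IsGeneralizedCharacter G F)
    (h' : Cfsg.IsGeneralizedCharacter G F') : ∃ n : ℤ, Cfsg.classInner F F' = n := by
  obtain ⟨a, b, ha, hb, rfl⟩ := h
  obtain ⟨c, d, hc, hd, rfl⟩ := h'
  obtain ⟨n₁, h₁⟩ := exists_classInner_nat ha hc
  obtain ⟨n₂, h₂⟩ := exists_classInner_nat ha hd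
  obtain ⟨n₃, h₃⟩ := exists_classInner_nat hb hc
  obtain ⟨n₄, h₄⟩ := exists_classInner_nat hb hd
  refine ⟨(n₁ : ℤ) - n₂ - ((n₃ : ℤ) - n₄), ?_⟩
  rw [Induced.Basic.classInner_sub_left, Induced.Basic.classInner_sub_right,
    Induced.Basic.classInner_sub_right, h₁, h₂, h₃, h₄]
  push_cast
  ring

/-- A family of positive algebraic integers permuted by the Galois automorphisms whose sum is at
most its cardinality is constantly one. -/
theorem eq_one_of_sum_le {ι : Type*} [Fintype ι] (x : ι → ℝ)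
    (hint : ∀ i, IsIntegral ℤ (x i : ℂ)) (hpos : ∀ i, 0 < x i)
    (hσ : ∀ σ : Alg ≃ₐ[ℚ] Alg, ∃ e : Equiv.Perm ι, ∀ i,
      ((σ ⟨(x i : ℂ), mem_alg_of_isIntegral (hint i)⟩ : Alg) : ℂ) = (x (e i) : ℂ))
    (hsum : ∑ i, x i ≤ Fintype.card ι) (i : ι) : x i = 1 := by
  classical
  have hz : IsIntegral ℤ (∏ i, (x i : ℂ)) := IsIntegral.prod _ fun i _ => hint i
  obtain ⟨m, hm⟩ := exists_int_of_fixed hz (by
    intro σ
    obtain ⟨e, he⟩ := hσ σ
    have h1 : (⟨∏ i, (x i : ℂ), mem_alg_of_isIntegral hz⟩ : Alg) =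
        ∏ i, (⟨(x i : ℂ), mem_alg_of_isIntegral (hint i)⟩ : Alg) := by
      apply Subtype.ext
      push_cast
      rfl
    rw [h1, map_prod]
    push_cast
    simp only [he]
    exact Equiv.prod_comp e (fun i => (x i : ℂ)))
  have hm' : (m : ℝ) = ∏ i, x i := by exact_mod_cast hm
  have h1 : (1 : ℝ) ≤ ∏ i, x i := by
    have hP : (0 : ℝ) < ∏ i, x i := Finset.prod_pos fun i _ => hpos i
    rw [← hm'] at hP ⊢
    have : (0 : ℤ) < m := by exact_mod_cast hP
    exact_mod_cast this
  have h2 : (0 : ℝ) ≤ Real.log (∏ i, x i) := Real.log_nonneg h1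
  rw [Real.log_prod (fun i _ => (hpos i).ne')] at h2
  by_contra hne
  have h3 : ∑ j, Real.log (x j) < ∑ j, (x j - 1) :=
    Finset.sum_lt_sum (fun j _ => Real.log_le_sub_one_of_pos (hpos j))
      ⟨i, Finset.mem_univ i, Real.log_lt_sub_one_of_pos (hpos i) hne⟩
  rw [Finset.sum_sub_distrib, Finset.sum_const, nsmul_one, Finset.card_univ] at h3
  linarith

end General

variable {M : Ideal Cfsg.AlgInt} [M.IsMaximal] {G : Type u} [Group G] [Fintype G]
  {p : ℕ} [Fact p.Prime]

local notation "C[" P "]" => Subgroup.centralizer ((P : Subgroup G) : Set G)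

variable [CharP (Res M) p] {b : Idx (Res M) G} {B : Set (Cfsg.IrrCharacter G)}
  (hM : Cfsg.IsPModular p M) {hB : Cfsg.IsPBlock M B} (hb : Top p b)
  (hψ : PairOf p (blk hB) b) (hnil : Nilp p (blk hB)) {χ₀ : Cfsg.IrrCharacter G} (hχ₀ : χ₀ ∈ B)
  (h0 : vdeg p χ₀ = minVdeg p B)

omit [CharP (Res M) p] [Fact p.Prime] in
theorem fz_const (q : G) (ω : Blk (Res M) C[Subgroup.zpowers q]) :
    fz p b (1 : b.1 → ℂ) q ω = 1 := by
  classical
  rw [fz]
  split_ifs <;> rfl

omit [CharP (Res M) p] in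
theorem star_const (χ : Cfsg.IrrCharacter G) :
    starFn χ (fz p b (1 : b.1 → ℂ)) p = (χ : G → ℂ) :=
  funext fun g => star_of_eq_one χ _ (fun q ω => fz_const q ω) g

omit [CharP (Res M) p] in
/-- On the regular elements the star product is a multiple. -/
theorem star_regular (χ : Cfsg.IrrCharacter G) (ζ : b.1 → ℂ) {s : G} (hs : ¬ p ∣ orderOf s) :
    starFn χ (fz p b ζ) p s = ζ 1 * (χ : G → ℂ) s := by
  classical
  have hpp : pp p s = 1 := by
    have h := pp_mul (p := p) (q := (1 : G)) ⟨0, by rw [orderOf_one, pow_zero]⟩ hs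
      (Commute.one_left s)
    rwa [one_mul] at h
  have := Fintype.ofFinite (Blk (Res M) C[Subgroup.zpowers (1 : G)])
  rw [starFn, hpp, comp_eq]
  simp only [fz_one, ← Finset.mul_sum]
  rw [← map_sum, ← Finset.mul_sum, ← map_sum, sum_eHat, map_one, mul_one, Blocks.lin_single,
    one_mul]

include hM hb hψ hnil hχ₀ h0

/-- The weighted norm of the part of a character of height zero on a section is one over the
order of the defect group. -/
theorem card_mul_wt [Fintype b.1] (u : b.1) :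
    (Fintype.card b.1 : ℂ) * (wt u * phiSum p χ₀ χ₀ (u : G) (blkAt hb.1 u)) = 1 := by
  classical
  have := Fintype.ofFinite (Cfsg.IrrCharacter b.1)
  have hblk : blkOf M χ₀ = blk hB := blkOf_of_mem hB hχ₀
  set f : b.1 → ℂ := fun u =>
    (Fintype.card b.1 : ℂ) * (wt u * phiSum p χ₀ χ₀ (u : G) (blkAt hb.1 u)) with hf
  -- real and positive
  have hreal : ∀ u, ∃ r : ℝ, 0 < r ∧ f u = (r : ℂ) := by
    intro u
    have := Fintype.ofFinite C[Subgroup.zpowers (u : G)]
    obtain ⟨k, hk⟩ := IsPGroup.iff_orderOf.mp hb.1 u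
    obtain ⟨s, hs, hne⟩ := Free.exists_phi_ne_zero_height_zero hM hB hχ₀ h0
      (q := (u : G)) ⟨k, by rw [← hk, Subgroup.orderOf_coe]⟩ (blkAt hb.1 u)
      ((pairOf_iff_of_le hb.1 (le_blkAt hb.1 u) _).mpr hψ)
    let S : ℝ := ∑ s : C[Subgroup.zpowers (u : G)], if p ∣ orderOf s then 0
      else Complex.normSq (phi (χ₀ : G → ℂ) (u : G) (blkAt hb.1 u) s)
    have hS : 0 < S := by
      refine Finset.sum_pos' (fun t _ => ?_) ⟨s, Finset.mem_univ s, ?_⟩
      · split_ifs
        exacts [le_rfl, Complex.normSq_nonneg _]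
      · rw [if_neg hs]
        exact Complex.normSq_pos.mpr hne
    refine ⟨(Fintype.card b.1 : ℝ) *
      (((Nat.card {w : b.1 // IsConj u w} : ℝ) * Nat.card C[Subgroup.zpowers (u : G)])⁻¹ * S),
        ?_, ?_⟩
    · have : 0 < Nat.card {w : b.1 // IsConj u w} :=
        Nat.card_pos_iff.mpr ⟨⟨⟨u, IsConj.refl u⟩⟩, inferInstance⟩
      have : 0 < Nat.card C[Subgroup.zpowers (u : G)] := Nat.card_pos
      have : 0 < Fintype.card b.1 := Fintype.card_pos
      positivity
    · rw [hf]
      simp only [wt, phiSum_eq, S, Complex.ofReal_mul, Complex.ofReal_inv, Complex.ofReal_natCast,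
        Complex.ofReal_sum, apply_ite Complex.ofReal, Complex.ofReal_zero, Complex.mul_conj]
  choose r hr hfr using hreal
  -- a generalized character
  have hcl : Cfsg.IsClassFunction b.1 f := fun u v => by
    simp only [hf, wt_mul_phiSum_conj hb χ₀ χ₀ u v]
  have hn : ∀ ξ : Cfsg.IrrCharacter b.1, ∃ n : ℤ, Cfsg.classInner f ξ = n := by
    intro ξ
    have hξ := isClassFunction_irr ξ
    obtain ⟨n, hn⟩ := exists_int_classInner
      (⟨_, 0, isCharacter_irr χ₀, isCharacter_zero, (sub_zero _).symm⟩ :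
        Cfsg.IsGeneralizedCharacter G (χ₀ : G → ℂ))
      (isGeneralized_star χ₀ _ hM (fz_isInv hb hψ hnil hξ)
        (fz_isCoherent hb hψ hnil (isCharacter_irr ξ)))
    refine ⟨n, ?_⟩
    rw [← hn]
    conv_rhs => arg 1; rw [← star_const (b := b) (p := p) (M := M) χ₀]
    rw [NilpotentPairing.classInner_star hb hψ hnil hM hblk (fun _ _ => rfl) hξ, Cfsg.classInner,
      Finset.mul_sum, Nat.card_eq_fintype_card]
    refine Finset.sum_congr rfl fun u _ => ?_
    have hc : (Fintype.card b.1 : ℂ) ≠ 0 := Nat.cast_ne_zero.mpr Fintype.card_ne_zero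
    simp only [hf, Pi.one_apply, one_mul]
    field_simp
  choose n hn using hn
  obtain ⟨a, c, ha, hc, hac⟩ : Cfsg.IsGeneralizedCharacter b.1 f := by
    have e : f = fun u => ∑ ξ : Cfsg.IrrCharacter b.1, (n ξ : ℂ) * (ξ : b.1 → ℂ) u := by
      conv_lhs => rw [Characters.Complete.classFunction_eq_sum hcl]
      funext u
      rw [BlockPart.sum_smul_apply]
      exact Finset.sum_congr rfl fun ξ _ => by rw [hn]
    rw [e]
    exact BC77.Reg.isGeneralized_intComb n
  have hint : ∀ u, IsIntegral ℤ (r u : ℂ) := fun u => by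
    rw [← hfr, hac]
    exact (isIntegral_apply ha u).sub (isIntegral_apply hc u)
  have hσ : ∀ σ : Alg ≃ₐ[ℚ] Alg, ∃ e : Equiv.Perm b.1, ∀ i,
      ((σ ⟨(r i : ℂ), mem_alg_of_isIntegral (hint i)⟩ : Alg) : ℂ) = (r (e i) : ℂ) := by
    intro σ
    obtain ⟨k, hk, hσ⟩ := exists_exponent_char (G := b.1) σ
    refine ⟨powCoprime hk.symm, fun u => ?_⟩
    have hma := mem_alg_of_isIntegral (isIntegral_apply ha u)
    have hmc := mem_alg_of_isIntegral (isIntegral_apply hc u)
    have e : (⟨(r u : ℂ), mem_alg_of_isIntegral (hint u)⟩ : Alg) = ⟨a u, hma⟩ - ⟨c u, hmc⟩ :=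
      Subtype.ext (by
        show (r u : ℂ) = a u - c u
        rw [← hfr, hac, Pi.sub_apply])
    rw [e, map_sub]
    push_cast
    rw [hσ a ha u hma, hσ c hc u hmc, ← hfr, hac, Pi.sub_apply]
    rfl
  have hsum : ∑ u, r u ≤ Fintype.card b.1 := by
    have h1 : Cfsg.classInner (starFn χ₀ (fz p b (1 : b.1 → ℂ)) p)
        (starFn χ₀ (fz p b (1 : b.1 → ℂ)) p) = 1 := by
      rw [star_const]
      exact classInner_self_irr χ₀
    rw [NilpotentPairing.classInner_star hb hψ hnil hM hblk (fun _ _ => rfl) (fun _ _ => rfl)] at h1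
    have h2 : ((∑ u, r u : ℝ) : ℂ) = ((Fintype.card b.1 : ℝ) : ℂ) := by
      rw [Complex.ofReal_sum, Complex.ofReal_natCast, ← mul_one (Fintype.card b.1 : ℂ), ← h1,
        Finset.mul_sum]
      refine Finset.sum_congr rfl fun u _ => ?_
      rw [← hfr]
      simp [hf]
    exact (Complex.ofReal_injective h2).le
  show f u = 1
  rw [hfr, eq_one_of_sum_le r hint hr hσ hsum u, Complex.ofReal_one]

/-- The star product of the character of height zero with an irreducible character of the defect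
group is an irreducible character of the block. -/
theorem exists_irr [Fintype b.1] (ζ : Cfsg.IrrCharacter b.1) :
    ∃ Θ : Cfsg.IrrCharacter G, Θ ∈ B ∧ (Θ : G → ℂ) = starFn χ₀ (fz p b (ζ : b.1 → ℂ)) p := by
  classical
  have hblk : blkOf M χ₀ = blk hB := blkOf_of_mem hB hχ₀
  have hζ := isClassFunction_irr ζ
  have hgen := isGeneralized_star χ₀ _ hM (fz_isInv hb hψ hnil hζ)
    (fz_isCoherent hb hψ hnil (isCharacter_irr ζ))
  obtain ⟨d, hd, hd'⟩ := exists_degree_pos χ₀
  obtain ⟨e, he, he'⟩ := exists_degree_pos ζ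
  have hnorm : Cfsg.classInner (starFn χ₀ (fz p b (ζ : b.1 → ℂ)) p)
      (starFn χ₀ (fz p b (ζ : b.1 → ℂ)) p) = 1 := by
    rw [NilpotentPairing.classInner_star hb hψ hnil hM hblk hζ hζ, ← classInner_self_irr ζ,
      Cfsg.classInner, Finset.mul_sum, Nat.card_eq_fintype_card]
    refine Finset.sum_congr rfl fun u _ => ?_
    congr 1
    exact eq_inv_of_mul_eq_one_left
      ((mul_comm _ _).trans (card_mul_wt hM hb hψ hnil hχ₀ h0 u))
  have h1 : starFn χ₀ (fz p b (ζ : b.1 → ℂ)) p 1 = ((e * d : ℕ) : ℂ) := by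
    rw [star_regular χ₀ _ (by rw [orderOf_one]; exact (Fact.out : p.Prime).not_dvd_one), he', hd',
      Nat.cast_mul]
  let Θ : Cfsg.IrrCharacter G := ⟨_, isIrr_of_norm_one hgen hnorm (Nat.mul_pos he hd) h1⟩
  refine ⟨Θ, ?_, rfl⟩
  rw [← toSet_blk hB, mem_toSet, blkOf_star χ₀ _ hM (Θ := Θ) rfl, hblk]

/-- **The characters of a nilpotent block.** -/
theorem exists_equiv :
    ∃ Φ : Cfsg.IrrCharacter b.1 ≃ B, ∀ ζ : Cfsg.IrrCharacter b.1,
      ((Φ ζ : Cfsg.IrrCharacter G) : G → ℂ) = starFn χ₀ (fz p b (ζ : b.1 → ℂ)) p := by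
  classical
  have := Fintype.ofFinite b.1
  have hblk : blkOf M χ₀ = blk hB := blkOf_of_mem hB hχ₀
  choose Θ hΘB hΘ using fun ζ => exists_irr hM hb hψ hnil hχ₀ h0 ζ
  let F : Cfsg.IrrCharacter b.1 → B := fun ζ => ⟨Θ ζ, hΘB ζ⟩
  have hinj : Function.Injective F := by
    intro ζ ξ h
    by_contra hne
    have h1 : (Θ ζ : G → ℂ) = (Θ ξ : G → ℂ) := congrArg (fun a : B => (a.1 : G → ℂ)) h
    refine one_ne_zero (α := ℂ) (Eq.trans ?_ (classInner_irr_of_ne hne))
    rw [← classInner_self_irr (Θ ξ), show Cfsg.classInner (Θ ξ : G → ℂ) (Θ ξ) =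
        Cfsg.classInner (Θ ζ : G → ℂ) (Θ ξ) by rw [h1], hΘ, hΘ,
      NilpotentPairing.classInner_star hb hψ hnil hM hblk (isClassFunction_irr ζ)
        (isClassFunction_irr ξ), Cfsg.classInner, Finset.mul_sum]
    refine Finset.sum_congr rfl fun u _ => ?_
    rw [Nat.card_eq_fintype_card]
    congr 1
    exact eq_inv_of_mul_eq_one_left
      ((mul_comm _ _).trans (card_mul_wt hM hb hψ hnil hχ₀ h0 u))
  have hsurj : Function.Surjective F := by
    rintro ⟨χ, hχ⟩
    by_contra hno
    push Not at hno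
    have hblkχ : blkOf M χ = blk hB := blkOf_of_mem hB hχ
    let Fc : b.1 → ℂ := fun u => (Fintype.card b.1 : ℂ) *
      (wt u * phiSum p χ χ₀ (u : G) (blkAt hb.1 u))
    have hcl : Cfsg.IsClassFunction b.1 Fc := fun u v => by
      simp only [Fc, wt_mul_phiSum_conj hb χ χ₀ u v]
    have hz : ∀ ξ : Cfsg.IrrCharacter b.1, Cfsg.classInner Fc ξ = 0 := by
      intro ξ
      have h1 : Cfsg.classInner (χ : G → ℂ) (Θ ξ) = 0 :=
        classInner_irr_of_ne fun e => hno ξ (Subtype.ext e.symm)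
      rw [hΘ] at h1
      conv_lhs at h1 => arg 1; rw [← star_const (b := b) (p := p) (M := M) χ]
      rw [NilpotentPairing.classInner_star hb hψ hnil hM hblkχ (fun _ _ => rfl)
        (isClassFunction_irr ξ)] at h1
      rw [← h1, Cfsg.classInner, Finset.mul_sum, Nat.card_eq_fintype_card]
      refine Finset.sum_congr rfl fun u _ => ?_
      have hc : (Fintype.card b.1 : ℂ) ≠ 0 := Nat.cast_ne_zero.mpr Fintype.card_ne_zero
      simp only [Fc, Pi.one_apply, one_mul]
      field_simp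
    have hFc := Characters.Complete.eq_zero_of_classInner_eq_zero hcl hz
    -- the function supported at the identity
    let δ : b.1 → ℂ := fun u => if u = 1 then 1 else 0
    have hδ : Cfsg.IsClassFunction b.1 δ := fun g h => by
      simp only [δ]
      exact if_congr ⟨fun e => conj_eq_one_iff.mp e, fun e => by rw [e, mul_one, mul_inv_cancel]⟩
        rfl rfl
    have h1 : Cfsg.classInner (starFn χ (fz p b δ) p) (χ₀ : G → ℂ) = 0 := by
      rw [← star_const (b := b) (p := p) (M := M) χ₀,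
        NilpotentPairing.classInner_star hb hψ hnil hM hblkχ hδ (fun _ _ => rfl)]
      refine Finset.sum_eq_zero fun u _ => ?_
      have h2 : Fc u = 0 := congrFun hFc u
      rcases mul_eq_zero.mp h2 with h3 | h3
      · exact absurd h3 (Nat.cast_ne_zero.mpr Fintype.card_ne_zero)
      · rw [h3, zero_mul]
    have h2 : ∀ g : G, starFn χ (fz p b δ) p g =
        if p ∣ orderOf g then 0 else (χ : G → ℂ) g := by
      intro g
      split_ifs with hg
      · obtain ⟨y, hy, hc, hq, hy'⟩ := isPPart_pp (p := p) g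
        set q := pp p g
        have hq1 : q ≠ 1 := by
          intro e
          rw [e, one_mul] at hy
          exact hy' (hy ▸ hg)
        have hyC : y ∈ C[Subgroup.zpowers q] := by
          rw [Theta.centralizer_zpowers, Subgroup.mem_centralizer_singleton_iff]
          exact hc.symm.eq
        have := Fintype.ofFinite (Blk (Res M) C[Subgroup.zpowers q])
        have hs : ¬ p ∣ orderOf (⟨y, hyC⟩ : C[Subgroup.zpowers q]) := by
          rwa [← Subgroup.orderOf_coe]
        rw [← hy, show y = ((⟨y, hyC⟩ : C[Subgroup.zpowers q]) : G) from rfl,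
          star_mul χ _ hq hs]
        refine Finset.sum_eq_zero fun ω _ => ?_
        by_cases hp : PairOf p (blk hB) (⟨Subgroup.zpowers q, ω⟩ : Idx (Res M) G)
        · obtain ⟨x, hx⟩ := exists_le_conj_top hp hb hψ
          rw [fz_eq hb hψ hnil hδ hx]
          simp only [δ]
          rw [if_neg, zero_mul]
          intro e
          exact hq1 (conj_eq_one_iff.mp (congrArg Subtype.val e))
        · rw [phi_eq_zero χ hM hq ω (hblkχ ▸ hp) hs, mul_zero]
      · rw [star_regular χ δ hg]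
        simp [δ]
    refine contribN_ne_zero hM hB hχ₀ h0 hχ ?_
    have h3 : regSum p (χ : G → ℂ) (χ₀ : G → ℂ) = 0 := by
      rw [Cfsg.classInner, mul_eq_zero, inv_eq_zero] at h1
      rw [regSum_eq_sum]
      refine Eq.trans (Finset.sum_congr rfl fun g _ => ?_)
        (h1.resolve_left (Nat.cast_ne_zero.mpr Nat.card_pos.ne'))
      rw [h2, apply_inv (isCharacter_irr χ₀) g]
      split_ifs <;> simp
    rw [regSum_comm, regSum_eq_contribN] at h3
    exact_mod_cast (mul_eq_zero.mp h3).resolve_left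
      (Nat.cast_ne_zero.mpr (primeToCard_pos p).ne')
  exact ⟨Equiv.ofBijective F ⟨hinj, hsurj⟩, fun ζ => hΘ ζ⟩

end Cfsg.Agent.Lib.StarChar.Nilpotent
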