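import Cfsg.Agent.Lib.StarChar.Comp
import Cfsg.Agent.Lib.BC78.Subsections
import Cfsg.Agent.Lib.BrauerPairs.InducedPair

/-!
# The star product on the sections

At the `p`-element `q` and the regular element `s` of `C(q)` the star product is
`∑ f (q, ω) * phi q ω s`.  It preserves the norm, the block and composes multiplicatively
(`exists_star_irr`, `blkOf_star`, `phi_star`).
-/

set_option autoImplicit false

namespace Cfsg.Agent.Lib.StarChar.Section

open MonoidAlgebra
open scoped ComplexConjugate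
open Cfsg.Agent.Lib.Blocks (localRing residue lin)
open Cfsg.Agent.Lib.Blocks.BlockPart Cfsg.Agent.Lib.Blocks.SectionPart
open Cfsg.Agent.Lib.BrauerPairs.Center Cfsg.Agent.Lib.BrauerPairs.Trunc
open Cfsg.Agent.Lib.BrauerPairs.Conj Cfsg.Agent.Lib.BrauerPairs.Pairs
open Cfsg.Agent.Lib.BrauerPairs.Maximal Cfsg.Agent.Lib.BrauerPairs.Bridge
open Cfsg.Agent.Lib.BC78.Subsections
open Cfsg.Agent.Lib.StarChar.Fixed Cfsg.Agent.Lib.StarChar.Comp
open Cfsg.Agent.Lib.StarChar.Equiv Cfsg.Agent.Lib.StarChar.Integrality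
open Cfsg.Agent.Lib.Characters.Basic Cfsg.Agent.Lib.Induced.Basic

universe u

attribute [local instance] Ideal.Quotient.field

variable {M : Ideal Cfsg.AlgInt} [M.IsMaximal] {G : Type u} [Group G] [Finite G]
  {p : ℕ} [Fact p.Prime]

local notation "C[" P "]" => Subgroup.centralizer ((P : Subgroup G) : Set G)

/-- The part in the block `ω` of a class function on the section of `q`. -/
noncomputable def phi (F : G → ℂ) (q : G) (ω : Blk (Res M) C[Subgroup.zpowers q]) :
    C[Subgroup.zpowers q] → ℂ :=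
  Cfsg.blockPart (toSet ω) (sect q C[Subgroup.zpowers q] F)

omit [Finite G] in
theorem commute_section {q : G} (v : G) (hv : v ∈ C[Subgroup.zpowers q]) : Commute q v :=
  hv q (Subgroup.mem_zpowers q)

variable (χ : Cfsg.IrrCharacter G)
  (f : ∀ q : G, Blk (Res M) (Subgroup.centralizer (Subgroup.zpowers q : Set G)) → ℂ)

theorem lin_eq_phi (q : G) (ω : Blk (Res M) C[Subgroup.zpowers q])
    (s : C[Subgroup.zpowers q]) :
    lin (χ : G → ℂ) (single (q * (s : G)) 1 * toC (eHat C[Subgroup.zpowers q] ω)) =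
      phi (χ : G → ℂ) q ω s := by
  classical
  have := Fintype.ofFinite C[Subgroup.zpowers q]
  rw [phi, blockPart_eq_sum _ (isClassFunction_sect commute_section (isClassFunction_irr χ))]
  have hdec : toC (eHat C[Subgroup.zpowers q] ω) = ∑ k : C[Subgroup.zpowers q],
      Cfsg.blockCoeff (toSet ω) k • single (k : G) (1 : ℂ) := by
    refine MonoidAlgebra.ext (Finsupp.ext fun g => ?_)
    rw [show (toC (eHat C[Subgroup.zpowers q] ω)).coeff g =
      (((eHat C[Subgroup.zpowers q] ω).coeff g : localRing M) : ℂ) by simp [toC]]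
    simp only [coeff_sum, Finsupp.finsetSum_apply, coeff_smul, Finsupp.smul_apply, coeff_single,
      Finsupp.single_apply, smul_eq_mul, mul_ite, mul_one, mul_zero]
    by_cases hg : g ∈ C[Subgroup.zpowers q]
    · rw [Finset.sum_eq_single ⟨g, hg⟩
        (fun b _ hb => if_neg fun e => hb (Subtype.ext e))
        (fun h => absurd (Finset.mem_univ _) h), if_pos rfl]
      exact coeff_eHat C[Subgroup.zpowers q] ω ⟨g, hg⟩
    · rw [coeff_eHat_of_notMem _ _ hg, ZeroMemClass.coe_zero]
      symm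
      refine Finset.sum_eq_zero fun b _ => if_neg fun e => hg ?_
      rw [← e]
      exact b.2
  rw [hdec, Finset.mul_sum, map_sum]
  refine Finset.sum_congr rfl fun k _ => ?_
  rw [mul_smul_comm, map_smul, single_mul_single, one_mul, Blocks.lin_single, one_mul, smul_eq_mul,
    sect_apply, Subgroup.coe_mul, mul_assoc]

variable [CharP (Res M) p]

omit [CharP (Res M) p] in
theorem star_mul {q : G} (hq : ∃ k : ℕ, orderOf q = p ^ k) {s : C[Subgroup.zpowers q]}
    (hs : ¬ p ∣ orderOf s) [Fintype (Blk (Res M) C[Subgroup.zpowers q])] :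
    starFn χ f p (q * (s : G)) =
      ∑ ω : Blk (Res M) C[Subgroup.zpowers q], f q ω * phi (χ : G → ℂ) q ω s := by
  rw [starFn, pp_mul hq (by rwa [Subgroup.orderOf_coe]) (commute_section _ s.2), comp_eq]
  exact Finset.sum_congr rfl fun ω _ => by rw [lin_eq_phi]

omit [CharP (Res M) p] in
theorem phi_mem_regSpan (F : G → ℂ) (q : G) (ω : Blk (Res M) C[Subgroup.zpowers q]) :
    Cfsg.pRegularPart p (phi F q ω) ∈ regSpan p (toSet ω) := by
  classical
  have := Fintype.ofFinite C[Subgroup.zpowers q]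
  have e : Cfsg.pRegularPart p (phi F q ω) = ∑ φ ∈ (Set.toFinite (toSet ω)).toFinset,
      Cfsg.classInner (sect q C[Subgroup.zpowers q] F) φ •
        Cfsg.pRegularPart p (φ : C[Subgroup.zpowers q] → ℂ) := by
    funext s
    rw [Finset.sum_apply, Blocks.Contrib.pRegularPart_apply, phi, blockPart_apply]
    split_ifs with h
    · exact (Finset.sum_eq_zero fun φ _ => by
        rw [Pi.smul_apply, Blocks.Contrib.pRegularPart_apply, if_pos h, smul_zero]).symm
    · refine Finset.sum_congr rfl fun φ _ => ?_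
      rw [Pi.smul_apply, Blocks.Contrib.pRegularPart_apply, if_neg h, smul_eq_mul]
  rw [e]
  exact Submodule.sum_mem _ fun φ hφ => Submodule.smul_mem _ _
    (Submodule.subset_span ⟨φ, (Set.Finite.mem_toFinset _).mp hφ, rfl⟩)

/-- Only the blocks of the pairs of the block of `χ` occur. -/
theorem phi_eq_zero (hM : Cfsg.IsPModular p M) {q : G} (hq : ∃ k : ℕ, orderOf q = p ^ k)
    (ω : Blk (Res M) C[Subgroup.zpowers q])
    (hne : ¬ PairOf p (blkOf M χ) (⟨Subgroup.zpowers q, ω⟩ : Idx (Res M) G))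
    {s : C[Subgroup.zpowers q]} (hs : ¬ p ∣ orderOf s) : phi (χ : G → ℂ) q ω s = 0 := by
  have := Fintype.ofFinite G
  have := Fintype.ofFinite C[Subgroup.zpowers q]
  have hP := isPGroup_of_orderOf hq
  obtain ⟨ψ, hψ, -⟩ := existsUnique_pairOf (⟨Subgroup.zpowers q, ω⟩ : Idx (Res M) G) hP
  have hind : Cfsg.IsInducedBlock M C[Subgroup.zpowers q] (toSet ω) (toSet ψ) := by
    rw [BrauerPairs.InducedPair.isInducedBlock_iff hP (isPBlock_toSet ω) (isPBlock_toSet ψ),
      blk_toSet, blk_toSet]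
    exact hψ
  exact blockPart_sect_eq_zero hM hq rfl hind (fun h => hne ((mem_toSet.mp h).symm ▸ hψ)) hs

open scoped Classical in
theorem sum_fibre [Fintype G] (F : G → ℂ)
    [∀ q : G, Fintype C[Subgroup.zpowers q]] :
    ∑ g : G, F g = ∑ q ∈ Finset.univ.filter (fun q : G => ∃ k : ℕ, orderOf q = p ^ k),
      ∑ s : C[Subgroup.zpowers q], if p ∣ orderOf s then 0 else F (q * (s : G)) := by
  rw [← Finset.sum_fiberwise_of_maps_to (g := pp p)
    (t := Finset.univ.filter fun q : G => ∃ k : ℕ, orderOf q = p ^ k) (fun g _ => by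
      obtain ⟨y, -, -, h, -⟩ := isPPart_pp (p := p) g
      exact Finset.mem_filter.mpr ⟨Finset.mem_univ _, h⟩)]
  refine Finset.sum_congr rfl fun q hq => ?_
  have hq' := (Finset.mem_filter.mp hq).2
  refine (Finset.sum_of_injOn (fun s : C[Subgroup.zpowers q] => q * (s : G))
    (t := Finset.univ.filter fun g : G => pp p g = q)
    (s := Finset.univ.filter fun s : C[Subgroup.zpowers q] => ¬ p ∣ orderOf s)
    (g := F) (f := fun s => F (q * (s : G)))
    (fun a _ b _ h => Subtype.ext (mul_left_cancel h)) (fun s hs => ?_) (fun g hg hn => ?_)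
    (fun s _ => rfl)).symm.trans ?_
  · refine Finset.mem_filter.mpr ⟨Finset.mem_univ _, pp_mul hq' ?_ (commute_section _ s.2)⟩
    rw [Subgroup.orderOf_coe]
    exact (Finset.mem_filter.mp hs).2
  · exfalso
    obtain ⟨y, hy, hc, -, hy'⟩ := isPPart_pp (p := p) g
    rw [(Finset.mem_filter.mp hg).2] at hy hc
    have hyC : y ∈ C[Subgroup.zpowers q] := by
      rw [Theta.centralizer_zpowers, Subgroup.mem_centralizer_singleton_iff]
      exact hc.symm.eq
    exact hn ⟨⟨y, hyC⟩, Finset.mem_filter.mpr ⟨Finset.mem_univ _, by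
      rwa [← Subgroup.orderOf_coe]⟩, hy⟩
  · rw [Finset.sum_filter]
    exact Finset.sum_congr rfl fun s _ => (ite_not _ _ _)

omit [CharP (Res M) p] in
/-- The parts in two blocks are orthogonal on the regular elements. -/
theorem sum_phi_mul (hM : Cfsg.IsPModular p M) (F F' : G → ℂ) {q : G}
    [Fintype C[Subgroup.zpowers q]] {ω ν : Blk (Res M) C[Subgroup.zpowers q]} (h : ω ≠ ν) :
    ∑ s : C[Subgroup.zpowers q],
      (if p ∣ orderOf s then 0 else phi F q ω s * conj (phi F' q ν s)) = 0 := by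
  have h1 := orth hM (isPBlock_toSet ω) (isPBlock_toSet ν) (fun e => h (toSet_injective e))
    (phi_mem_regSpan (p := p) F q ω) (phi_mem_regSpan (p := p) F' q ν)
  rw [Cfsg.classInner, mul_eq_zero, inv_eq_zero] at h1
  refine Eq.trans (Finset.sum_congr rfl fun s _ => ?_)
    (h1.resolve_left (Nat.cast_ne_zero.mpr Nat.card_pos.ne'))
  rw [Blocks.Contrib.pRegularPart_apply, Blocks.Contrib.pRegularPart_apply]
  split_ifs <;> simp

omit [CharP (Res M) p] in
open scoped Classical in
/-- The product of two star products summed over the group. -/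
theorem sum_star_mul [Fintype G] (hM : Cfsg.IsPModular p M) (ψ : Cfsg.IrrCharacter G)
    (f' : ∀ q : G, Blk (Res M) (Subgroup.centralizer (Subgroup.zpowers q : Set G)) → ℂ)
    [∀ q : G, Fintype C[Subgroup.zpowers q]]
    [∀ q : G, Fintype (Blk (Res M) C[Subgroup.zpowers q])] :
    ∑ g : G, starFn χ f p g * conj (starFn ψ f' p g) =
      ∑ q ∈ Finset.univ.filter (fun q : G => ∃ k : ℕ, orderOf q = p ^ k),
        ∑ ω : Blk (Res M) C[Subgroup.zpowers q], f q ω * conj (f' q ω) *
          ∑ s : C[Subgroup.zpowers q], (if p ∣ orderOf s then 0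
            else phi (χ : G → ℂ) q ω s * conj (phi (ψ : G → ℂ) q ω s)) := by
  rw [sum_fibre (p := p)]
  refine Finset.sum_congr rfl fun q hq => ?_
  have hq' := (Finset.mem_filter.mp hq).2
  have e : ∀ s : C[Subgroup.zpowers q],
      (if p ∣ orderOf s then 0 else starFn χ f p (q * (s : G)) * conj (starFn ψ f' p (q * (s : G)))) =
        ∑ ω : Blk (Res M) C[Subgroup.zpowers q], ∑ ν : Blk (Res M) C[Subgroup.zpowers q],
          f q ω * conj (f' q ν) * (if p ∣ orderOf s then 0
            else phi (χ : G → ℂ) q ω s * conj (phi (ψ : G → ℂ) q ν s)) := by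
    intro s
    split_ifs with hs
    · simp
    · rw [star_mul χ f hq' hs, star_mul ψ f' hq' hs, map_sum, Finset.sum_mul_sum]
      refine Finset.sum_congr rfl fun ω _ => Finset.sum_congr rfl fun ν _ => ?_
      rw [map_mul]
      ring
  rw [Finset.sum_congr rfl fun s _ => e s, Finset.sum_comm]
  refine Finset.sum_congr rfl fun ω _ => ?_
  rw [Finset.sum_comm, Finset.sum_eq_single ω
    (fun ν _ hν => by rw [← Finset.mul_sum, sum_phi_mul hM _ _ hν.symm, mul_zero])
    (fun h => absurd (Finset.mem_univ _) h), Finset.mul_sum]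

/-- A function of modulus one keeps the norm. -/
theorem classInner_star [Fintype G] (hM : Cfsg.IsPModular p M)
    (hf : ∀ q ω, f q ω * conj (f q ω) = 1) :
    Cfsg.classInner (starFn χ f p) (starFn χ f p) = 1 := by
  classical
  have : ∀ q : G, Fintype C[Subgroup.zpowers q] := fun q => Fintype.ofFinite _
  have : ∀ q : G, Fintype (Blk (Res M) C[Subgroup.zpowers q]) := fun q => Fintype.ofFinite _
  have h1 : starFn χ (fun (_ : G) (_ : Blk (Res M) _) => (1 : ℂ)) p = (χ : G → ℂ) :=
    funext (star_of_eq_one (M := M) χ _ fun _ _ => rfl)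
  rw [← classInner_self_irr χ]
  conv_rhs => rw [← h1]
  rw [Cfsg.classInner, Cfsg.classInner, sum_star_mul χ f hM χ f, sum_star_mul χ _ hM χ _]
  simp only [hf, map_one, mul_one]

/-- A generalized character of norm one with positive degree is irreducible. -/
theorem isIrr_of_norm_one [Fintype G] {F : G → ℂ} (hgen : Cfsg.IsGeneralizedCharacter G F)
    (hnorm : Cfsg.classInner F F = 1) {d : ℕ} (hd : 0 < d) (h1 : F 1 = d) :
    Cfsg.IsIrrCharacter G F := by
  classical
  have := Fintype.ofFinite (Cfsg.IrrCharacter G)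
  obtain ⟨a, b, ha, hb, rfl⟩ := hgen
  have hn : ∀ φ : Cfsg.IrrCharacter G, ∃ n : ℤ, Cfsg.classInner (a - b) φ = n := by
    intro φ
    obtain ⟨i, hi⟩ := exists_classInner_nat ha (isCharacter_irr φ)
    obtain ⟨j, hj⟩ := exists_classInner_nat hb (isCharacter_irr φ)
    refine ⟨(i : ℤ) - j, ?_⟩
    push_cast
    rw [← hi, ← hj]
    simp only [Cfsg.classInner, Pi.sub_apply, sub_mul, Finset.sum_sub_distrib, mul_sub]
  choose n hn using hn
  have hcl : Cfsg.IsClassFunction G (a - b) := fun g t => by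
    rw [Pi.sub_apply, Pi.sub_apply, isClassFunction_of_isCharacter ha g t,
      isClassFunction_of_isCharacter hb g t]
  have hexp : a - b = ∑ φ : Cfsg.IrrCharacter G, (n φ : ℂ) • (φ : G → ℂ) := by
    conv_lhs => rw [Characters.Complete.classFunction_eq_sum hcl]
    simp only [hn]
  have hsq : ∑ φ : Cfsg.IrrCharacter G, n φ * n φ = 1 := by
    have e : Cfsg.classInner (a - b) (a - b) = ∑ φ : Cfsg.IrrCharacter G, (n φ : ℂ) * n φ := by
      conv_lhs => arg 1; rw [hexp]
      rw [classInner_sum_left]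
      refine Finset.sum_congr rfl fun φ _ => ?_
      rw [classInner_smul_left, ← classInner_conj_symm (a - b), hn, map_intCast]
    rw [hnorm] at e
    exact_mod_cast e.symm
  obtain ⟨φ₀, hφ₀⟩ : ∃ φ, n φ ≠ 0 := by
    by_contra h
    push Not at h
    simp [h] at hsq
  have hle : n φ₀ * n φ₀ ≤ 1 := hsq ▸
    Finset.single_le_sum (f := fun φ => n φ * n φ) (fun φ _ => mul_self_nonneg _)
      (Finset.mem_univ φ₀)
  have hsq1 : n φ₀ * n φ₀ = 1 := le_antisymm hle
    (Int.add_one_le_iff.mpr (lt_of_le_of_ne (mul_self_nonneg _) (mul_ne_zero hφ₀ hφ₀).symm))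
  have hzero : ∀ φ, φ ≠ φ₀ → n φ = 0 := fun φ hφ => by
    have h2 := Finset.add_sum_erase Finset.univ (fun φ => n φ * n φ) (Finset.mem_univ φ₀)
    rw [hsq, hsq1, add_eq_left] at h2
    exact mul_self_eq_zero.mp ((Finset.sum_eq_zero_iff_of_nonneg fun φ _ => mul_self_nonneg _).mp h2
      φ (Finset.mem_erase.mpr ⟨hφ, Finset.mem_univ _⟩))
  have hF : a - b = (n φ₀ : ℂ) • (φ₀ : G → ℂ) := by
    rw [hexp]
    exact Finset.sum_eq_single φ₀ (fun φ _ hφ => by rw [hzero φ hφ, Int.cast_zero, zero_smul])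
      (fun h => absurd (Finset.mem_univ _) h)
  obtain ⟨e, hepos, he⟩ := exists_degree_pos φ₀
  rcases (mul_self_eq_one_iff.mp hsq1) with h | h
  · rw [hF, h, Int.cast_one, one_smul]
    exact φ₀.2
  · exfalso
    rw [hF, h, Pi.smul_apply, he, smul_eq_mul] at h1
    have h2 : ((-1 * (e : ℤ) : ℤ) : ℂ) = ((d : ℤ) : ℂ) := by push_cast at h1 ⊢; exact h1
    have h3 := Int.cast_injective h2
    omega

/-- The star product with an invariant coherent function of modulus one is irreducible. -/
theorem exists_star_irr [Fintype G] (hM : Cfsg.IsPModular p M) (hinv : IsInv f)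
    (hcoh : IsCoherent p f) (h1 : ∀ ω, f 1 ω = 1) (hf : ∀ q ω, f q ω * conj (f q ω) = 1) :
    ∃ Θ : Cfsg.IrrCharacter G, (Θ : G → ℂ) = starFn χ f p ∧ (Θ : G → ℂ) 1 = (χ : G → ℂ) 1 := by
  obtain ⟨d, hd, hdeg⟩ := exists_degree_pos χ
  have e1 : starFn χ f p 1 = (χ : G → ℂ) 1 := by
    rw [starFn, pp_one, comp_one χ f h1]
  exact ⟨⟨_, isIrr_of_norm_one (isGeneralized_star χ f hM hinv hcoh) (classInner_star χ f hM hf)
    hd (e1.trans hdeg)⟩, rfl, e1⟩

/-- The star product stays in the block. -/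
theorem blkOf_star [Fintype G] (hM : Cfsg.IsPModular p M) {Θ : Cfsg.IrrCharacter G}
    (hΘ : (Θ : G → ℂ) = starFn χ f p) : blkOf M Θ = blkOf M χ := by
  classical
  have : ∀ q : G, Fintype C[Subgroup.zpowers q] := fun q => Fintype.ofFinite _
  have : ∀ q : G, Fintype (Blk (Res M) C[Subgroup.zpowers q]) := fun q => Fintype.ofFinite _
  by_contra hne
  have h1 : starFn Θ (fun (_ : G) (_ : Blk (Res M) _) => (1 : ℂ)) p = (Θ : G → ℂ) :=
    funext (star_of_eq_one (M := M) Θ _ fun _ _ => rfl)
  have h0 : ∑ g : G, (Θ : G → ℂ) g * conj ((Θ : G → ℂ) g) = 0 := by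
    conv_lhs => arg 2; intro g; rw [show (Θ : G → ℂ) g = starFn χ f p g from congrFun hΘ g]
                arg 2; rw [← congrFun hΘ g, ← congrFun h1 g]
    rw [sum_star_mul χ f hM Θ]
    refine Finset.sum_eq_zero fun q hq => Finset.sum_eq_zero fun ω _ => ?_
    have hq' := (Finset.mem_filter.mp hq).2
    rw [Finset.sum_eq_zero fun s _ => ?_, mul_zero]
    split_ifs with hs
    · rfl
    obtain ⟨ψ, hψ, huniq⟩ := existsUnique_pairOf (⟨Subgroup.zpowers q, ω⟩ : Idx (Res M) G)
      (isPGroup_of_orderOf hq')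
    by_cases hc : PairOf p (blkOf M χ) (⟨Subgroup.zpowers q, ω⟩ : Idx (Res M) G)
    · rw [phi_eq_zero Θ hM hq' ω (fun h => hne ((huniq _ h).trans (huniq _ hc).symm)) hs,
        map_zero, mul_zero]
    · rw [phi_eq_zero χ hM hq' ω hc hs, zero_mul]
  have h2 := classInner_self_irr Θ
  rw [Cfsg.classInner, h0, mul_zero] at h2
  exact zero_ne_one h2

omit [CharP (Res M) p] in
/-- The parts of a star product. -/
theorem phi_star (hM : Cfsg.IsPModular p M) (hinv : IsInv f) {q : G}
    (hq : ∃ k : ℕ, orderOf q = p ^ k) (ω : Blk (Res M) C[Subgroup.zpowers q])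
    {s : C[Subgroup.zpowers q]} (hs : ¬ p ∣ orderOf s) :
    phi (starFn χ f p) q ω s = f q ω * phi (χ : G → ℂ) q ω s := by
  classical
  have := Fintype.ofFinite C[Subgroup.zpowers q]
  have := Fintype.ofFinite (Blk (Res M) C[Subgroup.zpowers q])
  have hcF : Cfsg.IsClassFunction C[Subgroup.zpowers q] (sect q C[Subgroup.zpowers q] (starFn χ f p)) :=
    isClassFunction_sect commute_section (star_classFunction χ f hinv)
  have hcχ : Cfsg.IsClassFunction C[Subgroup.zpowers q] (sect q C[Subgroup.zpowers q] (χ : G → ℂ)) :=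
    isClassFunction_sect commute_section (isClassFunction_irr χ)
  have hpart : Cfsg.pRegularPart p (sect q C[Subgroup.zpowers q] (starFn χ f p)) =
      ∑ ν : Blk (Res M) C[Subgroup.zpowers q], f q ν • Cfsg.blockPart (toSet ν)
        (Cfsg.pRegularPart p (sect q C[Subgroup.zpowers q] (χ : G → ℂ))) := by
    funext t
    rw [Finset.sum_apply, Blocks.Contrib.pRegularPart_apply]
    split_ifs with ht
    · refine (Finset.sum_eq_zero fun ν _ => ?_).symm
      rw [Pi.smul_apply, ← regular_blockPart hM (isPBlock_toSet ν) hcχ,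
        Blocks.Contrib.pRegularPart_apply, if_pos ht, smul_zero]
    · rw [sect_apply, star_mul χ f hq ht]
      refine Finset.sum_congr rfl fun ν _ => ?_
      rw [Pi.smul_apply, ← regular_blockPart hM (isPBlock_toSet ν) hcχ,
        Blocks.Contrib.pRegularPart_apply, if_neg ht, smul_eq_mul]
      rfl
  have h1 : ∀ F : C[Subgroup.zpowers q] → ℂ, Cfsg.IsClassFunction C[Subgroup.zpowers q] F →
      Cfsg.blockPart (toSet ω) F s =
        Cfsg.blockPart (toSet ω) (Cfsg.pRegularPart p F) s := fun F hF => by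
    rw [← regular_blockPart hM (isPBlock_toSet ω) hF, Blocks.Contrib.pRegularPart_apply, if_neg hs]
  rw [phi, phi, h1 _ hcF, h1 _ hcχ, hpart, blockPart_apply, blockPart_apply, Finset.mul_sum]
  refine Finset.sum_congr rfl fun φ hφ => ?_
  have hmem : blkOf M φ = ω := mem_toSet.mp ((Set.Finite.mem_toFinset _).mp hφ)
  rw [classInner_sum_left, Finset.sum_eq_single ω (fun ν _ hν => ?_)
    (fun h => absurd (Finset.mem_univ _) h), classInner_smul_left, classInner_blockPart,
    if_pos (mem_toSet.mpr hmem), mul_assoc]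
  rw [classInner_smul_left, classInner_blockPart,
    if_neg (fun h => hν ((mem_toSet.mp h).symm.trans hmem)), mul_zero]

omit [CharP (Res M) p] in
/-- The star products compose by multiplication. -/
theorem star_star (hM : Cfsg.IsPModular p M) (hinv : IsInv f) {Θ : Cfsg.IrrCharacter G}
    (hΘ : (Θ : G → ℂ) = starFn χ f p)
    (f' : ∀ q : G, Blk (Res M) (Subgroup.centralizer (Subgroup.zpowers q : Set G)) → ℂ) :
    starFn Θ f' p = starFn χ (fun q ω => f' q ω * f q ω) p := by
  funext g
  obtain ⟨y, hy, hc, hord, hy'⟩ := isPPart_pp (p := p) g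
  have hyC : y ∈ C[Subgroup.zpowers (pp p g)] := by
    rw [Theta.centralizer_zpowers, Subgroup.mem_centralizer_singleton_iff]
    exact hc.symm.eq
  have := Fintype.ofFinite (Blk (Res M) C[Subgroup.zpowers (pp p g)])
  have hs : ¬ p ∣ orderOf (⟨y, hyC⟩ : C[Subgroup.zpowers (pp p g)]) := by
    rwa [← Subgroup.orderOf_coe]
  conv_lhs => rw [← hy]
  conv_rhs => rw [← hy]
  rw [show y = ((⟨y, hyC⟩ : C[Subgroup.zpowers (pp p g)]) : G) from rfl, star_mul Θ f' hord hs,
    star_mul χ _ hord hs]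
  refine Finset.sum_congr rfl fun ω _ => ?_
  rw [hΘ, phi_star χ f hM hinv hord ω hs, mul_assoc]

end Cfsg.Agent.Lib.StarChar.Section
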