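import Cfsg.Agent.Lib.StarChar.Theta

/-!
# The blocks below a pair that carries an idempotent

If the indecomposable `Q`-fixed idempotent `i` has non-zero truncation at `Q` in the block `Ω`,
then at every `R ≤ Q` its truncation lies in the block of the pair below `(Q, Ω)`
(`blo_below`).
-/

set_option autoImplicit false

namespace Cfsg.Agent.Lib.StarChar.Support

open MonoidAlgebra
open Cfsg.Agent.Lib.BrauerMap.Basic
open Cfsg.Agent.Lib.BrauerPairs.Center Cfsg.Agent.Lib.BrauerPairs.Trunc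
open Cfsg.Agent.Lib.BrauerPairs.Conj Cfsg.Agent.Lib.BrauerPairs.Pairs
open Cfsg.Agent.Lib.BrauerPairs.Bridge
open Cfsg.Agent.Lib.StarChar.Fixed Cfsg.Agent.Lib.StarChar.Theta Cfsg.Agent.Lib.StarChar.Trace

universe u

attribute [local instance] Ideal.Quotient.field

variable {M : Ideal Cfsg.AlgInt} [M.IsMaximal] {G : Type u} [Group G] [Finite G]

local notation "C[" P "]" => Subgroup.centralizer ((P : Subgroup G) : Set G)
local notation "kG" => MonoidAlgebra (Res M) G

/-- The truncation is fixed by what normalises. -/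
theorem brx_mem_fx {R N : Subgroup G} (hN : N ≤ Subgroup.normalizer (R : Set G)) {a : kG}
    (ha : a ∈ fx (Res M) N) : brx R a ∈ fx (Res M) N := by
  refine mem_fx.mpr fun u hu g => ?_
  have hm : g ∈ C[R] ↔ u * g * u⁻¹ ∈ C[R] := mem_centralizer_conj_iff (hN hu) g
  by_cases hg : g ∈ C[R]
  · rw [coeff_brx _ _ (hm.mp hg), coeff_brx _ _ hg, mem_fx.mp ha u hu g]
  · rw [coeff_brx_of_notMem _ _ hg, coeff_brx_of_notMem _ _ (fun h => hg (hm.mpr h))]

theorem brx_brx {R R' : Subgroup G} (h : R ≤ R') (a : kG) : brx R' (brx R a) = brx R' a := by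
  rw [brx, brx, brx, br_ext_br h]

variable {p : ℕ} [Fact p.Prime] [CharP (Res M) p]

/-- The block of a pair below, seen from above. -/
theorem brx_bext_mul {R R' : Subgroup G} {ω : Blk (Res M) C[R]} {ω' : Blk (Res M) C[R']}
    (h : Step p R ω R' ω') :
    brx R' (bext C[R] ω) * bext C[R'] ω' = bext C[R'] ω' := by
  obtain ⟨hp, hle, -, hfix, hval⟩ := h
  have hC := isFixedBy_centralizer_bext hle ω
  rw [val_eq _ hC] at hval
  have hi : IsIdempotentElem (⟨br R' (bext C[R] ω), br_mem_center hC⟩ : ZAlg (Res M) C[R']) :=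
    Subtype.ext (br_isIdem hp (bext_isIdem _ ω) hfix)
  have h2 := congrArg (fun z : ZAlg (Res M) C[R'] => ext C[R'] (z : MonoidAlgebra (Res M) C[R']))
    (mul_idem_eq ω' hi hval)
  simp only [MulMemClass.coe_mul, map_mul] at h2
  exact h2

theorem blo_below {Q : Subgroup G} (hQ : IsPGroup p Q) {Ω : Blk (Res M) C[Q]} {i : kG}
    (hi : Indec Q i) (hΩ : Blo Q Ω i) (hne : brx Q i ≠ 0) :
    ∀ (R : Subgroup G) (ω : Blk (Res M) C[R]),
      Le p (⟨R, ω⟩ : Idx (Res M) G) ⟨Q, Ω⟩ → Blo R ω i := by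
  suffices ∀ (n : ℕ) (R : Subgroup G) (ω : Blk (Res M) C[R]), Nat.card Q ≤ Nat.card R + n →
      Le p (⟨R, ω⟩ : Idx (Res M) G) ⟨Q, Ω⟩ → Blo R ω i from
    fun R ω h => this (Nat.card Q) R ω (Nat.le_add_left _ _) h
  intro n
  induction n using Nat.strong_induction_on with
  | _ n ih =>
    intro R ω hn hle
    have hRQ : R ≤ Q := Le.subgroup_le hle
    rcases eq_or_lt_of_le hRQ with rfl | hlt
    · obtain rfl := le_unique hQ Ω hle Relation.ReflTransGen.refl
      exact hΩ
    have hR : IsPGroup p R := hQ.to_le hRQ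
    set N := Q ⊓ Subgroup.normalizer (R : Set G) with hNdef
    have hRN : R ≤ N := le_inf hRQ Subgroup.le_normalizer
    have hNp : IsPGroup p N := hQ.to_le inf_le_left
    -- the pair is stable under the normaliser
    have hbelow : ∀ {R' : Subgroup G} {ω' : Blk (Res M) C[R']}, R ≤ R' →
        R' ≤ Subgroup.normalizer (R : Set G) → Le p (⟨R', ω'⟩ : Idx (Res M) G) ⟨Q, Ω⟩ →
        Step p R ω R' ω' := by
      intro R' ω' h1 h2 h3
      obtain ⟨ω₀, h0, -⟩ := existsUnique_step (hQ.to_le (Le.subgroup_le h3)) h1 h2 ω'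
      obtain rfl := le_unique hQ Ω hle (Relation.ReflTransGen.head h0 h3)
      exact h0
    obtain ⟨μN, hμN⟩ := exists_le_of_le hQ Ω N inf_le_left
    have hωN : bext C[R] ω ∈ fx (Res M) N := mem_fx.mpr (hbelow hRN inf_le_right hμN).2.2.2.1
    have hbi : brx R i ∈ fx (Res M) N :=
      brx_mem_fx inf_le_right (fx_anti inf_le_left hi.mem)
    have hidem : brx R i * brx R i = brx R i := by
      rw [← brx_mul hR (fx_anti hRQ hi.mem) (fx_anti hRQ hi.mem), hi.idem]
    set X := brx R i - brx R i * bext C[R] ω with hXdef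
    have hX : X ∈ fx (Res M) N := sub_mem hbi (mul_mem hbi hωN)
    have hXi : brx R i * X = X := by rw [hXdef, mul_sub, ← mul_assoc, hidem]
    have hiX : X * brx R i = X := by
      rw [hXdef, sub_mul, mul_assoc (brx R i) (bext C[R] ω), brx_comm, ← mul_assoc, hidem]
    have hX0 : X * bext C[R] ω = 0 := by
      rw [hXdef, sub_mul, mul_assoc (brx R i), (bext_isIdem _ ω).eq, sub_self]
    have hXX : X * X = X := by
      nth_rewrite 2 [hXdef]
      rw [mul_sub, ← mul_assoc, hiX, hX0, sub_zero]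
    have hXsupp : ∀ g, g ∉ C[R] → X.coeff g = 0 := by
      intro g hg
      rw [hXdef, brx, bext, ← map_mul, ← map_sub]
      exact coeff_ext_of_notMem _ _ hg
    have hstab : ∀ g, X.coeff g ≠ 0 → ∀ u ∈ N, u * g * u⁻¹ = g → u ∈ R := by
      intro g hg u hu hug
      have hgR : g ∈ C[R] := by_contra fun h => hg (hXsupp g h)
      set R' := N ⊓ Subgroup.centralizer ({g} : Set G) with hR'def
      have hRR' : R ≤ R' := le_inf hRN (BrauerPairs.Maximal.mem_centralizer_singleton_of hgR)
      have huR' : u ∈ R' := by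
        refine Subgroup.mem_inf.mpr ⟨hu, ?_⟩
        rw [Subgroup.mem_centralizer_singleton_iff]
        exact mul_inv_eq_iff_eq_mul.mp hug
      rcases eq_or_lt_of_le hRR' with heq | hlt'
      · exact heq ▸ huR'
      exfalso
      apply hg
      have hR'N : R' ≤ N := inf_le_left
      have hR'Q : R' ≤ Q := hR'N.trans inf_le_left
      have hR'p : IsPGroup p R' := hQ.to_le hR'Q
      obtain ⟨ω', hω'⟩ := exists_le_of_le hQ Ω R' hR'Q
      have hcard : Nat.card R < Nat.card R' := by
        by_contra hc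
        exact hlt'.ne (Subgroup.eq_of_le_of_card_ge hlt'.le (Nat.not_lt.mp hc))
      have hcard' : Nat.card R' ≤ Nat.card Q := Subgroup.card_le_of_le hR'Q
      have hB : Blo R' ω' i := ih (Nat.card Q - Nat.card R') (by omega) R' ω' (by omega) hω'
      have hst := hbelow hRR' (hR'N.trans inf_le_right) hω'
      have hzero : brx R' X = 0 := by
        have hm1 : brx R i ∈ fx (Res M) R' := fx_anti hR'N hbi
        have hm2 : bext C[R] ω ∈ fx (Res M) R' := fx_anti hR'N hωN
        rw [hXdef, brx_sub, brx_mul hR'p hm1 hm2, brx_brx hRR', sub_eq_zero]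
        conv_rhs => rw [← hB, mul_assoc, brx_comm, brx_bext_mul hst]
        exact hB.symm
      have hgR' : g ∈ C[R'] := BrauerPairs.Maximal.mem_centralizer_of_le inf_le_right
      rw [← coeff_brx R' X hgR', hzero, coeff_zero, Finsupp.zero_apply]
    obtain ⟨a, ha, -, htr⟩ := exists_relTr_eq hRN hX hstab
    set W := relTr Q R a with hWdef
    have hW : W ∈ fx (Res M) Q := relTr_mem_fx ha
    have hWR : brx R W = X := by
      refine MonoidAlgebra.ext (Finsupp.ext fun g => ?_)
      by_cases hg : g ∈ C[R]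
      · rw [coeff_brx _ _ hg, coeff_relTr_normalizer hR hRQ ha hg, ← hNdef, htr]
      · rw [coeff_brx_of_notMem _ _ hg, hXsupp g hg]
    have hWQ : brx Q W = 0 := brx_eq_zero fun g hg => by
      refine coeff_relTr_eq_zero hQ le_rfl ha (fun u hu => ?_) hg
      obtain ⟨s₀, hs₀, hns⟩ := SetLike.exists_of_lt hlt
      exact ⟨u * s₀ * u⁻¹, mul_mem (mul_mem hu hs₀) (inv_mem hu), by simpa [mul_assoc] using hns⟩
    have hx : i * W * i ∈ fx (Res M) Q := mul_mem (mul_mem hi.mem hW) hi.mem
    rcases hi.corner hx (by rw [← mul_assoc, ← mul_assoc, hi.idem]) (by rw [mul_assoc, hi.idem])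
      with ⟨m, hm⟩ | ⟨y, hy, hxy, -⟩
    · have hX0 : X = 0 := by
        refine brx_eq_zero_of_idem hR (fx_anti hRQ hx) hm ?_ hXX
        rw [brx_mul hR (fx_anti hRQ (mul_mem hi.mem hW)) (fx_anti hRQ hi.mem),
          brx_mul hR (fx_anti hRQ hi.mem) (fx_anti hRQ hW), hWR, hXi, hiX]
      exact (sub_eq_zero.mp hX0).symm
    · exfalso
      apply hne
      rw [← hxy, brx_mul hQ hx hy, brx_mul hQ (mul_mem hi.mem hW) hi.mem, brx_mul hQ hi.mem hW,
        hWQ, mul_zero, zero_mul, zero_mul]

end Cfsg.Agent.Lib.StarChar.Support
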