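import Cfsg.Agent.Lib.StarChar.Free
import Cfsg.Agent.Lib.BrauerPairs.Fusion

/-!
# The linear characters of `P` modulo the focal subgroup act on the block

A homomorphism `P →* ℂ` trivial on the focal subgroup gives an invariant coherent function on the
Brauer elements; the star product with it is an action of the dual of `P ⧸ foc` on the characters
of each height, and the stabilisers are trivial on the sections that occur.
-/

set_option autoImplicit false

namespace Cfsg.Agent.Lib.StarChar.Action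

open scoped ComplexConjugate commutatorElement
open Cfsg.Agent.Lib.BrauerPairs.Center Cfsg.Agent.Lib.BrauerPairs.Trunc
open Cfsg.Agent.Lib.BrauerPairs.Conj Cfsg.Agent.Lib.BrauerPairs.Pairs
open Cfsg.Agent.Lib.BrauerPairs.Transport Cfsg.Agent.Lib.BrauerPairs.Maximal
open Cfsg.Agent.Lib.BrauerPairs.Bridge Cfsg.Agent.Lib.BrauerPairs.Fusion
open Cfsg.Agent.Lib.StarChar.Comp Cfsg.Agent.Lib.StarChar.Section
open Cfsg.Agent.Lib.StarChar.Equiv Cfsg.Agent.Lib.StarChar.Integrality

universe u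

attribute [local instance] Ideal.Quotient.field

variable {M : Ideal Cfsg.AlgInt} [M.IsMaximal] {G : Type u} [Group G] [Finite G]
  {p : ℕ} [Fact p.Prime] [CharP (Res M) p]

local notation "C[" P "]" => Subgroup.centralizer ((P : Subgroup G) : Set G)

variable {b : Idx (Res M) G}

open scoped Classical in
/-- A homomorphism of the defect group, extended by one. -/
noncomputable def lamG (l : b.1 →* ℂ) (g : G) : ℂ := if h : g ∈ b.1 then l ⟨g, h⟩ else 1

omit [Finite G] [Fact p.Prime] [CharP (Res M) p] in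
theorem lamG_mem (l : b.1 →* ℂ) {g : G} (h : g ∈ b.1) : lamG l g = l ⟨g, h⟩ := by
  classical
  rw [lamG, dif_pos h]

variable (p) in
open scoped Classical in
/-- The function on the Brauer elements given by a homomorphism of the defect group. -/
noncomputable def fl (l : b.1 →* ℂ) (q : G)
    (ω : Blk (Res M) (Subgroup.centralizer (Subgroup.zpowers q : Set G))) : ℂ :=
  if h : ∃ x : G, Le p (cPair x (⟨Subgroup.zpowers q, ω⟩ : Idx (Res M) G)) b then
    lamG l (h.choose * q * h.choose⁻¹) else 1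

omit [Fact p.Prime] [CharP (Res M) p] in
theorem conj_mem_of_le {x q : G} {ω : Blk (Res M) C[Subgroup.zpowers q]}
    (h : Le p (cPair x (⟨Subgroup.zpowers q, ω⟩ : Idx (Res M) G)) b) : x * q * x⁻¹ ∈ b.1 :=
  h.subgroup_le (conj_mem_map x _ (Subgroup.mem_zpowers q))

variable {F : Cfsg.FusionSystem b.1}

omit [Fact p.Prime] [CharP (Res M) p] in
/-- The conjugation by an element of the defect group is in the fusion system. -/
theorem commutator_mem_focal (hF : IsFusion p b F) {u v : G}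
    (hu : u ∈ b.1) (hv : v ∈ b.1) : u⁻¹ * (v * u * v⁻¹) ∈ F.focalSubgroup := by
  have hfix : cPair v b = b := by
    refine sigma_ext_of_bext ?_ ?_
    · exact map_conj_eq_of_mem (Subgroup.le_normalizer hv)
    · rw [bext_cPair]
      exact Theta.bext_mem_fx b.1 b.2 v hv
  refine Subgroup.subset_closure ⟨b.1, Cfsg.conjHom b.1 v, ⟨u, hu⟩, ?_, rfl⟩
  rw [hF]
  exact ⟨le_rfl, v, fun _ => rfl, b.2, Relation.ReflTransGen.refl,
    hfix.symm ▸ Relation.ReflTransGen.refl⟩

omit [Fact p.Prime] [CharP (Res M) p] in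
/-- Fused elements have the same value. -/
theorem fl_eq (hb : IsPGroup p b.1) (hF : IsFusion p b F) {l : b.1 →* ℂ}
    (hl : ∀ y : b.1, (y : G) ∈ F.focalSubgroup → l y = 1) {q x : G}
    {ω : Blk (Res M) C[Subgroup.zpowers q]}
    (h : Le p (cPair x (⟨Subgroup.zpowers q, ω⟩ : Idx (Res M) G)) b) :
    fl p l q ω = lamG l (x * q * x⁻¹) := by
  classical
  have hex : ∃ x : G, Le p (cPair x (⟨Subgroup.zpowers q, ω⟩ : Idx (Res M) G)) b := ⟨x, h⟩
  rw [fl, dif_pos hex]
  generalize hex.choose = x₀, hex.choose_spec = h₀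
  set g := x * x₀⁻¹ with hg
  have hu : x₀ * q * x₀⁻¹ ∈ b.1 := conj_mem_of_le h₀
  have hv : x * q * x⁻¹ ∈ b.1 := conj_mem_of_le h
  have hgu : g * (x₀ * q * x₀⁻¹) * g⁻¹ = x * q * x⁻¹ := by rw [hg]; group
  set a := cPair x₀ (⟨Subgroup.zpowers q, ω⟩ : Idx (Res M) G) with ha
  have hga : cPair g a = cPair x (⟨Subgroup.zpowers q, ω⟩ : Idx (Res M) G) := by
    rw [ha, ← cPair_mul, hg, inv_mul_cancel_right]
  have hmem : x₀ * q * x₀⁻¹ ∈ a.1 := conj_mem_map x₀ _ (Subgroup.mem_zpowers q)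
  have hy : (x₀ * q * x₀⁻¹)⁻¹ * (x * q * x⁻¹) ∈ F.focalSubgroup := by
    refine Subgroup.subset_closure ⟨a.1, Cfsg.conjHom a.1 g, ⟨_, hmem⟩, ?_, ?_⟩
    · rw [hF]
      exact ⟨h₀.subgroup_le, g, fun _ => rfl, a.2, h₀, hga.symm ▸ h⟩
    · rw [conjHom_apply, hgu]
  have h1 := hl ⟨_, mul_mem (inv_mem hu) hv⟩ hy
  rw [lamG_mem l hu, lamG_mem l hv]
  rw [show (⟨x * q * x⁻¹, hv⟩ : b.1) = ⟨_, hu⟩ * ⟨_, mul_mem (inv_mem hu) hv⟩ from
    Subtype.ext (mul_inv_cancel_left _ _).symm, map_mul, h1, mul_one]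

omit [Fact p.Prime] [CharP (Res M) p] in
theorem fl_one (l : b.1 →* ℂ) (ω : Blk (Res M) C[Subgroup.zpowers (1 : G)]) :
    fl p l 1 ω = 1 := by
  classical
  rw [fl]
  split_ifs with h
  · rw [mul_one, mul_inv_cancel, lamG_mem l (one_mem _)]
    exact map_one l
  · rfl

omit [Fact p.Prime] [CharP (Res M) p] in
theorem fl_modulus (l : b.1 →* ℂ) (q : G) (ω : Blk (Res M) C[Subgroup.zpowers q]) :
    fl p l q ω * conj (fl p l q ω) = 1 := by
  classical
  rw [fl]
  split_ifs with h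
  · rw [lamG_mem l (conj_mem_of_le h.choose_spec), Complex.mul_conj, Complex.normSq_eq_norm_sq,
      Complex.norm_eq_one_of_pow_eq_one (n := orderOf (⟨_, conj_mem_of_le h.choose_spec⟩ : b.1))
        (by rw [← map_pow, pow_orderOf_eq_one, map_one]) (orderOf_pos _).ne']
    norm_num
  · simp

omit [Fact p.Prime] [CharP (Res M) p] in
theorem fl_mul (l l' : b.1 →* ℂ) (q : G) (ω : Blk (Res M) C[Subgroup.zpowers q]) :
    fl p (l * l') q ω = fl p l q ω * fl p l' q ω := by
  classical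
  simp only [fl]
  split_ifs with h
  · rw [lamG_mem _ (conj_mem_of_le h.choose_spec), lamG_mem _ (conj_mem_of_le h.choose_spec),
      lamG_mem _ (conj_mem_of_le h.choose_spec), MonoidHom.mul_apply]
  · rw [mul_one]

omit [Fact p.Prime] [CharP (Res M) p] in
theorem fl_one_hom (q : G) (ω : Blk (Res M) C[Subgroup.zpowers q]) :
    fl p (1 : b.1 →* ℂ) q ω = 1 := by
  classical
  simp only [fl]
  split_ifs with h
  · rw [lamG_mem _ (conj_mem_of_le h.choose_spec), MonoidHom.one_apply]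
  · rfl

omit [Fact p.Prime] [CharP (Res M) p] in
theorem fl_isInv (hb : IsPGroup p b.1) (hF : IsFusion p b F) {l : b.1 →* ℂ}
    (hl : ∀ y : b.1, (y : G) ∈ F.focalSubgroup → l y = 1) : IsInv (fl p l) := by
  intro t q ω ω' h
  have hpair : (⟨Subgroup.zpowers (t * q * t⁻¹), ω'⟩ : Idx (Res M) G) =
      cPair t ⟨Subgroup.zpowers q, ω⟩ := by
    refine sigma_ext_of_bext ?_ ?_
    · exact ((MonoidHom.map_zpowers (MulAut.conj t).toMonoidHom q)).symm
    · rw [bext_cPair]
      exact h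
  classical
  by_cases hex : ∃ x : G, Le p (cPair x (⟨Subgroup.zpowers q, ω⟩ : Idx (Res M) G)) b
  · obtain ⟨x, hx⟩ := hex
    rw [fl_eq hb hF hl hx, fl_eq hb hF hl (x := x * t⁻¹) ?_]
    · congr 1
      group
    · rw [hpair, ← cPair_mul, inv_mul_cancel_right]
      exact hx
  · rw [fl, fl, dif_neg hex, dif_neg]
    rintro ⟨x, hx⟩
    rw [hpair, ← cPair_mul] at hx
    exact hex ⟨_, hx⟩

theorem fl_isCoherent {ψ : Blk (Res M) G} (hb : Top p b) (hψ : PairOf p ψ b)
    (hF : IsFusion p b F) {l : b.1 →* ℂ}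
    (hl : ∀ y : b.1, (y : G) ∈ F.focalSubgroup → l y = 1) : IsCoherent p (fl p l) := by
  classical
  intro Q hQ Ω
  by_cases hex : ∃ x : G, Le p (cPair x (⟨Q, Ω⟩ : Idx (Res M) G)) b
  · obtain ⟨x, hx⟩ := hex
    have hm : ∀ q : Q, x * (q : G) * x⁻¹ ∈ b.1 := fun q =>
      hx.subgroup_le (conj_mem_map x _ q.2)
    refine ⟨l.comp (((MulAut.conj x).toMonoidHom.comp Q.subtype).codRestrict b.1 hm),
      ⟨_, 0, Brauer.Elementary.isCharacter_hom _, Characters.Basic.isCharacter_zero,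
        (sub_zero _).symm⟩, ?_⟩
    intro q hq ω hω
    rw [fl_eq hb.1 hF hl ((le_cPair x hω).trans hx), lamG_mem l (hm ⟨q, hq⟩)]
    rfl
  · refine ⟨1, ⟨_, 0, Characters.Basic.isCharacter_one, Characters.Basic.isCharacter_zero,
      (sub_zero _).symm⟩, fun q hq ω hω => ?_⟩
    rw [Pi.one_apply, fl, dif_neg]
    rintro ⟨x, hx⟩
    apply hex
    have h1 : PairOf p ψ (cPair x (⟨Subgroup.zpowers q, ω⟩ : Idx (Res M) G)) :=
      (pairOf_iff_of_le hb.1 hx _).mpr hψ
    have h2 := pairOf_cPair h1 x⁻¹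
    rw [← cPair_mul, inv_mul_cancel, cPair_one] at h2
    exact exists_le_conj_top ((pairOf_iff_of_le hQ hω _).mp h2) hb hψ

/-- The commutative quotient of the defect group. -/
theorem focal_normal (hF : IsFusion p b F) :
    commutator b.1 ≤ F.focalSubgroup.subgroupOf b.1 := by
  rw [commutator_def, Subgroup.commutator_le]
  intro u _ v _
  rw [Subgroup.mem_subgroupOf]
  have h := commutator_mem_focal hF (inv_mem u.2) v.2
  rw [show ((⁅u, v⁆ : b.1) : G) = ((u : G)⁻¹)⁻¹ * ((v : G) * (u : G)⁻¹ * (v : G)⁻¹) by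
    rw [commutatorElement_def]; push_cast; group]
  exact h

/-- If each stabiliser of the dual is trivial on `Z`, the order of `Z` divides. -/
theorem dvd_card_of_stab {A : Type u} [CommGroup A] [Finite A] (Z : Subgroup A) {X : Type u}
    [Finite X] [MulAction (A →* ℂˣ) X]
    (h : ∀ (d : A →* ℂˣ) (x : X), d • x = x → ∀ z ∈ Z, d z = 1) :
    Nat.card Z ∣ Nat.card X := by
  have := Monoid.neZero_exponent_of_finite (G := A)
  have hD : Finite (A →* ℂˣ) := by
    refine Nat.finite_of_card_ne_zero ?_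
    rw [CommGroup.card_monoidHom_of_hasEnoughRootsOfUnity]
    exact Nat.card_pos.ne'
  rw [Nat.card_congr (MulAction.selfEquivSigmaOrbits (A →* ℂˣ) X)]
  have := Fintype.ofFinite (MulAction.orbitRel.Quotient (A →* ℂˣ) X)
  rw [Nat.card_sigma]
  refine Finset.dvd_sum fun o _ => ?_
  set x := o.out
  have h1 : Nat.card (MulAction.orbit (A →* ℂˣ) x) *
      Nat.card (MulAction.stabilizer (A →* ℂˣ) x) = Nat.card A := by
    rw [← Nat.card_prod, ← CommGroup.card_monoidHom_of_hasEnoughRootsOfUnity (G := A) (M := ℂ)]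
    exact Nat.card_congr (MulAction.orbitProdStabilizerEquivGroup _ _)
  have h2 : Nat.card (MulAction.stabilizer (A →* ℂˣ) x) ∣ Nat.card (A ⧸ Z) := by
    rw [← CommGroup.card_domRestrictHom_ker (M := ℂ) Z]
    refine Subgroup.card_dvd_of_le fun d hd => ?_
    rw [MonoidHom.mem_ker, MonoidHom.domRestrictHom_apply, MonoidHom.domRestrict_eq_one_iff]
    exact h d x hd
  obtain ⟨c, hc⟩ := h2
  rw [Z.card_eq_card_quotient_mul_card_subgroup, hc] at h1
  have h3 : Nat.card (MulAction.orbit (A →* ℂˣ) x) = c * Nat.card Z := by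
    refine Nat.eq_of_mul_eq_mul_left (Nat.card_pos (α := MulAction.stabilizer (A →* ℂˣ) x)) ?_
    linarith
  exact h3 ▸ Dvd.intro_left c rfl

/-- **The star action.** If `Z` is a subgroup of `P` on which every section of a character of
height `h` occurs, `|Z : Z ∩ foc|` divides the number of these characters. -/
theorem index_dvd [Fintype G] (hM : Cfsg.IsPModular p M) {B : Set (Cfsg.IrrCharacter G)}
    (hB : Cfsg.IsPBlock M B) (hb : Top p b) (hψ : PairOf p (blk hB) b) (hF : IsFusion p b F)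
    (h : ℕ) (Z : Subgroup G) (hZ : Z ≤ b.1)
    (hocc : ∀ χ ∈ B, Cfsg.blockHeight p B (χ : G → ℂ) = h → ∀ q ∈ Z,
      ∀ ω : Blk (Res M) C[Subgroup.zpowers q],
        Le p (⟨Subgroup.zpowers q, ω⟩ : Idx (Res M) G) b →
          ∃ s : C[Subgroup.zpowers q], ¬ p ∣ orderOf s ∧ phi (χ : G → ℂ) q ω s ≠ 0) :
    ((Z ⊓ F.focalSubgroup).subgroupOf Z).index ∣
      Nat.card {χ : Cfsg.IrrCharacter G // χ ∈ B ∧ Cfsg.blockHeight p B (χ : G → ℂ) = h} := by
  classical
  let N : Subgroup b.1 := F.focalSubgroup.subgroupOf b.1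
  have hcomm : commutator b.1 ≤ N := focal_normal hF
  have : N.Normal := Subgroup.Normal.of_commutator_le _ hcomm
  letI : CommGroup (b.1 ⧸ N) :=
    { (inferInstance : Group (b.1 ⧸ N)) with
      mul_comm := fun x y => by
        obtain ⟨x, rfl⟩ := QuotientGroup.mk_surjective x
        obtain ⟨y, rfl⟩ := QuotientGroup.mk_surjective y
        rw [← QuotientGroup.mk_mul, ← QuotientGroup.mk_mul, QuotientGroup.eq]
        refine hcomm ?_
        rw [show (x * y)⁻¹ * (y * x) = ⁅y⁻¹, x⁻¹⁆ by rw [commutatorElement_def]; group,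
          commutator_def]
        exact Subgroup.commutator_mem_commutator (Subgroup.mem_top _) (Subgroup.mem_top _) }
  let hom : ((b.1 ⧸ N) →* ℂˣ) → (b.1 →* ℂ) := fun d =>
    (Units.coeHom ℂ).comp (d.comp (QuotientGroup.mk' N))
  have hl : ∀ d : (b.1 ⧸ N) →* ℂˣ, ∀ y : b.1, (y : G) ∈ F.focalSubgroup → hom d y = 1 := by
    intro d y hy
    show ((d (QuotientGroup.mk' N y) : ℂˣ) : ℂ) = 1
    rw [QuotientGroup.mk'_apply, (QuotientGroup.eq_one_iff y).mpr hy, map_one, Units.val_one]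
  have hirr : ∀ (d : (b.1 ⧸ N) →* ℂˣ) (χ : Cfsg.IrrCharacter G),
      ∃ Θ : Cfsg.IrrCharacter G, (Θ : G → ℂ) = starFn χ (fl p (hom d)) p ∧
        (Θ : G → ℂ) 1 = (χ : G → ℂ) 1 := fun d χ =>
    exists_star_irr χ _ hM (fl_isInv hb.1 hF (hl d)) (fl_isCoherent hb hψ hF (hl d))
      (fl_one _) (fl_modulus _)
  let X := {χ : Cfsg.IrrCharacter G // χ ∈ B ∧ Cfsg.blockHeight p B (χ : G → ℂ) = h}
  have hmem : ∀ (d : (b.1 ⧸ N) →* ℂˣ) (χ Θ : Cfsg.IrrCharacter G), χ ∈ B →
      Cfsg.blockHeight p B (χ : G → ℂ) = h → (Θ : G → ℂ) = starFn χ (fl p (hom d)) p →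
        (Θ : G → ℂ) 1 = (χ : G → ℂ) 1 → Θ ∈ B ∧ Cfsg.blockHeight p B (Θ : G → ℂ) = h := by
    intro d χ Θ hχ hht h1 h2
    refine ⟨?_, ?_⟩
    · rw [← toSet_blk hB, mem_toSet, blkOf_star χ _ hM h1]
      exact blkOf_of_mem hB hχ
    · rw [← hht]
      simp only [Cfsg.blockHeight, Cfsg.charDegree, h2]
  let act : ((b.1 ⧸ N) →* ℂˣ) → X → X := fun d χ => ⟨(hirr d χ.1).choose,
    hmem d χ.1 _ χ.2.1 χ.2.2 (hirr d χ.1).choose_spec.1 (hirr d χ.1).choose_spec.2⟩
  have hact : ∀ d χ, (((act d χ).1 : Cfsg.IrrCharacter G) : G → ℂ) =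
      starFn χ.1 (fl p (hom d)) p := fun d χ => (hirr d χ.1).choose_spec.1
  letI : MulAction ((b.1 ⧸ N) →* ℂˣ) X :=
    { smul := act
      one_smul := fun χ => Subtype.ext (Subtype.ext (funext fun g => by
        show ((act 1 χ).1 : G → ℂ) g = _
        rw [hact]
        refine star_of_eq_one χ.1 _ (fun q ω => ?_) g
        rw [show hom 1 = 1 from MonoidHom.ext fun y => by simp [hom]]
        exact fl_one_hom q ω))
      mul_smul := fun d d' χ => Subtype.ext (Subtype.ext (by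
        show ((act (d * d') χ).1 : G → ℂ) = ((act d (act d' χ)).1 : G → ℂ)
        rw [hact, hact, star_star χ.1 _ hM (fl_isInv hb.1 hF (hl d')) (hact d' χ)]
        congr 1
        funext q ω
        rw [← fl_mul]
        congr 1)) }
  let Z' : Subgroup (b.1 ⧸ N) := (Z.subgroupOf b.1).map (QuotientGroup.mk' N)
  have key := dvd_card_of_stab Z' (X := X) fun d χ hd z hz => by
    obtain ⟨q, hq, rfl⟩ := hz
    have hqb : (q : G) ∈ b.1 := q.2
    obtain ⟨ω, hω⟩ := exists_le_of_le hb.1 b.2 (Subgroup.zpowers (q : G))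
      (Subgroup.zpowers_le.mpr hqb)
    obtain ⟨s, hs, hne⟩ := hocc χ.1 χ.2.1 χ.2.2 q hq ω hω
    have hord : ∃ k : ℕ, orderOf (q : G) = p ^ k := by
      obtain ⟨k, hk⟩ := IsPGroup.iff_orderOf.mp hb.1 q
      exact ⟨k, by rw [← hk, Subgroup.orderOf_coe]⟩
    have h1 := phi_star χ.1 _ hM (fl_isInv hb.1 hF (hl d)) hord ω hs
    have e : starFn χ.1 (fl p (hom d)) p = (χ.1 : G → ℂ) :=
      (hact d χ).symm.trans (congrArg (fun c : X => (c.1 : G → ℂ)) hd)
    rw [e] at h1
    have h2 : fl p (hom d) (q : G) ω = 1 :=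
      (mul_eq_right₀ hne).mp h1.symm
    rw [fl_eq hb.1 hF (hl d) (x := 1) (by rw [cPair_one]; exact hω)] at h2
    simp only [one_mul, inv_one, mul_one] at h2
    rw [lamG_mem _ hqb] at h2
    exact Units.ext h2
  refine (dvd_of_eq ?_).trans key
  -- `|Z : Z ∩ foc|` is the order of the image of `Z`
  have hker : ((QuotientGroup.mk' N).domRestrict (Z.subgroupOf b.1)).ker =
      N.subgroupOf (Z.subgroupOf b.1) := by
    rw [MonoidHom.ker_domRestrict, QuotientGroup.ker_mk']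
  rw [show Z' = ((QuotientGroup.mk' N).domRestrict (Z.subgroupOf b.1)).range from
    (MonoidHom.domRestrict_range _ _).symm, ← Subgroup.index_ker, hker]
  have e1 : (Z ⊓ F.focalSubgroup).subgroupOf Z = F.focalSubgroup.subgroupOf Z :=
    Subgroup.inf_subgroupOf_left F.focalSubgroup Z
  rw [e1]
  show F.focalSubgroup.relIndex Z = N.relIndex (Z.subgroupOf b.1)
  exact (Subgroup.relIndex_subgroupOf hZ).symm

end Cfsg.Agent.Lib.StarChar.Action
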