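import Cfsg.Agent.Lib.StarChar.NilpotentPairing
import Cfsg.Agent.Lib.BrauerPairs.Abelian

/-!
# The sections of a block with abelian defect group

With abelian defect group the sections are given by the orbits of the inertial group on the defect
group, so an invariant function `ζ` of the defect group gives a function `fz` of Brauer elements,
and the inner product of two star products is a weighted sum over the defect group
(`classInner_star`).
-/

set_option autoImplicit false

namespace Cfsg.Agent.Lib.StarChar.AbelianPairing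

open Cfsg.Agent.Lib.StarChar.NilpotentPairing
open MonoidAlgebra
open scoped ComplexConjugate
open Cfsg.Agent.Lib.Blocks (localRing residue lin)
open Cfsg.Agent.Lib.BrauerPairs.Center Cfsg.Agent.Lib.BrauerPairs.Trunc
open Cfsg.Agent.Lib.BrauerPairs.Conj Cfsg.Agent.Lib.BrauerPairs.Pairs
open Cfsg.Agent.Lib.BrauerPairs.Transport Cfsg.Agent.Lib.BrauerPairs.Maximal
open Cfsg.Agent.Lib.BrauerPairs.Local Cfsg.Agent.Lib.BrauerPairs.Bridge
open Cfsg.Agent.Lib.BrauerPairs.Fusion
open Cfsg.Agent.Lib.StarChar.Fixed Cfsg.Agent.Lib.StarChar.Equiv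
open Cfsg.Agent.Lib.StarChar.Integrality Cfsg.Agent.Lib.StarChar.Comp
open Cfsg.Agent.Lib.StarChar.Section Cfsg.Agent.Lib.Characters.Basic
open Cfsg.Agent.Lib.BrauerPairs.Abelian

universe u

attribute [local instance] Ideal.Quotient.field

variable {M : Ideal Cfsg.AlgInt} [M.IsMaximal] {G : Type u} [Group G] [Finite G]
  {p : ℕ} [Fact p.Prime] [CharP (Res M) p]

local notation "C[" P "]" => Subgroup.centralizer ((P : Subgroup G) : Set G)

variable {b : Idx (Res M) G}

/-- Two elements of the defect group in one orbit of the stabilizer of the pair. -/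
def Rel (b : Idx (Res M) G) (u v : b.1) : Prop :=
  ∃ α ∈ (autHom b).range, α u = v

/-- Invariance under the stabilizer of the pair. -/
def Inv (b : Idx (Res M) G) (ζ : b.1 → ℂ) : Prop :=
  ∀ α ∈ (autHom b).range, ∀ u, ζ (α u) = ζ u

omit [Fact p.Prime] [CharP (Res M) p] in
theorem rel_refl (u : b.1) : Rel b u u := ⟨1, one_mem _, rfl⟩

omit [Fact p.Prime] [CharP (Res M) p] in
theorem rel_symm {u v : b.1} (h : Rel b u v) : Rel b v u := by
  obtain ⟨α, hα, rfl⟩ := h
  exact ⟨α⁻¹, inv_mem hα, MulEquiv.symm_apply_apply α u⟩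

omit [Fact p.Prime] [CharP (Res M) p] in
theorem rel_trans {u v w : b.1} (h : Rel b u v) (h' : Rel b v w) : Rel b u w := by
  obtain ⟨α, hα, rfl⟩ := h
  obtain ⟨β, hβ, rfl⟩ := h'
  exact ⟨β * α, mul_mem hβ hα, rfl⟩

variable {ψ : Blk (Res M) G} (hb : Top p b) (hψ : PairOf p ψ b)
  (hab : ∀ x ∈ b.1, ∀ y ∈ b.1, x * y = y * x)

include hb hψ hab

omit hψ in
/-- Two ways into the maximal pair differ by an element of the stabilizer. -/
theorem rel_of_le {x y q : G} {ω : Blk (Res M) C[Subgroup.zpowers q]}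
    (h : Le p (cPair x (⟨Subgroup.zpowers q, ω⟩ : Idx (Res M) G)) b)
    (h' : Le p (cPair y (⟨Subgroup.zpowers q, ω⟩ : Idx (Res M) G)) b) :
    Rel b ⟨x * q * x⁻¹, conj_mem_of_le h⟩ ⟨y * q * y⁻¹, conj_mem_of_le h'⟩ := by
  have h1 : Le p (cPair (y * x⁻¹) (cPair x (⟨Subgroup.zpowers q, ω⟩ : Idx (Res M) G))) b := by
    rw [← cPair_mul, inv_mul_cancel_right]; exact h'
  obtain ⟨z, hz, hzs⟩ := exists_mul_mem_stab hb hab h h1
  refine ⟨autHom b ⟨_, hzs⟩, ⟨_, rfl⟩, Subtype.ext ?_⟩
  rw [autHom_apply]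
  show z * (y * x⁻¹) * (x * q * x⁻¹) * (z * (y * x⁻¹))⁻¹ = y * q * y⁻¹
  have hm : y * q * y⁻¹ ∈ (cPair (y * x⁻¹)
      (cPair x (⟨Subgroup.zpowers q, ω⟩ : Idx (Res M) G))).1 := by
    rw [← cPair_mul, inv_mul_cancel_right]
    exact Subgroup.mem_map_of_mem _ (Subgroup.mem_zpowers q)
  have hc : y * q * y⁻¹ * z = z * (y * q * y⁻¹) := Subgroup.mem_centralizer_iff.mp hz _ hm
  calc z * (y * x⁻¹) * (x * q * x⁻¹) * (z * (y * x⁻¹))⁻¹ = z * (y * q * y⁻¹) * z⁻¹ := by group
    _ = y * q * y⁻¹ := by rw [← hc, mul_inv_cancel_right]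

omit hb hψ hab in
variable (p) (b) in
open scoped Classical in
/-- A function of the defect group on the Brauer elements. -/
noncomputable def fz (ζ : b.1 → ℂ) (q : G) (ω : Blk (Res M) C[Subgroup.zpowers q]) : ℂ :=
  if h : ∃ x : G, Le p (cPair x (⟨Subgroup.zpowers q, ω⟩ : Idx (Res M) G)) b then
    ζ ⟨h.choose * q * h.choose⁻¹, conj_mem_of_le h.choose_spec⟩ else ζ 1

theorem fz_eq {ζ : b.1 → ℂ} (hζ : Inv b ζ) {x q : G}
    {ω : Blk (Res M) C[Subgroup.zpowers q]}
    (h : Le p (cPair x (⟨Subgroup.zpowers q, ω⟩ : Idx (Res M) G)) b) :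
    fz p b ζ q ω = ζ ⟨x * q * x⁻¹, conj_mem_of_le h⟩ := by
  classical
  have hex : ∃ x : G, Le p (cPair x (⟨Subgroup.zpowers q, ω⟩ : Idx (Res M) G)) b := ⟨x, h⟩
  rw [fz, dif_pos hex]
  obtain ⟨α, hα, hv⟩ := rel_of_le hb hab hex.choose_spec h
  rw [← hv, hζ α hα]

theorem fz_blkAt {ζ : b.1 → ℂ} (hζ : Inv b ζ) (u : b.1) :
    fz p b ζ (u : G) (blkAt hb.1 u) = ζ u := by
  rw [fz_eq hb hψ hab hζ (x := 1) (by rw [cPair_one]; exact le_blkAt hb.1 u)]
  congr 1
  exact Subtype.ext (by simp)

omit hb hψ hab [Fact p.Prime] [CharP (Res M) p] in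
theorem fz_one (ζ : b.1 → ℂ) (ω : Blk (Res M) C[Subgroup.zpowers (1 : G)]) :
    fz p b ζ 1 ω = ζ 1 := by
  classical
  rw [fz]
  split_ifs with h
  · congr 1
    exact Subtype.ext (by simp)
  · rfl

theorem fz_isInv {ζ : b.1 → ℂ} (hζ : Inv b ζ) : IsInv (fz p b ζ) := by
  intro t q ω ω' h
  classical
  have hpair := cPair_zpowers_eq t q h
  by_cases hex : ∃ x : G, Le p (cPair x (⟨Subgroup.zpowers q, ω⟩ : Idx (Res M) G)) b
  · obtain ⟨x, hx⟩ := hex
    rw [fz_eq hb hψ hab hζ hx, fz_eq hb hψ hab hζ (x := x * t⁻¹) ?_]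
    · congr 1
      exact Subtype.ext (by group)
    · rw [hpair, ← cPair_mul, inv_mul_cancel_right]
      exact hx
  · rw [fz, fz, dif_neg hex, dif_neg]
    rintro ⟨x, hx⟩
    rw [hpair, ← cPair_mul] at hx
    exact hex ⟨_, hx⟩

theorem fz_isCoherent {ζ : b.1 → ℂ} (hζ : Cfsg.IsCharacter b.1 ζ) (hcl : Inv b ζ) :
    IsCoherent p (fz p b ζ) := by
  classical
  intro Q hQ Ω
  by_cases hex : ∃ x : G, Le p (cPair x (⟨Q, Ω⟩ : Idx (Res M) G)) b
  · obtain ⟨x, hx⟩ := hex
    have hm : ∀ q : Q, x * (q : G) * x⁻¹ ∈ b.1 := fun q =>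
      hx.subgroup_le (Subgroup.mem_map_of_mem _ q.2)
    refine ⟨ζ ∘ (((MulAut.conj x).toMonoidHom.comp Q.subtype).codRestrict b.1 hm),
      ⟨_, 0, isCharacter_comp _ hζ, isCharacter_zero, (sub_zero _).symm⟩, ?_⟩
    intro q hq ω hω
    rw [fz_eq hb hψ hab hcl ((le_cPair x hω).trans hx)]
    rfl
  · obtain ⟨n, hn⟩ : ∃ n : ℕ, ζ 1 = n := by
      obtain ⟨n, ρ, rfl⟩ := hζ
      exact ⟨_, Representation.char_one _⟩
    refine ⟨n • (1 : Q → ℂ), ⟨_, 0, isCharacter_nsmul isCharacter_one n, isCharacter_zero,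
      (sub_zero _).symm⟩, fun q hq ω hω => ?_⟩
    rw [fz, dif_neg, hn]
    · simp
    rintro ⟨x, hx⟩
    apply hex
    have h1 : PairOf p ψ (cPair x (⟨Subgroup.zpowers q, ω⟩ : Idx (Res M) G)) :=
      (pairOf_iff_of_le hb.1 hx _).mpr hψ
    have h2 := pairOf_cPair h1 x⁻¹
    rw [← cPair_mul, inv_mul_cancel, cPair_one] at h2
    exact exists_le_conj_top ((pairOf_iff_of_le hQ hω _).mp h2) hb hψ

omit hψ hab in
/-- The weight of an element of the defect group. -/
noncomputable def wt (u : b.1) : ℂ :=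
  ((Nat.card {w : b.1 // Rel b u w} : ℂ) * (Nat.card C[Subgroup.zpowers (u : G)] : ℂ))⁻¹

/-- **The sections.** A sum over the Brauer elements of the block is a sum over the defect
group. -/
theorem sum_sections [Fintype G] [Fintype b.1]
    [∀ q : G, Fintype (Blk (Res M) C[Subgroup.zpowers q])]
    {W : ∀ q : G, Blk (Res M) (Subgroup.centralizer (Subgroup.zpowers q : Set G)) → ℂ}
    (hW : IsInv W) (h0 : ∀ q ω, W q ω ≠ 0 →
      PairOf p ψ (⟨Subgroup.zpowers q, ω⟩ : Idx (Res M) G)) :
    ∑ q : G, ∑ ω : Blk (Res M) C[Subgroup.zpowers q], W q ω =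
      (Fintype.card G : ℂ) * ∑ u : b.1, wt u * W u (blkAt hb.1 u) := by
  classical
  let R : G → b.1 → ∀ q : G, Blk (Res M) C[Subgroup.zpowers q] → Prop := fun g u q ω =>
    q = g * u * g⁻¹ ∧ (⟨Subgroup.zpowers q, ω⟩ : Idx (Res M) G) =
      cPair g ⟨Subgroup.zpowers (u : G), blkAt hb.1 u⟩
  -- each element of the block is reached with total weight one
  have hone : ∀ q ω, W q ω ≠ 0 →
      ∑ u : b.1, wt u * (∑ g : G, if R g u q ω then (1 : ℂ) else 0) = 1 := by
    intro q ω hne
    obtain ⟨x, hx⟩ := exists_le_conj_top (h0 q ω hne) hb hψ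
    set u₀ : b.1 := ⟨x * q * x⁻¹, conj_mem_of_le hx⟩ with hu₀
    have hA : ∀ u : b.1, (∑ g : G, if R g u q ω then (1 : ℂ) else 0) =
        if Rel b u₀ u then (Nat.card C[Subgroup.zpowers (u : G)] : ℂ) else 0 := by
      intro u
      rw [Finset.sum_boole]
      split_ifs with hc
      · obtain ⟨_, ⟨v, rfl⟩, hv⟩ := hc
        have hv' : (v : G) * (x * q * x⁻¹) * (v : G)⁻¹ = (u : G) := congrArg Subtype.val hv
        set g₁ : G := ((v : G) * x)⁻¹ with hg₁
        have hq : q = g₁ * u * g₁⁻¹ := by rw [hg₁, ← hv']; group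
        have hR : R g₁ u q ω := by
          refine ⟨hq, ?_⟩
          have h1 : Le p (cPair ((v : G) * x) (⟨Subgroup.zpowers q, ω⟩ : Idx (Res M) G)) b := by
            rw [cPair_mul]
            have := le_cPair (v : G) hx
            rwa [mem_stab.mp v.2] at this
          have h2 : (cPair ((v : G) * x) (⟨Subgroup.zpowers q, ω⟩ : Idx (Res M) G)) =
              ⟨Subgroup.zpowers (u : G), blkAt hb.1 u⟩ := by
            have e : (cPair ((v : G) * x) (⟨Subgroup.zpowers q, ω⟩ : Idx (Res M) G)).1 =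
                Subgroup.zpowers (u : G) := by
              refine (MonoidHom.map_zpowers (MulAut.conj ((v : G) * x)).toMonoidHom q).trans ?_
              rw [← hv']
              congr 1
              simp [mul_assoc]
            revert h1
            generalize cPair ((v : G) * x) (⟨Subgroup.zpowers q, ω⟩ : Idx (Res M) G) = a at e ⊢
            obtain ⟨A, α⟩ := a
            obtain rfl : A = Subgroup.zpowers (u : G) := e
            intro h1
            rw [eq_blkAt hb.1 u h1]
          rw [← h2, ← cPair_mul, hg₁, inv_mul_cancel, cPair_one]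
        have hset : ∀ g : G, R g u q ω ↔ g⁻¹ * g₁ ∈ C[Subgroup.zpowers (u : G)] := by
          intro g
          rw [Theta.centralizer_zpowers, Subgroup.mem_centralizer_singleton_iff]
          constructor
          · rintro ⟨h, -⟩
            have h3 : g₁ * u * g₁⁻¹ = g * u * g⁻¹ := hq.symm.trans h
            calc g⁻¹ * g₁ * u = g⁻¹ * (g₁ * u * g₁⁻¹) * g₁ := by group
              _ = g⁻¹ * (g * u * g⁻¹) * g₁ := by rw [h3]
              _ = u * (g⁻¹ * g₁) := by group
          · intro h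
            have hz : g⁻¹ * g₁ ∈ C[Subgroup.zpowers (u : G)] := by
              rw [Theta.centralizer_zpowers, Subgroup.mem_centralizer_singleton_iff]
              exact h
            have h4 : cPair (g⁻¹ * g₁) (⟨Subgroup.zpowers (u : G), blkAt hb.1 u⟩ : Idx (Res M) G) =
                ⟨Subgroup.zpowers (u : G), blkAt hb.1 u⟩ := mem_stab.mp (centralizer_le_stab _ hz)
            refine ⟨?_, ?_⟩
            · calc q = g * ((g⁻¹ * g₁) * u) * g₁⁻¹ := by rw [hq]; group
                _ = g * ((u : G) * (g⁻¹ * g₁)) * g₁⁻¹ := by rw [h]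
                _ = g * u * g⁻¹ := by group
            · conv_rhs => rw [← h4, ← cPair_mul, mul_inv_cancel_left]
              exact hR.2
        have hcard : (Finset.univ.filter fun g : G => R g u q ω).card =
            Nat.card C[Subgroup.zpowers (u : G)] := by
          rw [← Fintype.card_subtype, ← Nat.card_eq_fintype_card]
          refine Nat.card_congr
            { toFun := fun g => ⟨(g : G)⁻¹ * g₁, (hset g).mp g.2⟩
              invFun := fun z => ⟨g₁ * (z : G)⁻¹, (hset _).mpr (by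
                rw [show (g₁ * (z : G)⁻¹)⁻¹ * g₁ = (z : G) by group]; exact z.2)⟩
              left_inv := fun g => Subtype.ext (by simp)
              right_inv := fun z => Subtype.ext (by simp) }
        rw [hcard]
      · rw [Nat.cast_eq_zero, Finset.card_eq_zero, Finset.filter_eq_empty_iff]
        rintro g - ⟨hq, hpair⟩
        apply hc
        have hxg : Le p (cPair (x * g) (⟨Subgroup.zpowers (u : G), blkAt hb.1 u⟩ :
            Idx (Res M) G)) b := by
          rw [cPair_mul, ← hpair]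
          exact hx
        have h5 := rel_of_le hb hab hxg
          (y := 1) (by rw [cPair_one]; exact le_blkAt hb.1 u)
        convert h5 using 1
        · exact Subtype.ext (by show x * q * x⁻¹ = _; rw [hq]; group)
        · exact Subtype.ext (by simp)
    simp only [hA, mul_ite, mul_zero]
    rw [← Finset.sum_filter]
    have hterm : ∀ u ∈ Finset.univ.filter (fun u : b.1 => Rel b u₀ u),
        wt u * (Nat.card C[Subgroup.zpowers (u : G)] : ℂ) =
          (Nat.card {w : b.1 // Rel b u₀ w} : ℂ)⁻¹ := by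
      intro u hu
      have hc : Rel b u₀ u := (Finset.mem_filter.mp hu).2
      rw [wt, mul_inv, mul_assoc, inv_mul_cancel₀ (Nat.cast_ne_zero.mpr Nat.card_pos.ne'), mul_one]
      congr 2
      exact Nat.card_congr (Equiv.subtypeEquivRight fun w => ⟨rel_trans hc, rel_trans (rel_symm hc)⟩)
    rw [Finset.sum_congr rfl hterm, Finset.sum_const, nsmul_eq_mul, Nat.card_eq_fintype_card,
      Fintype.card_subtype, mul_inv_cancel₀]
    exact Nat.cast_ne_zero.mpr (Finset.card_ne_zero_of_mem
      (Finset.mem_filter.mpr ⟨Finset.mem_univ u₀, rel_refl u₀⟩))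
  -- each pair `(g, u)` reaches one element
  have huniq : ∀ (g : G) (u : b.1),
      ∑ q : G, ∑ ω : Blk (Res M) C[Subgroup.zpowers q],
        (if R g u q ω then W q ω else 0) = W u (blkAt hb.1 u) := by
    intro g u
    rw [Finset.sum_eq_single (g * (u : G) * g⁻¹)]
    · have hb' := bext_cBlk g _ _ (mem_centralizer_conj g (u : G)) (blkAt hb.1 u)
      rw [Finset.sum_eq_single (cBlk g _ _ (mem_centralizer_conj g (u : G)) (blkAt hb.1 u))]
      · rw [if_pos ⟨rfl, cPair_zpowers_eq g (u : G) hb'⟩]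
        exact hW g u _ _ hb'
      · intro ω _ hω
        rw [if_neg]
        rintro ⟨-, h⟩
        rw [← cPair_zpowers_eq g (u : G) hb'] at h
        exact hω (eq_of_heq (Sigma.mk.inj_iff.mp h).2)
      · exact fun h => absurd (Finset.mem_univ _) h
    · intro q _ hq
      exact Finset.sum_eq_zero fun ω _ => if_neg fun h => hq h.1
    · exact fun h => absurd (Finset.mem_univ _) h
  calc ∑ q : G, ∑ ω : Blk (Res M) C[Subgroup.zpowers q], W q ω
      = ∑ q : G, ∑ ω : Blk (Res M) C[Subgroup.zpowers q],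
          ∑ u : b.1, ∑ g : G, wt u * (if R g u q ω then W q ω else 0) := by
        refine Finset.sum_congr rfl fun q _ => Finset.sum_congr rfl fun ω _ => ?_
        by_cases hne : W q ω = 0
        · simp [hne]
        · conv_lhs => rw [← mul_one (W q ω), ← hone q ω hne]
          rw [Finset.mul_sum]
          refine Finset.sum_congr rfl fun u _ => ?_
          rw [Finset.mul_sum, Finset.mul_sum]
          refine Finset.sum_congr rfl fun g _ => ?_
          split_ifs <;> ring
    _ = ∑ u : b.1, ∑ g : G, ∑ q : G, ∑ ω : Blk (Res M) C[Subgroup.zpowers q],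
          wt u * (if R g u q ω then W q ω else 0) := by
        rw [Finset.sum_congr rfl fun q _ => Finset.sum_comm, Finset.sum_comm]
        refine Finset.sum_congr rfl fun u _ => ?_
        rw [Finset.sum_congr rfl fun q _ => Finset.sum_comm, Finset.sum_comm]
    _ = _ := by
        rw [Finset.mul_sum]
        refine Finset.sum_congr rfl fun u _ => ?_
        simp only [← Finset.mul_sum, huniq]
        rw [Finset.sum_const, Finset.card_univ, nsmul_eq_mul]
        ring

/-- **The inner product of two star products.** -/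
theorem classInner_star [Fintype G] [Fintype b.1] (hM : Cfsg.IsPModular p M)
    {χ χ' : Cfsg.IrrCharacter G} (hχ : blkOf M χ = ψ) {ζ ξ : b.1 → ℂ}
    (hζ : Inv b ζ) (hξ : Inv b ξ) :
    Cfsg.classInner (starFn χ (fz p b ζ) p) (starFn χ' (fz p b ξ) p) =
      ∑ u : b.1, wt u * phiSum p χ χ' u (blkAt hb.1 u) * (ζ u * conj (ξ u)) := by
  classical
  have : ∀ q : G, Fintype C[Subgroup.zpowers q] := fun q => Fintype.ofFinite _
  have : ∀ q : G, Fintype (Blk (Res M) C[Subgroup.zpowers q]) := fun q => Fintype.ofFinite _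
  let W : ∀ q : G, Blk (Res M) (Subgroup.centralizer (Subgroup.zpowers q : Set G)) → ℂ :=
    fun q ω => if (∃ k : ℕ, orderOf q = p ^ k) then
      fz p b ζ q ω * conj (fz p b ξ q ω) * phiSum p χ χ' q ω else 0
  have hW : IsInv W := by
    intro t q ω ω' h
    show ite _ _ _ = ite _ _ _
    rw [fz_isInv hb hψ hab hζ t q ω ω' h, fz_isInv hb hψ hab hξ t q ω ω' h,
      phiSum_isInv χ χ' t q ω ω' h]
    refine if_congr ?_ rfl rfl
    rw [show orderOf (t * q * t⁻¹) = orderOf q from (MulAut.conj t).orderOf_eq q]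
  have h0 : ∀ q ω, W q ω ≠ 0 → PairOf p ψ (⟨Subgroup.zpowers q, ω⟩ : Idx (Res M) G) := by
    intro q ω hne
    by_contra hp
    apply hne
    show ite _ _ _ = _
    split_ifs with hq
    · rw [phiSum_eq_zero χ χ' hM hq ω (hχ ▸ hp), mul_zero]
    · rfl
  rw [Cfsg.classInner, sum_star_mul χ _ hM χ' _, Finset.sum_filter]
  have e : ∀ q : G, (if (∃ k : ℕ, orderOf q = p ^ k) then
      ∑ ω : Blk (Res M) C[Subgroup.zpowers q], fz p b ζ q ω * conj (fz p b ξ q ω) *
        ∑ s : C[Subgroup.zpowers q], (if p ∣ orderOf s then 0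
          else phi (χ : G → ℂ) q ω s * conj (phi (χ' : G → ℂ) q ω s)) else 0) =
      ∑ ω : Blk (Res M) C[Subgroup.zpowers q], W q ω := by
    intro q
    split_ifs with hq
    · refine Finset.sum_congr rfl fun ω _ => ?_
      show _ = ite _ _ _
      rw [if_pos hq, phiSum_eq]
    · exact (Finset.sum_eq_zero fun ω _ => if_neg hq).symm
  rw [Finset.sum_congr rfl fun q _ => e q, sum_sections hb hψ hab hW h0,
    Nat.card_eq_fintype_card, inv_mul_cancel_left₀ (Nat.cast_ne_zero.mpr Fintype.card_ne_zero)]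
  refine Finset.sum_congr rfl fun u _ => ?_
  obtain ⟨k, hk⟩ := IsPGroup.iff_orderOf.mp hb.1 u
  show _ * ite _ _ _ = _
  rw [if_pos ⟨k, by rw [← hk, Subgroup.orderOf_coe]⟩, fz_blkAt hb hψ hab hζ,
    fz_blkAt hb hψ hab hξ]
  ring

end Cfsg.Agent.Lib.StarChar.AbelianPairing
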