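import Cfsg.Agent.Lib.StarChar.AbelianPairing
import Cfsg.Agent.Lib.StarChar.Nilpotent
import Cfsg.Agent.Lib.BrauerPairs.SubsectionCount
import Cfsg.Agent.Lib.Blocks.SectionHeight

/-!
# The contributions of a block with abelian defect group as functions on the defect group

`gram χ χ' u` is `|E| |D|` times the weighted product of the parts of `χ` and `χ'` at the Brauer
element over `u`.  It is invariant under the inertial quotient `E`, its Fourier coefficients are
integers (`exists_coeff`), its value at `1` is `|E|` times the contribution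
(`gram_one`), and on elements with free orbit and nilpotent local block it is the contribution
`cX` (`gram_eq_cX`), of rank one (`gram_mul_gram`), with trace `|D|` (`sum_gram`).
-/

set_option autoImplicit false
set_option linter.style.haveILetI false
set_option linter.unusedSectionVars false

namespace Cfsg.Agent.Lib.StarChar.AbelianSection

open MonoidAlgebra
open scoped ComplexConjugate
open Cfsg.Agent.Lib.Blocks Cfsg.Agent.Lib.Blocks.Contrib Cfsg.Agent.Lib.Blocks.SectionPart
open Cfsg.Agent.Lib.Blocks.SectionMatrix Cfsg.Agent.Lib.Blocks.SectionHeight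
open Cfsg.Agent.Lib.Blocks.BlockPart
open Cfsg.Agent.Lib.BrauerPairs.Center Cfsg.Agent.Lib.BrauerPairs.Conj
open Cfsg.Agent.Lib.BrauerPairs.Pairs Cfsg.Agent.Lib.BrauerPairs.Transport
open Cfsg.Agent.Lib.BrauerPairs.Maximal Cfsg.Agent.Lib.BrauerPairs.Bridge
open Cfsg.Agent.Lib.BrauerPairs.Fusion Cfsg.Agent.Lib.BrauerPairs.Local
open Cfsg.Agent.Lib.BrauerPairs.SubsectionCount Cfsg.Agent.Lib.BrauerPairs.Abelian
open Cfsg.Agent.Lib.StarChar.Equiv Cfsg.Agent.Lib.StarChar.Comp Cfsg.Agent.Lib.StarChar.Section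
open Cfsg.Agent.Lib.StarChar.NilpotentPairing (phiSum phiSum_eq phiSum_isInv blkAt le_blkAt
  eq_blkAt cPair_zpowers_eq)
open Cfsg.Agent.Lib.StarChar.AbelianPairing
open Cfsg.Agent.Lib.Characters.Basic

universe u

attribute [local instance] Ideal.Quotient.field

variable {M : Ideal Cfsg.AlgInt} [M.IsMaximal] {G : Type u} [Group G] [Fintype G]
  {p : ℕ} [Fact p.Prime] [CharP (Res M) p]

local notation "C[" P "]" => Subgroup.centralizer ((P : Subgroup G) : Set G)

/-- Bessel's equality for generalized characters. -/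
theorem sum_normSq_classInner [Fintype (Cfsg.IrrCharacter G)] {Θ : G → ℂ}
    (hΘ : Cfsg.IsClassFunction G Θ) :
    Cfsg.classInner Θ Θ = ((∑ φ : Cfsg.IrrCharacter G,
      Complex.normSq (Cfsg.classInner Θ φ) : ℝ) : ℂ) := by
  classical
  conv_lhs => arg 1; rw [Characters.Complete.classFunction_eq_sum hΘ]
  rw [classInner_sum_left]
  push_cast
  refine Finset.sum_congr rfl fun φ _ => ?_
  rw [Induced.Basic.classInner_smul_left, ← Complex.mul_conj, ← Induced.Basic.classInner_conj_symm Θ (φ : G → ℂ)]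

variable {b : Idx (Res M) G} {ψ : Blk (Res M) G} (hb : Top p b) (hψ : PairOf p ψ b)
  (hab : ∀ x ∈ b.1, ∀ y ∈ b.1, x * y = y * x)

/-- The contribution as a function on the defect group. -/
noncomputable def gram (χ χ' : Cfsg.IrrCharacter G) (u : b.1) : ℂ :=
  (Nat.card (autHom b).range : ℂ) * (Nat.card b.1 : ℂ) *
    (wt u * phiSum p χ χ' (u : G) (blkAt hb.1 u))

include hψ hab

omit hψ hab in
theorem wt_one : wt (1 : b.1) = (Nat.card G : ℂ)⁻¹ := by
  have h1 : Nat.card {w : b.1 // Rel b 1 w} = 1 := by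
    rw [Nat.card_eq_one_iff_unique]
    exact ⟨⟨fun a c => by
      obtain ⟨α, -, hα⟩ := a.2
      obtain ⟨β, -, hβ⟩ := c.2
      exact Subtype.ext (by rw [← hα, ← hβ, map_one, map_one])⟩, ⟨⟨1, rel_refl 1⟩⟩⟩
  have h2 : C[Subgroup.zpowers ((1 : b.1) : G)] = ⊤ := by
    rw [eq_top_iff]
    intro g _
    rw [Theta.centralizer_zpowers, Subgroup.mem_centralizer_singleton_iff]
    simp
  rw [wt, h1, h2, Subgroup.card_top, Nat.cast_one, one_mul]

omit hψ in
/-- Invariance under the stabilizer of the pair. -/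
theorem gram_inv (χ χ' : Cfsg.IrrCharacter G) : Inv b (gram hb χ χ') := by
  rintro _ ⟨t, rfl⟩ u
  have e : ((autHom b t u : b.1) : G) = (t : G) * u * (t : G)⁻¹ := autHom_apply t u
  have hr : Rel b u (autHom b t u) := ⟨_, ⟨t, rfl⟩, rfl⟩
  have key : ∀ (v : G) (hv : v ∈ b.1), v = (t : G) * u * (t : G)⁻¹ →
      phiSum p χ χ' v (blkAt hb.1 ⟨v, hv⟩) = phiSum p χ χ' (u : G) (blkAt hb.1 u) ∧
        Nat.card C[Subgroup.zpowers v] = Nat.card C[Subgroup.zpowers (u : G)] := by
    rintro _ hv rfl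
    refine ⟨phiSum_isInv χ χ' (t : G) u (blkAt hb.1 u) _ ?_, (Nat.card_congr
      (conjEquiv (t : G) _ _ (mem_centralizer_conj (t : G) (u : G))).toEquiv).symm⟩
    have hle : Le p (⟨Subgroup.zpowers ((t : G) * u * (t : G)⁻¹),
        cBlk (t : G) _ _ (mem_centralizer_conj (t : G) (u : G)) (blkAt hb.1 u)⟩ :
          Idx (Res M) G) b := by
      rw [cPair_zpowers_eq (t : G) (u : G) (bext_cBlk _ _ _ _ _)]
      have := le_cPair (t : G) (le_blkAt hb.1 u)
      rwa [mem_stab.mp t.2] at this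
    rw [← bext_cBlk (t : G) _ _ (mem_centralizer_conj (t : G) (u : G)) (blkAt hb.1 u)]
    exact congrArg _ (eq_blkAt hb.1 ⟨_, hv⟩ hle).symm
  obtain ⟨h1, h2⟩ := key _ (autHom b t u).2 e
  have h3 : Nat.card {w : b.1 // Rel b (autHom b t u) w} = Nat.card {w : b.1 // Rel b u w} :=
    Nat.card_congr (Equiv.subtypeEquivRight fun w =>
      ⟨rel_trans hr, rel_trans (rel_symm hr)⟩)
  show _ * (wt _ * phiSum p χ χ' _ _) = _ * (wt _ * phiSum p χ χ' _ _)
  rw [wt, wt, h2, h3]
  exact congrArg (fun z => _ * (_ * z)) h1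

/-- The inner products of the star products in terms of the contributions. -/
theorem classInner_star_gram [Fintype b.1] (hM : Cfsg.IsPModular p M)
    {χ : Cfsg.IrrCharacter G} (hχ : blkOf M χ = ψ) (χ' : Cfsg.IrrCharacter G) {ζ ξ : b.1 → ℂ}
    (hζ : Inv b ζ) (hξ : Inv b ξ) :
    (Nat.card (autHom b).range : ℂ) * (Nat.card b.1 : ℂ) *
      Cfsg.classInner (starFn χ (fz p b ζ) p) (starFn χ' (fz p b ξ) p) =
        ∑ u, gram hb χ χ' u * (ζ u * conj (ξ u)) := by
  rw [classInner_star hb hψ hab hM hχ hζ hξ, Finset.mul_sum]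
  exact Finset.sum_congr rfl fun u _ => by rw [gram]; ring

omit hψ hab in
theorem inv_one : Inv b (1 : b.1 → ℂ) := fun _ _ _ => rfl

omit hψ hab in
theorem star_const (χ : Cfsg.IrrCharacter G) :
    starFn χ (fz p b (1 : b.1 → ℂ)) p = (χ : G → ℂ) :=
  funext fun g => star_of_eq_one χ _ (fun q ω => by
    classical
    rw [fz]
    split_ifs <;> rfl) g

omit hψ hab in
theorem star_regular (χ : Cfsg.IrrCharacter G) (ζ : b.1 → ℂ) {s : G} (hs : ¬ p ∣ orderOf s) :
    starFn χ (fz p b ζ) p s = ζ 1 * (χ : G → ℂ) s := by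
  classical
  have hpp : pp p s = 1 := by
    have h := pp_mul (p := p) (q := (1 : G)) ⟨0, by rw [orderOf_one, pow_zero]⟩ hs
      (Commute.one_left s)
    rwa [one_mul] at h
  have := Fintype.ofFinite (Blk (Res M) C[Subgroup.zpowers (1 : G)])
  rw [starFn, hpp, comp_eq]
  simp only [AbelianPairing.fz_one, ← Finset.mul_sum]
  rw [← map_sum, ← Finset.mul_sum, ← map_sum, sum_eHat, map_one, mul_one, Blocks.lin_single,
    one_mul]

/-- The total. -/
theorem sum_gram_eq [Fintype b.1] (hM : Cfsg.IsPModular p M) {χ : Cfsg.IrrCharacter G}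
    (hχ : blkOf M χ = ψ) (χ' : Cfsg.IrrCharacter G) :
    ∑ u, gram hb χ χ' u = (Nat.card (autHom b).range : ℂ) * (Nat.card b.1 : ℂ) *
      Cfsg.classInner (χ : G → ℂ) (χ' : G → ℂ) := by
  have h := classInner_star_gram hb hψ hab hM hχ χ' inv_one inv_one
  rw [star_const, star_const] at h
  rw [h]
  simp

/-- The value at the identity. -/
theorem gram_one [Fintype b.1] (hM : Cfsg.IsPModular p M) {χ : Cfsg.IrrCharacter G}
    (hχ : blkOf M χ = ψ) (χ' : Cfsg.IrrCharacter G) :
    gram hb χ χ' 1 = (Nat.card (autHom b).range : ℂ) * (Nat.card b.1 : ℂ) *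
      (contribN p χ χ' : ℂ) / (p : ℂ) ^ (Nat.card G).factorization p := by
  classical
  let δ : b.1 → ℂ := fun u => if u = 1 then 1 else 0
  have hδ : Inv b δ := fun α _ u => by simp only [δ, α.map_eq_one_iff]
  have h1 := classInner_star_gram hb hψ hab hM hχ χ' hδ inv_one
  rw [Finset.sum_eq_single 1 (fun u _ hu => by simp [δ, hu])
    (fun h => absurd (Finset.mem_univ _) h)] at h1
  simp only [δ, if_true, Pi.one_apply, map_one, mul_one] at h1
  rw [← h1, mul_div_assoc, star_const]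
  congr 1
  have h2 : ∀ g : G, starFn χ (fz p b δ) p g =
      if p ∣ orderOf g then 0 else (χ : G → ℂ) g := by
    intro g
    split_ifs with hg
    · obtain ⟨y, hy, hc, hq, hy'⟩ := isPPart_pp (p := p) g
      set q := pp p g
      have hq1 : q ≠ 1 := by
        intro e
        rw [e, one_mul] at hy
        exact hy' (hy ▸ hg)
      have hyC : y ∈ C[Subgroup.zpowers q] := by
        rw [Theta.centralizer_zpowers, Subgroup.mem_centralizer_singleton_iff]
        exact hc.symm.eq
      have := Fintype.ofFinite (Blk (Res M) C[Subgroup.zpowers q])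
      have hs : ¬ p ∣ orderOf (⟨y, hyC⟩ : C[Subgroup.zpowers q]) := by
        rwa [← Subgroup.orderOf_coe]
      rw [← hy, show y = ((⟨y, hyC⟩ : C[Subgroup.zpowers q]) : G) from rfl,
        star_mul χ _ hq hs]
      refine Finset.sum_eq_zero fun ω _ => ?_
      by_cases hp : PairOf p ψ (⟨Subgroup.zpowers q, ω⟩ : Idx (Res M) G)
      · obtain ⟨x, hx⟩ := exists_le_conj_top hp hb hψ
        rw [AbelianPairing.fz_eq hb hψ hab hδ hx]
        simp only [δ]
        rw [if_neg, zero_mul]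
        intro e
        exact hq1 (conj_eq_one_iff.mp (congrArg Subtype.val e))
      · rw [phi_eq_zero χ hM hq ω (hχ ▸ hp) hs, mul_zero]
    · rw [star_regular χ δ hg]
      simp [δ]
  have hm : (primeToCard p G : ℂ) ≠ 0 := Nat.cast_ne_zero.mpr (primeToCard_pos p).ne'
  have hp0 : (p : ℂ) ^ (Nat.card G).factorization p ≠ 0 :=
    pow_ne_zero _ (Nat.cast_ne_zero.mpr (Fact.out : p.Prime).ne_zero)
  rw [Cfsg.classInner]
  have e : ∑ g : G, starFn χ (fz p b δ) p g * conj ((χ' : G → ℂ) g) =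
      (primeToCard p G : ℂ) * (contribN p χ χ' : ℂ) := by
    rw [← regSum_eq_contribN, regSum_eq_sum]
    refine Finset.sum_congr rfl fun g _ => ?_
    rw [h2, apply_inv (isCharacter_irr χ') g]
    split_ifs <;> simp
  rw [e, natCast_card_eq p G]
  field_simp

/-- **The Fourier coefficients are integers.** -/
theorem exists_coeff [Fintype b.1] (hM : Cfsg.IsPModular p M) {χ : Cfsg.IrrCharacter G}
    (hχ : blkOf M χ = ψ) (χ' : Cfsg.IrrCharacter G) (l : b.1 →* ℂˣ) :
    ∃ n : ℤ, ∑ u, gram hb χ χ' u * ((l u : ℂˣ) : ℂ) = (Nat.card b.1 : ℂ) * n := by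
  classical
  haveI := Fintype.ofFinite (autHom b).range
  let ζ : b.1 → ℂ := ∑ α : (autHom b).range, fun u => ((l ((α : MulAut b.1) u) : ℂˣ) : ℂ)
  have hζc : Cfsg.IsCharacter b.1 ζ := isCharacter_sum _ fun α _ =>
    Cfsg.Agent.Lib.Brauer.Elementary.isCharacter_hom
      ((Units.coeHom ℂ).comp (l.comp (α : MulAut b.1).toMonoidHom))
  have hζi : Inv b ζ := by
    intro α hα u
    simp only [ζ, Finset.sum_apply]
    exact Fintype.sum_equiv (Equiv.mulRight ⟨α, hα⟩) _ _ fun β => rfl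
  obtain ⟨n, hn⟩ := Nilpotent.exists_int_classInner
    (isGeneralized_star χ _ hM (fz_isInv hb hψ hab hζi) (fz_isCoherent hb hψ hab hζc hζi))
    (⟨_, 0, isCharacter_irr χ', isCharacter_zero, (sub_zero _).symm⟩ :
      Cfsg.IsGeneralizedCharacter G (χ' : G → ℂ))
  refine ⟨n, ?_⟩
  have h := classInner_star_gram hb hψ hab hM hχ χ' hζi inv_one
  rw [star_const, hn] at h
  simp only [Pi.one_apply, map_one, mul_one] at h
  have e : ∑ u, gram hb χ χ' u * ζ u =
      (Nat.card (autHom b).range : ℂ) * ∑ u, gram hb χ χ' u * ((l u : ℂˣ) : ℂ) := by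
    simp only [ζ, Finset.sum_apply, Finset.mul_sum]
    rw [Finset.sum_comm, Nat.card_eq_fintype_card]
    have hterm : ∀ α : (autHom b).range,
        ∑ u, gram hb χ χ' u * ((l ((α : MulAut b.1) u) : ℂˣ) : ℂ) =
          ∑ u, gram hb χ χ' u * ((l u : ℂˣ) : ℂ) := fun α =>
      Fintype.sum_equiv (α : MulAut b.1).toEquiv _ _ fun u => by
        show gram hb χ χ' u * _ = gram hb χ χ' ((α : MulAut b.1) u) * _
        rw [gram_inv hb hab χ χ' α.1 α.2 u]
        rfl
    rw [Finset.sum_congr rfl fun α _ => hterm α, Finset.sum_const, Finset.card_univ,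
      nsmul_eq_mul, Finset.mul_sum]
  rw [e, mul_assoc] at h
  exact (mul_left_cancel₀ (Nat.cast_ne_zero.mpr Nat.card_pos.ne') h).symm

omit hψ hab in
include hb in
theorem exists_pelt (u : b.1) :
    ∃ x : C[Subgroup.zpowers (u : G)], (x : G) = u ∧ Pelt p x := by
  refine Free.exists_pelt ?_
  obtain ⟨k, hk⟩ := IsPGroup.iff_orderOf.mp hb.1 u
  exact ⟨k, by rw [← hk, Subgroup.orderOf_coe]⟩

omit hψ hab in
/-- The diagonal is real and positive. -/
theorem exists_real (χ : Cfsg.IrrCharacter G) (u : b.1) :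
    ∃ r : ℝ, 0 ≤ r ∧ gram hb χ χ u = (r : ℂ) ∧
      ((∃ s : C[Subgroup.zpowers (u : G)], ¬ p ∣ orderOf s ∧
        phi (χ : G → ℂ) (u : G) (blkAt hb.1 u) s ≠ 0) → 0 < r) := by
  classical
  haveI := Fintype.ofFinite C[Subgroup.zpowers (u : G)]
  let S : ℝ := ∑ s : C[Subgroup.zpowers (u : G)], if p ∣ orderOf s then 0
    else Complex.normSq (phi (χ : G → ℂ) (u : G) (blkAt hb.1 u) s)
  have hc : 0 < Nat.card {w : b.1 // Rel b u w} :=
    Nat.card_pos_iff.mpr ⟨⟨⟨u, rel_refl u⟩⟩, inferInstance⟩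
  have hC : 0 < Nat.card C[Subgroup.zpowers (u : G)] := Nat.card_pos
  have hE : 0 < Nat.card (autHom b).range := Nat.card_pos
  have hD : 0 < Nat.card b.1 := Nat.card_pos
  have hS0 : 0 ≤ S := Finset.sum_nonneg fun t _ => by
    split_ifs
    exacts [le_rfl, Complex.normSq_nonneg _]
  refine ⟨(Nat.card (autHom b).range : ℝ) * (Nat.card b.1 : ℝ) *
    (((Nat.card {w : b.1 // Rel b u w} : ℝ) * Nat.card C[Subgroup.zpowers (u : G)])⁻¹ * S),
    by positivity, ?_, fun h => ?_⟩
  · simp only [gram, wt, phiSum_eq, S, Complex.ofReal_mul, Complex.ofReal_inv,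
      Complex.ofReal_natCast, Complex.ofReal_sum, apply_ite Complex.ofReal, Complex.ofReal_zero,
      Complex.mul_conj]
  · obtain ⟨s, hs, hne⟩ := h
    have hS : 0 < S := by
      refine Finset.sum_pos' (fun t _ => ?_) ⟨s, Finset.mem_univ s, ?_⟩
      · split_ifs
        exacts [le_rfl, Complex.normSq_nonneg _]
      · rw [if_neg hs]
        exact Complex.normSq_pos.mpr hne
    positivity

/-- The diagonal is positive at each element. -/
theorem exists_pos (hM : Cfsg.IsPModular p M) {χ : Cfsg.IrrCharacter G} (hχ : blkOf M χ = ψ)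
    (u : b.1) : ∃ r : ℝ, 0 < r ∧ gram hb χ χ u = (r : ℂ) := by
  obtain ⟨r, -, hr, hpos⟩ := exists_real hb χ u
  refine ⟨r, hpos ?_, hr⟩
  have hB : Cfsg.IsPBlock M (toSet ψ) := isPBlock_toSet ψ
  have hψ' : PairOf p (blk hB) b := by rwa [blk_toSet]
  exact Free.exists_phi_ne_zero_central hM hB (mem_toSet.mpr hχ) hb hψ' u.2
    (le_centralizer_of_le_abelian hab le_rfl u.2) (blkAt hb.1 u) (le_blkAt hb.1 u)

omit hψ hab in
theorem isInducedBlock_blkAt (hM : Cfsg.IsPModular p M) {ψ' : Blk (Res M) G}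
    (hψ : PairOf p ψ' b) (u : b.1) :
    Cfsg.IsInducedBlock M C[Subgroup.zpowers (u : G)] (toSet (blkAt hb.1 u)) (toSet ψ') := by
  refine Free.isInducedBlock_of_pairOf (IsPGroup.to_le hb.1 (Subgroup.zpowers_le.mpr u.2))
    (isPBlock_toSet ψ') ?_
  rw [blk_toSet]
  exact (pairOf_iff_of_le hb.1 (le_blkAt hb.1 u) _).mpr hψ

omit hψ in
/-- With free orbit the local block has rank one and full defect. -/
theorem blkAt_facts (hM : Cfsg.IsPModular p M) (hψ : PairOf p ψ b) (u : b.1)
    (hfree : ∀ α ∈ (autHom b).range, α u = u → α = 1) :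
    Cfsg.blockRank p (toSet (blkAt hb.1 u)) = 1 ∧
      Cfsg.blockDefect p (toSet (blkAt hb.1 u)) = Cfsg.blockDefect p (toSet ψ) := by
  obtain ⟨P, c⟩ := b
  have e : blkAt hb.1 u = localBlk c hb.1 hab u.2 :=
    (eq_blkAt hb.1 u (le_localBlk hb.1 hab u.2)).symm
  rw [e]
  refine ⟨(blockRank_localBlk hM hb hab u.2 fun x hx h => ?_).1,
    blockDefect_localBlk hM hb hψ hab u.2⟩
  have h1 : autHom (⟨P, c⟩ : Idx (Res M) G) ⟨x, hx⟩ u = u := Subtype.ext (by
    rw [autHom_apply]
    show x * (u : G) * x⁻¹ = u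
    rw [h, mul_inv_cancel_right])
  have h2 := hfree _ ⟨_, rfl⟩ h1
  have h3 : (⟨x, hx⟩ : stab (⟨P, c⟩ : Idx (Res M) G)) ∈ (autHom (⟨P, c⟩ : Idx (Res M) G)).ker := h2
  rw [autHom_ker, Subgroup.mem_subgroupOf] at h3
  exact h3

omit hψ hab in
/-- A free orbit has as many elements as the inertial quotient. -/
theorem card_rel (u : b.1) (hfree : ∀ α ∈ (autHom b).range, α u = u → α = 1) :
    Nat.card {w : b.1 // Rel b u w} = Nat.card (autHom b).range := by
  refine (Nat.card_congr (Equiv.ofBijective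
    (fun α : (autHom b).range => (⟨(α : MulAut b.1) u, α, α.2, rfl⟩ : {w : b.1 // Rel b u w}))
    ⟨fun α β h => ?_, ?_⟩)).symm
  · have h' : (α : MulAut b.1) u = (β : MulAut b.1) u := congrArg Subtype.val h
    refine Subtype.ext (inv_mul_eq_one.mp ?_).symm
    refine hfree _ (mul_mem (inv_mem β.2) α.2) ?_
    rw [MulAut.mul_apply, h']
    exact MulEquiv.symm_apply_apply _ _
  · rintro ⟨w, α, hα, rfl⟩
    exact ⟨⟨α, hα⟩, rfl⟩

omit hψ hab in
theorem gram_free (χ χ' : Cfsg.IrrCharacter G) (u : b.1)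
    (hfree : ∀ α ∈ (autHom b).range, α u = u → α = 1) :
    gram hb χ χ' u = (Nat.card b.1 : ℂ) / (Nat.card C[Subgroup.zpowers (u : G)] : ℂ) *
      phiSum p χ χ' (u : G) (blkAt hb.1 u) := by
  have hE : (Nat.card (autHom b).range : ℂ) ≠ 0 := Nat.cast_ne_zero.mpr Nat.card_pos.ne'
  have hC : (Nat.card C[Subgroup.zpowers (u : G)] : ℂ) ≠ 0 :=
    Nat.cast_ne_zero.mpr Nat.card_pos.ne'
  rw [gram, wt, card_rel u hfree]
  field_simp

/-- On a free orbit the function is the contribution. -/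
theorem gram_eq_cX (hM : Cfsg.IsPModular p M) {χ : Cfsg.IrrCharacter G} (χ' : Cfsg.IrrCharacter G)
    (u : b.1) (hfree : ∀ α ∈ (autHom b).range, α u = u → α = 1)
    [Fintype C[Subgroup.zpowers (u : G)]] {x : C[Subgroup.zpowers (u : G)]}
    (hxu : (x : G) = u) (hx : Pelt p x) :
    gram hb χ χ' u = cX p (toSet (blkAt hb.1 u)) x χ χ' := by
  classical
  haveI := Fintype.ofFinite (Cfsg.IrrCharacter C[Subgroup.zpowers (u : G)])
  set w := toSet (blkAt hb.1 u) with hw
  have hwb : Cfsg.IsPBlock M w := isPBlock_toSet _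
  have hphi : ∀ (θ : Cfsg.IrrCharacter G) (s : C[Subgroup.zpowers (u : G)]),
      phi (θ : G → ℂ) (u : G) (blkAt hb.1 u) s =
        ∑ η ∈ bset w, acoef x θ η * (η : C[Subgroup.zpowers (u : G)] → ℂ) s := by
    intro θ s
    have hsect : sect (u : G) C[Subgroup.zpowers (u : G)] (θ : G → ℂ) =
        ∑ η : Cfsg.IrrCharacter C[Subgroup.zpowers (u : G)], acoef x θ η •
          (η : C[Subgroup.zpowers (u : G)] → ℂ) := by
      funext c
      rw [sum_smul_apply, sect_apply]
      refine Eq.trans ?_ (restrict_mul hx.commute θ c)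
      rw [hxu]
    rw [phi, blockPart_apply]
    refine Finset.sum_congr rfl fun η _ => ?_
    rw [hsect, Characters.Complete.classInner_irr_sum]
  have hfS : ∀ s, fS w x χ' s = conj (phi (χ' : G → ℂ) (u : G) (blkAt hb.1 u) s) := by
    intro s
    rw [hphi, map_sum, fS]
    refine Finset.sum_congr rfl fun η _ => ?_
    rw [map_mul, apply_inv (isCharacter_irr η)]
  have hsum : ∑ s : C[Subgroup.zpowers (u : G)],
      (if p ∣ orderOf s then 0 else fS w x χ' s * (χ : G → ℂ) ((x : G) * (s : G))) =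
      phiSum p χ χ' (u : G) (blkAt hb.1 u) := by
    rw [phiSum_eq]
    have e : ∀ s : C[Subgroup.zpowers (u : G)],
        (if p ∣ orderOf s then 0 else fS w x χ' s * (χ : G → ℂ) ((x : G) * (s : G))) =
        (if p ∣ orderOf s then 0 else phi (χ : G → ℂ) (u : G) (blkAt hb.1 u) s *
          conj (phi (χ' : G → ℂ) (u : G) (blkAt hb.1 u) s)) +
        ∑ η ∈ Finset.univ \ bset w, acoef x χ η * (if p ∣ orderOf s then 0 else
          fS w x χ' s * (η : C[Subgroup.zpowers (u : G)] → ℂ) s) := by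
      intro s
      split_ifs with hs
      · simp
      · rw [restrict_mul hx.commute, ← Finset.sum_sdiff (Finset.subset_univ (bset w)), hphi χ,
          ← hfS, mul_add, add_comm]
        congr 1
        · rw [Finset.mul_sum, Finset.sum_mul]
          exact Finset.sum_congr rfl fun η _ => by ring
        · rw [Finset.mul_sum]
          exact Finset.sum_congr rfl fun η _ => by ring
    rw [Finset.sum_congr rfl fun s _ => e s, Finset.sum_add_distrib, add_eq_left,
      Finset.sum_comm]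
    refine Finset.sum_eq_zero fun η hη => ?_
    rw [← Finset.mul_sum]
    refine mul_eq_zero_of_right _ ?_
    have hηw : η ∉ w := fun h => (Finset.mem_sdiff.mp hη).2 (mem_bset.mpr h)
    simp only [fS, Finset.sum_mul]
    rw [show (∑ s : C[Subgroup.zpowers (u : G)], if p ∣ orderOf s then (0 : ℂ) else
        ∑ ζ ∈ bset w, conj (acoef x χ' ζ) * (ζ : C[Subgroup.zpowers (u : G)] → ℂ) s⁻¹ *
          (η : C[Subgroup.zpowers (u : G)] → ℂ) s) =
      ∑ ζ ∈ bset w, conj (acoef x χ' ζ) * regSum p (η : C[Subgroup.zpowers (u : G)] → ℂ)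
        (ζ : C[Subgroup.zpowers (u : G)] → ℂ) by
      simp only [regSum_eq_sum, Finset.mul_sum]
      rw [Finset.sum_comm]
      refine Finset.sum_congr rfl fun s _ => ?_
      split_ifs
      · simp
      · exact Finset.sum_congr rfl fun ζ _ => by ring]
    refine Finset.sum_eq_zero fun ζ hζ => ?_
    rw [regSum_eq_contribN, contribN_comm, contribN_eq_zero hM hwb (mem_bset.mp hζ) hηw,
      Int.cast_zero, mul_zero, mul_zero]
  rw [gram_free hb χ χ' u hfree, ← hsum, sum_fS hM hwb hx χ χ']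
  obtain ⟨-, hd⟩ := blkAt_facts hb hab hM hψ u hfree
  have hn : Nat.card b.1 = p ^ Cfsg.blockDefect p (toSet ψ) :=
    Cfsg.Agent.Lib.Blocks.card_isDefectGroup hM (isPBlock_toSet ψ)
      ((isDefectGroup_iff (isPBlock_toSet ψ) b.1).mpr (by rw [blk_toSet]; exact isDef_of_top hb hψ))
  rw [natCast_card_eq p C[Subgroup.zpowers (u : G)], ← minVdeg_add_blockDefect (p := p) hwb, hd, hn,
    pow_add]
  simp only [Nat.cast_pow]
  have hp0 : (p : ℂ) ≠ 0 := Nat.cast_ne_zero.mpr (Fact.out : p.Prime).ne_zero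
  have hm : (primeToCard p C[Subgroup.zpowers (u : G)] : ℂ) ≠ 0 :=
    Nat.cast_ne_zero.mpr (primeToCard_pos p).ne'
  field_simp

/-- Rank one on a free orbit. -/
theorem gram_mul_gram (hM : Cfsg.IsPModular p M) {χ : Cfsg.IrrCharacter G} (hχ : blkOf M χ = ψ)
    (χ' : Cfsg.IrrCharacter G) (u : b.1) (hfree : ∀ α ∈ (autHom b).range, α u = u → α = 1) :
    gram hb χ χ' u * conj (gram hb χ χ' u) = gram hb χ χ u * gram hb χ' χ' u := by
  classical
  haveI := Fintype.ofFinite C[Subgroup.zpowers (u : G)]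
  set q : G := (u : G)
  set ω := blkAt hb.1 u with hω
  have h1 : Module.finrank ℂ (Cfsg.Agent.Lib.BC78.Subsections.regSpan p (toSet ω)) = 1 :=
    (Cfsg.Agent.Lib.BC78.Subsections.blockRank_eq _).symm.trans (blkAt_facts hb hab hM hψ u hfree).1
  obtain ⟨s₀, hs₀, hne⟩ : ∃ s : C[Subgroup.zpowers q], ¬ p ∣ orderOf s ∧
      phi (χ : G → ℂ) q ω s ≠ 0 := by
    have hB : Cfsg.IsPBlock M (toSet ψ) := isPBlock_toSet ψ
    have hψ' : PairOf p (blk hB) b := by rwa [blk_toSet]
    exact Free.exists_phi_ne_zero_central hM hB (mem_toSet.mpr hχ) hb hψ' u.2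
      (le_centralizer_of_le_abelian hab le_rfl u.2) ω (le_blkAt hb.1 u)
  have hne' : (⟨_, phi_mem_regSpan (p := p) (χ : G → ℂ) q ω⟩ :
      Cfsg.Agent.Lib.BC78.Subsections.regSpan p (toSet ω)) ≠ 0 := by
    intro h
    have h2 := congrFun (congrArg Subtype.val h) s₀
    simp only [pRegularPart_apply, if_neg hs₀] at h2
    exact hne h2
  obtain ⟨t, ht⟩ := exists_smul_eq_of_finrank_eq_one h1 hne'
    ⟨_, phi_mem_regSpan (p := p) (χ' : G → ℂ) q ω⟩
  have ht' : ∀ s : C[Subgroup.zpowers q], ¬ p ∣ orderOf s →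
      phi (χ' : G → ℂ) q ω s = t * phi (χ : G → ℂ) q ω s := by
    intro s hs
    have h2 := congrFun (congrArg Subtype.val ht) s
    simp only [SetLike.val_smul, Pi.smul_apply, pRegularPart_apply, if_neg hs, smul_eq_mul] at h2
    exact h2.symm
  have e1 : phiSum p χ χ' q ω = conj t * phiSum p χ χ q ω := by
    rw [phiSum_eq, phiSum_eq, Finset.mul_sum]
    refine Finset.sum_congr rfl fun s _ => ?_
    split_ifs with hs
    · simp
    · rw [ht' s hs, map_mul]; ring
  have e2 : phiSum p χ' χ' q ω = t * conj t * phiSum p χ χ q ω := by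
    rw [phiSum_eq, phiSum_eq, Finset.mul_sum]
    refine Finset.sum_congr rfl fun s _ => ?_
    split_ifs with hs
    · simp
    · rw [ht' s hs, map_mul]; ring
  obtain ⟨r, -, hr, -⟩ := exists_real hb χ u
  have ha : gram hb χ χ' u = conj t * gram hb χ χ u := by rw [gram, gram, e1]; ring
  have hc : gram hb χ' χ' u = t * conj t * gram hb χ χ u := by rw [gram, gram, e2]; ring
  rw [ha, hc, map_mul, Complex.conj_conj, hr, Complex.conj_ofReal]
  ring

/-- The trace on a free orbit. -/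
theorem sum_gram (hM : Cfsg.IsPModular p M) (u : b.1)
    (hfree : ∀ α ∈ (autHom b).range, α u = u → α = 1) :
    ∑ χ ∈ bset (toSet ψ), gram hb χ χ u = (Nat.card b.1 : ℂ) := by
  classical
  haveI := Fintype.ofFinite C[Subgroup.zpowers (u : G)]
  haveI := Fintype.ofFinite (Cfsg.IrrCharacter G)
  haveI := Fintype.ofFinite (Cfsg.IrrCharacter C[Subgroup.zpowers (u : G)])
  set q : G := (u : G)
  set ω := blkAt hb.1 u with hω
  have hq : ∃ k : ℕ, orderOf q = p ^ k := by
    obtain ⟨k, hk⟩ := IsPGroup.iff_orderOf.mp hb.1 u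
    exact ⟨k, by rw [← hk, Subgroup.orderOf_coe]⟩
  have hmain := Cfsg.Agent.Lib.Blocks.SectionPart.sum_regular_blockPart_mul hM hq rfl
    (isPBlock_toSet ω) (G := G)
  rw [(blkAt_facts hb hab hM hψ u hfree).1, Nat.cast_one, mul_one] at hmain
  have e : ∀ χ : Cfsg.IrrCharacter G, ∑ s : C[Subgroup.zpowers q],
      Cfsg.pRegularPart p (Cfsg.blockPart (toSet ω) (sect q C[Subgroup.zpowers q] (χ : G → ℂ))) s *
        Cfsg.blockPart (toSet ω) (sect q⁻¹ C[Subgroup.zpowers q] (χ : G → ℂ)) s⁻¹ =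
      phiSum p χ χ q ω := by
    intro χ
    rw [phiSum_eq]
    refine Finset.sum_congr rfl fun s _ => ?_
    rw [pRegularPart_apply, ite_mul, zero_mul]
    split_ifs with hs
    · rfl
    congr 1
    rw [phi, blockPart_apply, blockPart_apply, map_sum]
    refine Finset.sum_congr rfl fun θ _ => ?_
    rw [map_mul, ← apply_inv (isCharacter_irr θ)]
    congr 1
    rw [Cfsg.classInner, Cfsg.classInner, map_mul, map_inv₀, map_natCast, map_sum]
    congr 1
    refine Fintype.sum_equiv (Equiv.inv _) _ _ fun c => ?_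
    have hcomm : Commute q (c : G) := commute_section _ c.2
    simp only [Equiv.inv_apply, sect_apply, map_mul, Complex.conj_conj]
    rw [← apply_inv (isCharacter_irr χ), InvMemClass.coe_inv, mul_inv_rev, inv_inv,
      hcomm.inv_left.eq, apply_inv (isCharacter_irr θ)]
  rw [Finset.sum_congr rfl fun χ _ => e χ] at hmain
  have hz : ∀ χ : Cfsg.IrrCharacter G, χ ∉ bset (toSet ψ) → phiSum p χ χ q ω = 0 := by
    intro χ hχ
    refine NilpotentPairing.phiSum_eq_zero χ χ hM hq ω fun h => hχ (mem_bset.mpr (mem_toSet.mpr ?_))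
    obtain ⟨ψ', -, huniq⟩ := existsUnique_pairOf (⟨Subgroup.zpowers q, ω⟩ : Idx (Res M) G)
      (isPGroup_of_orderOf hq)
    exact (huniq _ h).trans
      (huniq _ ((pairOf_iff_of_le hb.1 (le_blkAt hb.1 u) _).mpr hψ)).symm
  rw [← Finset.sum_subset (Finset.subset_univ _) fun χ _ h => hz χ h] at hmain
  rw [Finset.sum_congr rfl fun χ _ => gram_free hb χ χ u hfree, ← Finset.mul_sum, hmain,
    div_mul_cancel₀]
  exact Nat.cast_ne_zero.mpr Nat.card_pos.ne'

end Cfsg.Agent.Lib.StarChar.AbelianSection
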