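import Mathlib

/-!
# Idempotents of a finite-dimensional algebra over an algebraically closed field

`Pkg k A` is the list of simple quotients of `A`.  An idempotent of total rank one (`Single`) has a
local corner and is determined up to equivalence by its quotient; every idempotent is a sum of
such ones (`idem_induction`); a symmetric functional is a combination of the traces (`trace_sym`).
-/

set_option autoImplicit false

namespace Cfsg.Agent.Lib.StarChar.Algebra

universe v w

open Module (finrank End)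

/-- The simple quotients of `A`. -/
structure Pkg (k : Type v) [Field k] (A : Type w) [Ring A] [Algebra k A] where
  /-- Their number. -/
  n : ℕ
  /-- Their dimensions. -/
  d : Fin n → ℕ
  hd : ∀ i, d i ≠ 0
  /-- The quotient maps. -/
  π : ∀ i, A →ₐ[k] End k (Fin (d i) → k)
  surj : ∀ f : ∀ i, End k (Fin (d i) → k), ∃ a, ∀ i, π i a = f i
  nil : ∀ a, (∀ i, π i a = 0) → IsNilpotent a

variable {k : Type v} [Field k] {A : Type w} [Ring A] [Algebra k A]

theorem exists_pkg [IsAlgClosed k] [FiniteDimensional k A] : Nonempty (Pkg k A) := by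
  have := IsArtinianRing.of_finite k A
  let q : A →ₐ[k] A ⧸ Ring.jacobson A := Ideal.Quotient.mkₐ k (Ring.jacobson A)
  have hq : Function.Surjective q := Ideal.Quotient.mkₐ_surjective k _
  have : FiniteDimensional k (A ⧸ Ring.jacobson A) :=
    Module.Finite.of_surjective q.toLinearMap hq
  obtain ⟨n, d, hd, ⟨e⟩⟩ := IsSemisimpleRing.exists_algEquiv_pi_matrix_of_isAlgClosed k
    (A ⧸ Ring.jacobson A)
  refine ⟨⟨n, d, fun i => (hd i).out, fun i =>
    (Matrix.toLinAlgEquiv' (R := k) (n := Fin (d i))).toAlgHom.comp ((Pi.evalAlgHom k _ i).comp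
      (e.toAlgHom.comp q)), fun f => ?_, fun a ha => ?_⟩⟩
  · obtain ⟨a, ha⟩ := hq (e.symm fun i => Matrix.toLinAlgEquiv'.symm (f i))
    exact ⟨a, fun i => by simp [ha]⟩
  · have h0 : q a = 0 := by
      apply e.injective
      rw [map_zero]
      funext i
      exact (Matrix.toLinAlgEquiv' (R := k) (n := Fin (d i))).injective
        ((ha i).trans (map_zero _).symm)
    obtain ⟨N, hN⟩ := IsSemiprimaryRing.isNilpotent (R := A)
    refine ⟨N, ?_⟩
    have h := Ideal.pow_mem_pow (Ideal.Quotient.eq_zero_iff_mem.mp h0) N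
    rwa [hN, Ideal.zero_eq_bot, Ideal.mem_bot] at h

theorem idem_eq_zero_of_isNilpotent {e : A} (he : IsIdempotentElem e) (h : IsNilpotent e) :
    e = 0 := by
  obtain ⟨n, hn⟩ := h
  rw [← he.pow_succ_eq n, pow_succ, hn, zero_mul]

variable (P : Pkg k A)

/-- The rank in a simple quotient. -/
noncomputable def Pkg.rank (i : Fin P.n) (e : A) : ℕ := finrank k (LinearMap.range (P.π i e))

theorem Pkg.idem_eq_zero {e : A} (he : IsIdempotentElem e) (h : ∀ i, P.π i e = 0) : e = 0 :=
  idem_eq_zero_of_isNilpotent he (P.nil e h)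

theorem Pkg.idem_apply {i : Fin P.n} {e : A} (he : IsIdempotentElem e) {z : Fin (P.d i) → k}
    (hz : z ∈ LinearMap.range (P.π i e)) : P.π i e z = z := by
  obtain ⟨y, rfl⟩ := hz
  exact LinearMap.congr_fun (he.map (P.π i)).eq y

theorem Pkg.trace_eq_rank {i : Fin P.n} {e : A} (he : IsIdempotentElem e) :
    LinearMap.trace k _ (P.π i e) = (P.rank i e : k) :=
  LinearMap.IsProj.trace ⟨LinearMap.mem_range_self _, fun _ hx => P.idem_apply he hx⟩

theorem Pkg.rank_zero (i : Fin P.n) : P.rank i 0 = 0 := by
  rw [Pkg.rank, map_zero, LinearMap.range_zero, finrank_bot]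

theorem Pkg.rank_add {i : Fin P.n} {e f : A} (he : IsIdempotentElem e) (hf : IsIdempotentElem f)
    (hef : e * f = 0) (hfe : f * e = 0) : P.rank i (e + f) = P.rank i e + P.rank i f := by
  have h1 : ∀ z, P.π i e (P.π i f z) = 0 := fun z => by
    rw [← Module.End.mul_apply, ← map_mul, hef, map_zero, LinearMap.zero_apply]
  have h2 : ∀ z, P.π i f (P.π i e z) = 0 := fun z => by
    rw [← Module.End.mul_apply, ← map_mul, hfe, map_zero, LinearMap.zero_apply]
  have hsup : LinearMap.range (P.π i (e + f)) =
      LinearMap.range (P.π i e) ⊔ LinearMap.range (P.π i f) := by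
    apply le_antisymm
    · rintro _ ⟨z, rfl⟩
      rw [map_add]
      exact Submodule.add_mem_sup (LinearMap.mem_range_self _ z) (LinearMap.mem_range_self _ z)
    · refine sup_le ?_ ?_
      · rintro _ ⟨z, rfl⟩
        refine ⟨P.π i e z, ?_⟩
        rw [map_add, LinearMap.add_apply, h2, add_zero,
          P.idem_apply he (LinearMap.mem_range_self _ z)]
      · rintro _ ⟨z, rfl⟩
        refine ⟨P.π i f z, ?_⟩
        rw [map_add, LinearMap.add_apply, h1, zero_add,
          P.idem_apply hf (LinearMap.mem_range_self _ z)]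
  have hinf : LinearMap.range (P.π i e) ⊓ LinearMap.range (P.π i f) = ⊥ := by
    rw [eq_bot_iff]
    rintro z ⟨hz, hz'⟩
    rw [Submodule.mem_bot, ← P.idem_apply he hz, ← P.idem_apply hf hz', h1]
  have h := Submodule.finrank_sup_add_finrank_inf_eq (LinearMap.range (P.π i e))
    (LinearMap.range (P.π i f))
  rw [hinf, finrank_bot, add_zero, ← hsup] at h
  exact h

/-- An idempotent of total rank one. -/
structure Pkg.Single (s : Fin P.n) (e : A) : Prop where
  idem : IsIdempotentElem e
  rank_self : P.rank s e = 1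
  other : ∀ i ≠ s, P.π i e = 0

theorem Pkg.Single.rank_other {P : Pkg k A} {s i : Fin P.n} {e : A} (h : P.Single s e)
    (hi : i ≠ s) : P.rank i e = 0 := by
  rw [Pkg.rank, h.other i hi, LinearMap.range_zero, finrank_bot]

theorem Pkg.Single.ne_zero {P : Pkg k A} {s : Fin P.n} {e : A} (h : P.Single s e) : e ≠ 0 := by
  intro h0
  have := h.rank_self
  rw [h0, P.rank_zero] at this
  exact zero_ne_one this

/-- Idempotent elements lift, below a given idempotent. -/
theorem Pkg.exists_idem_lift {e : A} (he : IsIdempotentElem e)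
    (v : ∀ i, End k (Fin (P.d i) → k)) (hv : ∀ i, v i * v i = v i)
    (hev : ∀ i, P.π i e * v i = v i) (hve : ∀ i, v i * P.π i e = v i) :
    ∃ j : A, IsIdempotentElem j ∧ e * j = j ∧ j * e = j ∧ ∀ i, P.π i j = v i := by
  obtain ⟨x₀, hx₀⟩ := P.surj v
  set x := e * x₀ * e with hxdef
  have hx : ∀ i, P.π i x = v i := fun i => by
    rw [hxdef, map_mul, map_mul, hx₀, hev, hve]
  have hex : e * x = x := by rw [hxdef, ← mul_assoc, ← mul_assoc, he.eq]
  have hxe : x * e = x := by rw [hxdef, mul_assoc, he.eq]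
  obtain ⟨m, hm⟩ := P.nil (x * (1 - x)) fun i => by
    rw [map_mul, map_sub, map_one, hx, mul_sub, mul_one, hv, sub_self]
  obtain ⟨a, b, hab⟩ : IsCoprime ((Polynomial.X : Polynomial k) ^ (m + 1))
      ((1 - Polynomial.X) ^ (m + 1)) :=
    IsCoprime.pow (show IsCoprime (Polynomial.X : Polynomial k) (1 - Polynomial.X) from
      ⟨1, 1, by ring⟩)
  let ev := Polynomial.aeval (R := k) x
  have hdec : ev a * x ^ (m + 1) + ev b * (1 - x) ^ (m + 1) = 1 := by
    have h := congrArg ev hab
    simpa [ev] using h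
  refine ⟨ev a * x ^ (m + 1), ?_, ?_, ?_, fun i => ?_⟩
  · have h0 : ev a * x ^ (m + 1) * (ev b * (1 - x) ^ (m + 1)) = 0 := by
      have : ev (a * b * (Polynomial.X * (1 - Polynomial.X)) ^ (m + 1)) = 0 := by
        simp only [ev, map_mul, map_pow, map_sub, map_one, Polynomial.aeval_X]
        rw [pow_succ, hm, zero_mul, mul_zero]
      rw [← this]
      rw [show a * b * (Polynomial.X * (1 - Polynomial.X)) ^ (m + 1) =
        a * Polynomial.X ^ (m + 1) * (b * (1 - Polynomial.X) ^ (m + 1)) by rw [mul_pow]; ring]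
      simp only [ev, map_mul, map_pow, map_sub, map_one, Polynomial.aeval_X]
    have h1 := congrArg (fun z => ev a * x ^ (m + 1) * z) hdec
    simp only [mul_add, h0, add_zero, mul_one] at h1
    exact h1
  · have hc : ev a * x ^ (m + 1) = x ^ (m + 1) * ev a := by
      have h := congrArg ev (mul_comm a (Polynomial.X ^ (m + 1)))
      simpa [ev] using h
    rw [hc, pow_succ', ← mul_assoc, ← mul_assoc, hex]
  · rw [mul_assoc, pow_succ, mul_assoc, hxe]
  · have hpow : v i ^ (m + 1) = v i := IsIdempotentElem.pow_succ_eq m (hv i)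
    have hpow' : v i * (1 - v i) ^ (m + 1) = 0 := by
      rw [pow_succ', ← mul_assoc, mul_sub, mul_one, hv, sub_self, zero_mul]
    have hcomm : Commute (v i) (P.π i (ev b)) := by
      rw [← hx i]
      refine Commute.map ?_ (P.π i)
      have h := congrArg ev (mul_comm Polynomial.X b)
      simpa [ev, Commute, SemiconjBy] using h
    have hcomm' : Commute (v i) (P.π i (ev a)) := by
      rw [← hx i]
      refine Commute.map ?_ (P.π i)
      have h := congrArg ev (mul_comm Polynomial.X a)
      simpa [ev, Commute, SemiconjBy] using h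
    have h := congrArg (fun z => v i * P.π i z) hdec
    simp only [map_add, map_mul, map_pow, map_sub, map_one, hx, hpow, mul_add, mul_one] at h
    rw [map_mul, map_pow, hx, hpow]
    rw [← mul_assoc (v i) (P.π i (ev b)), hcomm.eq, mul_assoc, hpow', mul_zero, add_zero,
      ← mul_assoc, hcomm'.eq, mul_assoc, hv] at h
    exact h

theorem exists_dual {m : ℕ} {z : Fin m → k} (hz : z ≠ 0) :
    ∃ φ : (Fin m → k) →ₗ[k] k, φ z = 1 := by
  obtain ⟨j, hj⟩ := Function.ne_iff.mp hz
  exact ⟨(z j)⁻¹ • LinearMap.proj j, by simp [inv_mul_cancel₀ (show z j ≠ 0 from hj)]⟩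

/-- A rank-one map. -/
def rankOne {m : ℕ} (w : Fin m → k) (φ : (Fin m → k) →ₗ[k] k) : End k (Fin m → k) :=
  φ.smulRight w

theorem rankOne_apply {m : ℕ} (w : Fin m → k) (φ : (Fin m → k) →ₗ[k] k) (z : Fin m → k) :
    rankOne w φ z = φ z • w := rfl

theorem rankOne_mul {m : ℕ} (w w' : Fin m → k) (φ φ' : (Fin m → k) →ₗ[k] k) :
    rankOne w φ * rankOne w' φ' = φ w' • rankOne w φ' := by
  refine LinearMap.ext fun z => ?_
  simp only [Module.End.mul_apply, LinearMap.smul_apply, rankOne_apply, map_smul, smul_smul,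
    mul_comm]

theorem finrank_range_rankOne {m : ℕ} {w : Fin m → k} {φ : (Fin m → k) →ₗ[k] k} (h : φ w = 1) :
    finrank k (LinearMap.range (rankOne w φ)) = 1 := by
  have hw : w ≠ 0 := fun e => by rw [e, map_zero] at h; exact zero_ne_one h
  have : LinearMap.range (rankOne w φ) = k ∙ w := by
    apply le_antisymm
    · rintro _ ⟨z, rfl⟩
      exact Submodule.smul_mem _ _ (Submodule.mem_span_singleton_self w)
    · rw [Submodule.span_singleton_le_iff_mem]
      exact ⟨w, by rw [rankOne_apply, h, one_smul]⟩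
  rw [this, finrank_span_singleton hw]

/-- In every simple quotient and below every idempotent that does not vanish there is an
idempotent of total rank one. -/
theorem Pkg.exists_single_le {e : A} (he : IsIdempotentElem e) {s : Fin P.n}
    (hs : P.π s e ≠ 0) : ∃ j, P.Single s j ∧ e * j = j ∧ j * e = j := by
  classical
  obtain ⟨z, hz⟩ : ∃ z, P.π s e z ≠ 0 := by
    by_contra h
    push Not at h
    exact hs (LinearMap.ext h)
  obtain ⟨φ₀, hφ₀⟩ := exists_dual hz
  let φ : (Fin (P.d s) → k) →ₗ[k] k := φ₀.comp (P.π s e)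
  have hw : φ (P.π s e z) = 1 := by
    show φ₀ (P.π s e (P.π s e z)) = 1
    rw [P.idem_apply he (LinearMap.mem_range_self _ z), hφ₀]
  let v : ∀ i, End k (Fin (P.d i) → k) :=
    Function.update (fun _ => 0) s (rankOne (P.π s e z) φ)
  have hvs : v s = rankOne (P.π s e z) φ := Function.update_self _ _ _
  have hvo : ∀ i ≠ s, v i = 0 := fun i hi => Function.update_of_ne hi _ _
  have h1 : ∀ i, v i * v i = v i := by
    intro i
    rcases eq_or_ne i s with hi | hi
    · subst hi
      rw [hvs, rankOne_mul, hw, one_smul]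
    · rw [hvo i hi, mul_zero]
  have h2 : ∀ i, P.π i e * v i = v i := by
    intro i
    rcases eq_or_ne i s with hi | hi
    · subst hi
      rw [hvs]
      refine LinearMap.ext fun y => ?_
      rw [Module.End.mul_apply, rankOne_apply, map_smul,
        P.idem_apply he (LinearMap.mem_range_self _ z)]
    · rw [hvo i hi, mul_zero]
  have h3 : ∀ i, v i * P.π i e = v i := by
    intro i
    rcases eq_or_ne i s with hi | hi
    · subst hi
      rw [hvs]
      refine LinearMap.ext fun y => ?_
      simp only [Module.End.mul_apply, rankOne_apply, φ, LinearMap.comp_apply,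
        P.idem_apply he (LinearMap.mem_range_self _ y)]
    · rw [hvo i hi, zero_mul]
  obtain ⟨j, hj, hej, hje, hjv⟩ := P.exists_idem_lift he v h1 h2 h3
  exact ⟨j, ⟨hj, by rw [Pkg.rank, hjv, hvs, finrank_range_rankOne hw],
    fun i hi => by rw [hjv, hvo i hi]⟩, hej, hje⟩

theorem Pkg.exists_single (s : Fin P.n) : ∃ j, P.Single s j := by
  obtain ⟨j, hj, -⟩ := P.exists_single_le IsIdempotentElem.one (s := s) (by
    rw [map_one]
    have := P.hd s
    have : NeZero (P.d s) := ⟨this⟩
    intro h
    have h' := congrFun (LinearMap.congr_fun h (fun _ => (1 : k))) 0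
    exact one_ne_zero h')
  exact ⟨j, hj⟩

/-- Induction on sums of idempotents of total rank one. -/
theorem Pkg.idem_induction {motive : A → Prop} (h0 : motive 0)
    (h1 : ∀ (s : Fin P.n) (e : A), P.Single s e → motive e)
    (hadd : ∀ a b : A, IsIdempotentElem a → IsIdempotentElem b → a * b = 0 → b * a = 0 →
      motive a → motive b → motive (a + b))
    {e : A} (he : IsIdempotentElem e) : motive e := by
  suffices ∀ (m : ℕ) (e : A), IsIdempotentElem e → ∑ i, P.rank i e = m → motive e from
    this _ e he rfl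
  intro m
  induction m using Nat.strong_induction_on with
  | _ m ih =>
    intro e he hm
    by_cases hz : ∀ i, P.π i e = 0
    · rw [P.idem_eq_zero he hz]; exact h0
    push Not at hz
    obtain ⟨s, hs⟩ := hz
    obtain ⟨j, hj, hej, hje⟩ := P.exists_single_le he hs
    have hjd : j * (e - j) = 0 := by rw [mul_sub, hje, hj.idem.eq, sub_self]
    have hdj : (e - j) * j = 0 := by rw [sub_mul, hej, hj.idem.eq, sub_self]
    have hd : IsIdempotentElem (e - j) := by
      show (e - j) * (e - j) = e - j
      rw [sub_mul, hjd, sub_zero, mul_sub, he.eq, hej]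
    have hrank : ∑ i, P.rank i j + ∑ i, P.rank i (e - j) = m := by
      rw [← Finset.sum_add_distrib, ← hm]
      refine Finset.sum_congr rfl fun i _ => ?_
      rw [← P.rank_add hj.idem hd hjd hdj, add_sub_cancel]
    have hpos : 1 ≤ ∑ i, P.rank i j := by
      rw [← hj.rank_self]
      exact Finset.single_le_sum (f := fun i => P.rank i j) (fun i _ => Nat.zero_le _)
        (Finset.mem_univ s)
    have := hadd j (e - j) hj.idem hd hjd hdj (h1 s j hj) (ih _ (by omega) _ hd rfl)
    rwa [add_sub_cancel] at this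

/-- The image of an idempotent of total rank one. -/
theorem Pkg.Single.exists_rankOne {P : Pkg k A} {s : Fin P.n} {e : A} (h : P.Single s e) :
    ∃ (w : Fin (P.d s) → k) (φ : (Fin (P.d s) → k) →ₗ[k] k),
      φ w = 1 ∧ P.π s e = rankOne w φ := by
  obtain ⟨⟨w, hwm⟩, hw0, hwspan⟩ := finrank_eq_one_iff'.mp h.rank_self
  have hw0' : w ≠ 0 := fun e => hw0 (Subtype.ext e)
  obtain ⟨φ₀, hφ₀⟩ := exists_dual hw0'
  refine ⟨w, φ₀.comp (P.π s e), ?_, ?_⟩
  · rw [LinearMap.comp_apply, P.idem_apply h.idem hwm, hφ₀]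
  · refine LinearMap.ext fun z => ?_
    obtain ⟨c, hc⟩ := hwspan ⟨P.π s e z, LinearMap.mem_range_self _ z⟩
    have hc' : c • w = P.π s e z := congrArg Subtype.val hc
    rw [rankOne_apply, LinearMap.comp_apply, ← hc', map_smul, hφ₀, smul_eq_mul, mul_one]

/-- The corner of an idempotent of total rank one is local. -/
theorem Pkg.Single.corner {P : Pkg k A} {s : Fin P.n} {e : A} (h : P.Single s e) {x : A}
    (hx : e * x = x) (hx' : x * e = x) :
    IsNilpotent x ∨ ∃ y : A, e * y = y ∧ y * e = y ∧ x * y = e ∧ y * x = e := by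
  obtain ⟨w, φ, hw, hE⟩ := h.exists_rankOne
  set c := φ (P.π s x w) with hc
  have hxs : P.π s x = c • P.π s e := by
    have h1 : P.π s e * P.π s x * P.π s e = P.π s x := by
      rw [← map_mul, ← map_mul, hx, hx']
    rw [← h1, hE]
    refine LinearMap.ext fun z => ?_
    simp only [Module.End.mul_apply, rankOne_apply, LinearMap.smul_apply, map_smul, smul_smul,
      hc, mul_comm]
  have hxo : ∀ i ≠ s, P.π i x = 0 := fun i hi => by rw [← hx, map_mul, h.other i hi, zero_mul]
  by_cases hc0 : c = 0
  · refine Or.inl (P.nil x fun i => ?_)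
    rcases eq_or_ne i s with rfl | hi
    · rw [hxs, hc0, zero_smul]
    · exact hxo i hi
  · refine Or.inr ?_
    set u := 1 - e + c⁻¹ • x with hu
    have hu1 : IsUnit u := by
      have hn : IsNilpotent (e - c⁻¹ • x) := P.nil _ fun i => by
        rw [map_sub, map_smul]
        rcases eq_or_ne i s with rfl | hi
        · rw [hxs, smul_smul, inv_mul_cancel₀ hc0, one_smul, sub_self]
        · rw [h.other i hi, hxo i hi, smul_zero, sub_zero]
      have := hn.isUnit_one_sub
      rwa [sub_sub_eq_add_sub, add_sub_right_comm, ← hu] at this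
    obtain ⟨u, hu'⟩ := hu1
    rw [← hu'] at hu
    have heu : e * (u : A) = c⁻¹ • x := by
      rw [hu, mul_add, mul_sub, mul_one, h.idem.eq, sub_self, zero_add, mul_smul_comm, hx]
    have hue : (u : A) * e = c⁻¹ • x := by
      rw [hu, add_mul, sub_mul, one_mul, h.idem.eq, sub_self, zero_add, smul_mul_assoc, hx']
    have hcomm : Commute e ((u⁻¹ : Aˣ) : A) := (Commute.units_inv_right (heu.trans hue.symm))
    refine ⟨c⁻¹ • (e * ((u⁻¹ : Aˣ) : A)), ?_, ?_, ?_, ?_⟩
    · rw [mul_smul_comm, ← mul_assoc, h.idem.eq]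
    · rw [smul_mul_assoc, mul_assoc, ← hcomm.eq, ← mul_assoc, h.idem.eq]
    · rw [mul_smul_comm, ← smul_mul_assoc, ← mul_assoc, ← heu]
      rw [mul_assoc e (u : A) e, hue, mul_smul_comm, hx, ← heu, mul_assoc, Units.mul_inv, mul_one]
    · rw [smul_mul_assoc, ← mul_smul_comm, ← hue, mul_assoc, Units.inv_mul_cancel_left, h.idem.eq]

/-- Idempotents of total rank one in the same quotient are equivalent. -/
theorem Pkg.Single.equiv {P : Pkg k A} {s : Fin P.n} {e e' : A} (h : P.Single s e)
    (h' : P.Single s e') :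
    ∃ x y : A, x * y = e ∧ y * x = e' ∧ e * x = x ∧ x * e' = x ∧ e' * y = y ∧ y * e = y := by
  classical
  obtain ⟨w, φ, hw, hE⟩ := h.exists_rankOne
  obtain ⟨w', φ', hw', hE'⟩ := h'.exists_rankOne
  obtain ⟨x₀, hx₀⟩ := P.surj (Function.update (fun _ => 0) s (rankOne w φ'))
  obtain ⟨y₀, hy₀⟩ := P.surj (Function.update (fun _ => 0) s (rankOne w' φ))
  obtain ⟨x, hx⟩ : ∃ x, x = e * x₀ * e' := ⟨_, rfl⟩
  obtain ⟨y, hy⟩ : ∃ y, y = e' * y₀ * e := ⟨_, rfl⟩
  have hex : e * x = x := by rw [hx, ← mul_assoc, ← mul_assoc, h.idem.eq]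
  have hxe : x * e' = x := by rw [hx, mul_assoc, h'.idem.eq]
  have hey : e' * y = y := by rw [hy, ← mul_assoc, ← mul_assoc, h'.idem.eq]
  have hye : y * e = y := by rw [hy, mul_assoc, h.idem.eq]
  have hxs : P.π s x = rankOne w φ' := by
    rw [hx, map_mul, map_mul, hx₀, Function.update_self, hE, hE', rankOne_mul, hw, one_smul,
      rankOne_mul, hw', one_smul]
  have hys : P.π s y = rankOne w' φ := by
    rw [hy, map_mul, map_mul, hy₀, Function.update_self, hE, hE', rankOne_mul, hw', one_smul,
      rankOne_mul, hw, one_smul]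
  have hzs : P.π s (x * y) = P.π s e := by
    rw [map_mul, hxs, hys, rankOne_mul, hw', one_smul, hE]
  rcases h.corner (x := x * y) (by rw [← mul_assoc, hex]) (by rw [mul_assoc, hye]) with hn | hu
  · exfalso
    obtain ⟨m, hm⟩ := hn
    have h0 := congrArg (P.π s) hm
    rw [map_pow, hzs, ← map_pow, map_zero] at h0
    rcases m with - | m
    · rw [pow_zero, map_one] at h0
      have : NeZero (P.d s) := ⟨P.hd s⟩
      exact one_ne_zero (congrFun (LinearMap.congr_fun h0 (fun _ => (1 : k))) 0)
    · rw [h.idem.pow_succ_eq] at h0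
      have := h.rank_self
      rw [Pkg.rank, h0, LinearMap.range_zero, finrank_bot] at this
      exact zero_ne_one this
  obtain ⟨t, het, hte, hzt, -⟩ := hu
  have hxyt : x * (y * t) = e := by rw [← mul_assoc, hzt]
  refine ⟨x, y * t, hxyt, ?_, hex, hxe, by rw [← mul_assoc, hey], by rw [mul_assoc, hte]⟩
  have hts : P.π s t = P.π s e := by
    have h1 := congrArg (P.π s) hzt
    rw [map_mul, hzs, ← map_mul, het] at h1
    exact h1
  set f := y * t * x with hf
  have hfi : f * f = f := by
    rw [hf, show y * t * x * (y * t * x) = y * t * (x * (y * t)) * x by simp only [mul_assoc],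
      hxyt, mul_assoc (y * t) e x, hex]
  have hd : IsIdempotentElem (e' - f) := by
    have h1 : e' * f = f := by rw [hf, ← mul_assoc, ← mul_assoc, hey]
    have h2 : f * e' = f := by rw [hf, mul_assoc, hxe]
    show (e' - f) * (e' - f) = e' - f
    rw [sub_mul, mul_sub, mul_sub, h'.idem.eq, h1, h2, hfi, sub_self, sub_zero]
  refine (sub_eq_zero.mp (P.idem_eq_zero hd fun i => ?_)).symm
  rcases eq_or_ne i s with rfl | hi
  · rw [map_sub, hf, map_mul, map_mul, hts, hys, hxs, hE, rankOne_mul, hw, one_smul, rankOne_mul,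
      hw, one_smul, hE', sub_self]
  · rw [map_sub, h'.other i hi, hf, map_mul, hx, map_mul, map_mul, h'.other i hi, mul_zero,
      mul_zero, sub_zero]

/-- A symmetric functional vanishing on the kernel is a combination of the traces. -/
theorem Pkg.trace_sym (T : A →ₗ[k] k) (hT : ∀ a b, T (a * b) = T (b * a))
    (hker : ∀ a, (∀ i, P.π i a = 0) → T a = 0) (e : Fin P.n → A) (he : ∀ s, P.Single s (e s))
    (a : A) : T a = ∑ s, T (e s) * LinearMap.trace k _ (P.π s a) := by
  classical
  let L : ∀ s, End k (Fin (P.d s) → k) → A := fun s f =>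
    (P.surj (Function.update (fun _ => 0) s f)).choose
  have hL : ∀ s f i, P.π i (L s f) = Function.update (β := fun i => End k (Fin (P.d i) → k))
      (fun _ => 0) s f i := fun s f =>
    (P.surj (Function.update (fun _ => 0) s f)).choose_spec
  have hwd : ∀ a b, (∀ i, P.π i a = P.π i b) → T a = T b := fun a b h => by
    rw [← sub_eq_zero, ← map_sub]
    exact hker _ fun i => by rw [map_sub, h, sub_self]
  have hone : ∀ s w φ, T (L s (rankOne w φ)) = φ w * T (e s) := by
    intro s w φ
    obtain ⟨w₀, φ₀, hw₀, hE⟩ := (he s).exists_rankOne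
    have h1 : T (L s (rankOne w φ)) = T (L s (rankOne w φ₀) * L s (rankOne w₀ φ)) := by
      refine hwd _ _ fun i => ?_
      rw [map_mul, hL, hL, hL]
      rcases eq_or_ne i s with rfl | hi
      · simp only [Function.update_self, rankOne_mul, hw₀, one_smul]
      · simp only [Function.update_of_ne hi, mul_zero]
    rw [h1, hT, show φ w * T (e s) = T (φ w • e s) by rw [map_smul, smul_eq_mul]]
    refine hwd _ _ fun i => ?_
    rw [map_mul, hL, hL, map_smul]
    rcases eq_or_ne i s with rfl | hi
    · simp only [Function.update_self, rankOne_mul, hE]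
    · simp only [Function.update_of_ne hi, mul_zero, (he s).other i hi, smul_zero]
  have hdec : ∀ i, P.π i a = ∑ s, ∑ j : Fin (P.d s),
      P.π i (L s (rankOne (Pi.single j 1) ((LinearMap.proj j).comp (P.π s a)))) := by
    intro i
    rw [Finset.sum_eq_single i (fun s _ hs => Finset.sum_eq_zero fun j _ => by
      rw [hL, Function.update_of_ne hs.symm]) (fun h => absurd (Finset.mem_univ _) h)]
    refine LinearMap.ext fun z => funext fun l => ?_
    simp only [hL, Function.update_self, LinearMap.sum_apply, Finset.sum_apply, rankOne_apply,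
      Pi.smul_apply, LinearMap.comp_apply, LinearMap.proj_apply, smul_eq_mul, Pi.single_apply,
      mul_ite, mul_one, mul_zero, Finset.sum_ite_eq, Finset.mem_univ, if_true]
  rw [hwd a (∑ s, ∑ j : Fin (P.d s),
      L s (rankOne (Pi.single j 1) ((LinearMap.proj j).comp (P.π s a))))
      (fun i => by simp only [map_sum]; exact hdec i), map_sum]
  refine Finset.sum_congr rfl fun s _ => ?_
  rw [map_sum, LinearMap.trace_eq_matrix_trace k (Pi.basisFun k (Fin (P.d s))), Matrix.trace,
    Finset.mul_sum]
  refine Finset.sum_congr rfl fun j _ => ?_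
  rw [hone, mul_comm]
  simp [Matrix.diag]

end Cfsg.Agent.Lib.StarChar.Algebra
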