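import Cfsg.Agent.Lib.StarChar.Integrality
import Cfsg.Agent.Lib.Blocks.SecondMain
import Cfsg.Agent.Lib.Blocks.Orthogonality
import Cfsg.Agent.Lib.Blocks.SectionPart
import Cfsg.Agent.Lib.BrauerMap.PrincipalSection
import Cfsg.Agent.Lib.Brauer.Monomial
import Cfsg.Agent.Lib.Transfer.Frobenius
import Cfsg.Agent.Lib.BC77.Reg

/-!
# The star product of a character with a function of the Brauer elements

`starFn p χ f` takes at `g` with `p`-part `q` the value `∑ f (q, ω) * χ (g * ê_ω)`, the sum over the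
blocks `ω` of `C(q)`.  For invariant coherent `f` it is a generalized character
(`isGeneralized_star`).
-/

set_option autoImplicit false

namespace Cfsg.Agent.Lib.StarChar.Comp

open MonoidAlgebra
open scoped ComplexConjugate
open Cfsg.Agent.Lib.Blocks (localRing residue lin extHom blockIdemR)
open Cfsg.Agent.Lib.BrauerMap.Basic
open Cfsg.Agent.Lib.BrauerPairs.Center Cfsg.Agent.Lib.BrauerPairs.Trunc
open Cfsg.Agent.Lib.BrauerPairs.Conj Cfsg.Agent.Lib.BrauerPairs.Pairs
open Cfsg.Agent.Lib.BrauerPairs.Bridge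
open Cfsg.Agent.Lib.StarChar.Fixed Cfsg.Agent.Lib.StarChar.Theta
open Cfsg.Agent.Lib.StarChar.Equiv Cfsg.Agent.Lib.StarChar.Integrality
open Cfsg.Agent.Lib.Characters.Basic

universe u

attribute [local instance] Ideal.Quotient.field

variable {M : Ideal Cfsg.AlgInt} [M.IsMaximal] {G : Type u} [Group G] [Finite G]

local notation "C[" P "]" => Subgroup.centralizer ((P : Subgroup G) : Set G)
local notation "kG" => MonoidAlgebra (Res M) G
local notation "𝒪" => localRing M

/-- Extension of scalars from the local ring. -/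
noncomputable def toC : MonoidAlgebra 𝒪 G →+* MonoidAlgebra ℂ G :=
  MonoidAlgebra.mapRingHom G (localRing M).subtype

/-- The lifted idempotent of a block of a subgroup. -/
noncomputable def eHat (H : Subgroup G) (ω : Blk (Res M) H) : MonoidAlgebra 𝒪 G :=
  extHom 𝒪 H (blockIdemR (isPBlock_toSet ω)).1

theorem coeff_eHat (H : Subgroup G) (ω : Blk (Res M) H) (h : H) :
    (((eHat H ω).coeff (h : G) : 𝒪) : ℂ) = Cfsg.blockCoeff (toSet ω) h := by
  rw [eHat, Blocks.coeff_extHom]
  rfl

theorem coeff_eHat_of_notMem (H : Subgroup G) (ω : Blk (Res M) H) {g : G} (hg : g ∉ H) :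
    (eHat H ω).coeff g = 0 := Blocks.coeff_extHom_of_notMem H _ hg

theorem eHat_idem (H : Subgroup G) (ω : Blk (Res M) H) :
    eHat H ω * eHat H ω = eHat H ω := by
  rw [eHat, ← map_mul, ← MulMemClass.coe_mul, Blocks.blockIdemR_mul_self]

theorem eHat_mem_fx (H : Subgroup G) (ω : Blk (Res M) H) : eHat H ω ∈ fx 𝒪 H := by
  refine mem_fx.mpr fun u hu g => ?_
  by_cases hg : g ∈ H
  · have h1 : u * g * u⁻¹ = ((⟨u, hu⟩ * ⟨g, hg⟩ * (⟨u, hu⟩ : H)⁻¹ : H) : G) := rfl
    apply Subtype.ext
    rw [h1, coeff_eHat, coeff_eHat H ω ⟨g, hg⟩, blockCoeff_inv_conj]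
  · rw [coeff_eHat_of_notMem _ _ hg, coeff_eHat_of_notMem]
    intro h
    apply hg
    simpa [mul_assoc] using mul_mem (mul_mem (inv_mem hu) h) hu

theorem red_eHat (H : Subgroup G) (ω : Blk (Res M) H) : red M (eHat H ω) = bext H ω := by
  refine MonoidAlgebra.ext (Finsupp.ext fun g => ?_)
  rw [coeff_red]
  by_cases hg : g ∈ H
  · rw [show g = ((⟨g, hg⟩ : H) : G) from rfl, bext, coeff_ext, eHat, Blocks.coeff_extHom]
    conv_rhs => rw [← blk_toSet ω (isPBlock_toSet ω)]
    rw [coeff_bidem]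
    rfl
  · rw [coeff_eHat_of_notMem _ _ hg, map_zero, bext, coeff_ext_of_notMem _ _ hg]

/-- An element supported on `H` commutes with what `H` fixes. -/
theorem commute_of_support {R : Type*} [CommRing R] {H : Subgroup G} {x a : MonoidAlgebra R G}
    (hx : ∀ g ∉ H, x.coeff g = 0) (ha : a ∈ fx R H) : Commute x a := by
  classical
  have := Fintype.ofFinite G
  have hdec : x = ∑ g : G, x.coeff g • single g (1 : R) := by
    refine MonoidAlgebra.ext (Finsupp.ext fun g => ?_)
    simp [coeff_sum, coeff_single, Finsupp.single_apply]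
  rw [hdec]
  refine Commute.sum_left _ _ _ fun g _ => ?_
  by_cases hg : g ∈ H
  · exact (commute_single (mem_fx.mp ha) hg).smul_left _
  · rw [hx g hg, zero_smul]
    exact Commute.zero_left a

theorem commute_eHat (H : Subgroup G) (ω ν : Blk (Res M) H) :
    Commute (eHat H ω) (eHat H ν) :=
  commute_of_support (fun _ hg => coeff_eHat_of_notMem H ω hg) (eHat_mem_fx H ν)

/-- Commuting idempotents with the same reduction are equal. -/
theorem idem_ext_red {a b : MonoidAlgebra 𝒪 G} (ha : a * a = a) (hb : b * b = b)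
    (hab : Commute a b) (h : red M a = red M b) : a = b := by
  have key : ∀ {a b : MonoidAlgebra 𝒪 G}, a * a = a → b * b = b → Commute a b →
      red M a = red M b → a = a * b := by
    intro a b ha hb hab h
    refine sub_eq_zero.mp (Fixed.idem_eq_zero ?_ ?_)
    · rw [sub_mul, mul_sub, mul_sub, ha, ← mul_assoc a a b, ha, mul_assoc a b a, ← hab.eq,
        ← mul_assoc a a b, ha, mul_assoc a b (a * b), ← mul_assoc b a b, ← hab.eq, mul_assoc a b b,
        hb, ← mul_assoc a a b, ha, sub_self, sub_zero]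
    · rw [map_sub, map_mul, ← h, ← map_mul, ha, sub_self]
  rw [key ha hb hab h, hab.eq, ← key hb ha hab.symm h.symm]

theorem eHat_orth (H : Subgroup G) {ω ν : Blk (Res M) H} (h : ω ≠ ν) :
    eHat H ω * eHat H ν = 0 := by
  refine Fixed.idem_eq_zero ?_ (by rw [map_mul, red_eHat, red_eHat, bext_mul_bext H h])
  rw [mul_assoc, ← mul_assoc (eHat H ν), ← (commute_eHat H ω ν).eq, mul_assoc (eHat H ω),
    eHat_idem, ← mul_assoc, eHat_idem]

theorem sum_eHat (H : Subgroup G) [Fintype (Blk (Res M) H)] :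
    ∑ ω : Blk (Res M) H, eHat H ω = 1 := by
  classical
  refine idem_ext_red ?_ (one_mul 1) (Commute.one_right _) ?_
  · rw [Finset.sum_mul]
    refine Finset.sum_congr rfl fun ω _ => ?_
    rw [Finset.mul_sum, Finset.sum_eq_single ω (fun ν _ hν => eHat_orth H hν.symm)
      (fun h => absurd (Finset.mem_univ _) h), eHat_idem]
  · rw [map_sum, Finset.sum_congr rfl fun ω _ => red_eHat H ω, sum_bext, map_one]

theorem eHat_cj (t : G) (H H' : Subgroup G) (h : ∀ g, g ∈ H ↔ t * g * t⁻¹ ∈ H')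
    (ω : Blk (Res M) H) : eHat H' (cBlk t H H' h ω) = cj t (eHat H ω) := by
  refine idem_ext_red (eHat_idem _ _) (by rw [← map_mul, eHat_idem]) ?_ ?_
  · exact commute_of_support (fun _ hg => coeff_eHat_of_notMem _ _ hg)
      (cj_mem_fx h (eHat_mem_fx H ω))
  · rw [red_eHat, bext_cBlk]
    exact ((map_cj (residue M) t (eHat H ω)).trans
      (congrArg (cj t) (red_eHat H ω))).symm

theorem toC_cj (t : G) (x : MonoidAlgebra 𝒪 G) : toC (cj t x) = cj t (toC x) := map_cj _ t x

theorem lin_cj (χ : Cfsg.IrrCharacter G) (t : G) (a : MonoidAlgebra ℂ G) :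
    lin (χ : G → ℂ) (cj t a) = lin (χ : G → ℂ) a := by
  rw [cj_eq_mul, lin_mul_comm, ← mul_assoc, single_mul_single, inv_mul_cancel, one_mul,
    ← MonoidAlgebra.one_def, one_mul]

variable (χ : Cfsg.IrrCharacter G)
  (f : ∀ q : G, Blk (Res M) (Subgroup.centralizer (Subgroup.zpowers q : Set G)) → ℂ)

/-- The value at `g` for the `p`-element `q`. -/
noncomputable def comp (q g : G) : ℂ :=
  letI := Fintype.ofFinite (Blk (Res M) C[Subgroup.zpowers q])
  ∑ ω : Blk (Res M) C[Subgroup.zpowers q],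
    f q ω * lin (χ : G → ℂ) (single g 1 * toC (eHat C[Subgroup.zpowers q] ω))

theorem comp_eq {q : G} [Fintype (Blk (Res M) C[Subgroup.zpowers q])] (g : G) :
    comp χ f q g = ∑ ω : Blk (Res M) C[Subgroup.zpowers q],
      f q ω * lin (χ : G → ℂ) (single g 1 * toC (eHat C[Subgroup.zpowers q] ω)) := by
  rw [comp]
  convert rfl

/-- The `p`-part. -/
noncomputable def pp (p : ℕ) [hp : Fact p.Prime] (g : G) : G :=
  (Blocks.exists_isPPart hp.out g).choose

variable {p : ℕ} [Fact p.Prime]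

theorem isPPart_pp (g : G) : Cfsg.IsPPart p g (pp p g) :=
  (Blocks.exists_isPPart (Fact.out : p.Prime) g).choose_spec

theorem pp_eq {g q : G} (h : Cfsg.IsPPart p g q) : pp p g = q :=
  BrauerMap.PrincipalSection.isPPart_unique Fact.out (isPPart_pp g) h

theorem pp_conj (t g : G) : pp p (t * g * t⁻¹) = t * pp p g * t⁻¹ :=
  pp_eq (BrauerMap.PrincipalSection.isPPart_conj (isPPart_pp g) t)

theorem pp_mul {q s : G} (hq : ∃ k : ℕ, orderOf q = p ^ k) (hs : ¬ p ∣ orderOf s)
    (h : Commute q s) : pp p (q * s) = q := pp_eq ⟨s, rfl, h, hq, hs⟩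

theorem pp_one : pp p (1 : G) = 1 := by
  refine pp_eq ⟨1, one_mul 1, Commute.one_right 1, ⟨0, by simp⟩, ?_⟩
  rw [orderOf_one]
  exact (Fact.out : p.Prime).not_dvd_one

theorem isPGroup_of_orderOf {q : G} (hq : ∃ k : ℕ, orderOf q = p ^ k) :
    IsPGroup p (Subgroup.zpowers q) := by
  obtain ⟨k, hk⟩ := hq
  exact IsPGroup.of_card (n := k) (by rw [Nat.card_zpowers, hk])

/-- The star product. -/
noncomputable def starFn (p : ℕ) [Fact p.Prime] (g : G) : ℂ := comp χ f (pp p g) g

theorem comp_conj (hf : IsInv f) (t q g : G) :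
    comp χ f (t * q * t⁻¹) (t * g * t⁻¹) = comp χ f q g := by
  have := Fintype.ofFinite (Blk (Res M) C[Subgroup.zpowers q])
  have := Fintype.ofFinite (Blk (Res M) C[Subgroup.zpowers (t * q * t⁻¹)])
  rw [comp_eq, comp_eq]
  have h := mem_centralizer_conj t q
  have hinj : Function.Injective (cBlk (k := Res M) t _ _ h) := fun a b e => by
    refine bext_injective _ ?_
    have := congrArg (bext C[Subgroup.zpowers (t * q * t⁻¹)]) e
    rw [bext_cBlk, bext_cBlk] at this
    exact (conjA t).injective this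
  have h' : ∀ g : G, g ∈ C[Subgroup.zpowers (t * q * t⁻¹)] ↔
      t⁻¹ * g * t⁻¹⁻¹ ∈ C[Subgroup.zpowers q] := fun g => by
    rw [h]; simp [mul_assoc]
  have hbij : Function.Bijective (cBlk (k := Res M) t _ _ h) := by
    refine ⟨hinj, fun ν => ⟨cBlk t⁻¹ _ _ h' ν, bext_injective _ ?_⟩⟩
    rw [bext_cBlk, bext_cBlk, ← conjA_mul, mul_inv_cancel, conjA_one]
  refine (Fintype.sum_bijective _ hbij _ _ fun ω => ?_).symm
  rw [hf t q ω _ (bext_cBlk _ _ _ _ _), eHat_cj, toC_cj, ← cj_single t g 1, ← map_mul, lin_cj]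

theorem star_classFunction (hf : IsInv f) : Cfsg.IsClassFunction G (starFn χ f p) := fun g t => by
  rw [starFn, starFn, pp_conj, comp_conj χ f hf]

theorem star_of_eq_one (hf : ∀ q ω, f q ω = 1) (g : G) : starFn χ f p g = (χ : G → ℂ) g := by
  have := Fintype.ofFinite (Blk (Res M) C[Subgroup.zpowers (pp p g)])
  rw [starFn, comp_eq]
  simp only [hf, one_mul]
  rw [← map_sum, ← Finset.mul_sum, ← map_sum, sum_eHat, map_one, mul_one, Blocks.lin_single,
    one_mul]

theorem comp_one (hf : ∀ ω, f 1 ω = 1) : comp χ f 1 1 = (χ : G → ℂ) 1 := by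
  have := Fintype.ofFinite (Blk (Res M) C[Subgroup.zpowers (1 : G)])
  rw [comp_eq]
  simp only [hf, one_mul]
  rw [← map_sum, ← Finset.mul_sum, ← map_sum, sum_eHat, map_one, mul_one, Blocks.lin_single,
    one_mul]

variable [CharP (Res M) p]

/-- On an elementary subgroup the sum against a linear character is a multiple of the order. -/
theorem exists_sum_hom (hM : Cfsg.IsPModular p M) (hinv : IsInv f) (hcoh : IsCoherent p f)
    (E : Subgroup G) [Fintype E] [Group.IsNilpotent E] (l : E →* ℂ) :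
    ∃ n : ℤ, ∑ x : E, starFn χ f p (x : G) * l x = (Fintype.card E : ℂ) * n := by
  classical
  have hp : p.Prime := Fact.out
  obtain ⟨S⟩ : Nonempty (Sylow p E) := inferInstance
  have : (S : Subgroup E).Normal :=
    Sylow.normal_of_normalizerCondition Group.normalizerCondition_of_isNilpotent S
  have hcop : (Nat.card (S : Subgroup E)).Coprime (S : Subgroup E).index := by
    obtain ⟨n, hn⟩ := S.isPGroup'.exists_card_eq
    rw [hn]
    exact ((Nat.Prime.coprime_iff_not_dvd hp).mpr S.not_dvd_index).pow_left n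
  obtain ⟨K, hK⟩ := Subgroup.exists_right_complement'_of_coprime hcop
  have hKcard : ¬ p ∣ Nat.card K := by
    rw [← hK.symm.index_eq_card]
    exact S.not_dvd_index
  have hKord : ∀ k : K, ¬ p ∣ orderOf ((k : E) : G) := fun k h => hKcard
    (h.trans (by rw [Subgroup.orderOf_coe, Subgroup.orderOf_coe]; exact orderOf_dvd_natCard k))
  have hcomm : ∀ (q : (S : Subgroup E)) (k : K), Commute ((q : E) : G) ((k : E) : G) := by
    intro q k
    refine Commute.map (f := E.subtype) ?_
    refine Transfer.Frobenius.commute_of_coprime_of_isNilpotent ?_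
    obtain ⟨n, hn⟩ := S.isPGroup'.exists_card_eq
    refine Nat.Coprime.of_dvd_left ?_ (((Nat.Prime.coprime_iff_not_dvd hp).mpr (fun h => hKcard
      (h.trans (by rw [Subgroup.orderOf_coe]; exact orderOf_dvd_natCard k)))).pow_left n)
    rw [← hn, Subgroup.orderOf_coe]
    exact orderOf_dvd_natCard q
  set Q : Subgroup G := (S : Subgroup E).map E.subtype with hQdef
  have hQ : IsPGroup p Q := S.isPGroup'.map _
  let ι : (S : Subgroup E) ≃* Q :=
    (S : Subgroup E).equivMapOfInjective E.subtype E.subtype_injective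
  have hι : ∀ q, (ι q : G) = ((q : E) : G) := fun q => rfl
  let η : Q →* ℂ := (l.comp (S : Subgroup E).subtype).comp ι.symm.toMonoidHom
  -- the averaged idempotent of the complement
  have hcu : ((Fintype.card K : ℂ))⁻¹ ∈ localRing M :=
    Blocks.natCast_inv_mem_localRing hM (by rwa [← Nat.card_eq_fintype_card])
  have hlk : ∀ k : K, l (k : E) ∈ localRing M := fun k => by
    refine Blocks.mem_localRing_of_isIntegral (IsIntegral.of_pow (orderOf_pos k) ?_)
    rw [← map_pow, ← SubgroupClass.coe_pow, pow_orderOf_eq_one, Subgroup.coe_one, map_one]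
    exact isIntegral_one
  let Sk : MonoidAlgebra 𝒪 G :=
    ∑ k : K, single ((k : E) : G) (⟨l (k : E), hlk k⟩ : 𝒪)
  let ε : MonoidAlgebra 𝒪 G := (⟨_, hcu⟩ : 𝒪) • Sk
  have hSk : Sk * Sk = (Fintype.card K : 𝒪) • Sk := by
    conv_lhs => rw [Finset.sum_mul]
    rw [Finset.sum_congr rfl (g := fun _ => Sk) fun k _ => ?_, Finset.sum_const, Finset.card_univ,
      ← Nat.cast_smul_eq_nsmul 𝒪]
    rw [Finset.mul_sum]
    refine Fintype.sum_equiv (Equiv.mulLeft k) _ _ fun r => ?_
    rw [single_mul_single, Equiv.coe_mulLeft]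
    refine congrArg₂ _ (by rw [Subgroup.coe_mul, Subgroup.coe_mul]) (Subtype.ext ?_)
    show l (k : E) * l (r : E) = l ((k * r : K) : E)
    rw [Subgroup.coe_mul, map_mul]
  have hεε : ε * ε = ε := by
    show (_ • Sk) * (_ • Sk) = _ • Sk
    rw [smul_mul_assoc, mul_smul_comm, smul_smul, hSk, smul_smul]
    congr 1
    apply Subtype.ext
    push_cast
    rw [mul_assoc, inv_mul_cancel₀ (Nat.cast_ne_zero.mpr Fintype.card_ne_zero), mul_one]
  have hεfx : ε ∈ fx 𝒪 Q := by
    refine Subalgebra.smul_mem _ (Subalgebra.sum_mem _ fun k _ => ?_) _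
    intro t ht
    obtain ⟨q, hq, rfl⟩ := ht
    rw [cj_single]
    congr 1
    exact mul_inv_eq_iff_eq_mul.mpr (hcomm ⟨q, hq⟩ k).eq
  have hεsupp : ∀ q ∈ Q, ∀ g ∉ C[Subgroup.zpowers q], ε.coeff g = 0 := by
    rintro _ ⟨q, hq, rfl⟩ g hg
    rw [show ε = ∑ k : K, (⟨_, hcu⟩ : 𝒪) • single ((k : E) : G) (⟨l (k : E), hlk k⟩ : 𝒪) from
      Finset.smul_sum, coeff_sum, Finsupp.finsetSum_apply]
    refine Finset.sum_eq_zero fun k _ => ?_
    rw [coeff_smul, Finsupp.smul_apply, coeff_single, Finsupp.single_apply, if_neg, smul_zero]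
    intro e
    apply hg
    rw [← e, Theta.centralizer_zpowers, Subgroup.mem_centralizer_singleton_iff]
    exact (hcomm ⟨q, hq⟩ k).symm.eq
  have := Fintype.ofFinite Q
  obtain ⟨n, hn⟩ := exists_int χ f hM hinv hcoh Q hQ η (i := red M ε) (map_mem_fx _ hεfx)
    (by rw [← map_mul, hεε])
  refine ⟨n, ?_⟩
  have hEq : Fintype.card E = Fintype.card Q * Fintype.card K := by
    rw [← Nat.card_eq_fintype_card, ← Nat.card_eq_fintype_card, ← Nat.card_eq_fintype_card,
      ← Nat.card_congr ι.toEquiv, hK.card_mul]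
  rw [hEq, Nat.cast_mul, mul_comm (Fintype.card Q : ℂ), mul_assoc, ← hn]
  have hsplit : ∑ x : E, starFn χ f p (x : G) * l x =
      ∑ q : (S : Subgroup E), ∑ k : K, starFn χ f p (((q : E) : G) * ((k : E) : G)) *
        (l (q : E) * l (k : E)) := by
    rw [← Fintype.sum_prod_type']
    refine (Fintype.sum_bijective _ hK _ _ fun x => ?_).symm
    show _ = starFn χ f p ((x.1 : E) * (x.2 : E) : E) * l ((x.1 : E) * (x.2 : E))
    rw [map_mul, Subgroup.coe_mul]
  rw [hsplit, Finset.mul_sum]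
  refine Fintype.sum_equiv ι.toEquiv _ _ fun q => ?_
  have hq : ((q : E) : G) ∈ Q := ⟨q, q.2, rfl⟩
  have hord : ∃ m : ℕ, orderOf ((q : E) : G) = p ^ m := by
    obtain ⟨m, hm⟩ := IsPGroup.iff_orderOf.mp S.isPGroup' q
    exact ⟨m, by rw [Subgroup.orderOf_coe, Subgroup.orderOf_coe, hm]⟩
  set q' : G := ((q : E) : G) with hq'
  have hle : Subgroup.zpowers q' ≤ Q := Subgroup.zpowers_le.mpr hq
  have := Fintype.ofFinite (Blk (Res M) C[Subgroup.zpowers q'])
  have hth : theta χ f q' (red M ε) = ∑ ω : Blk (Res M) C[Subgroup.zpowers q'],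
      f q' ω * tau χ q' (ε * eHat C[Subgroup.zpowers q'] ω) := by
    have hzc : Subgroup.zpowers q' ≤ C[Subgroup.zpowers q'] := by
      rw [Subgroup.zpowers_le, Theta.centralizer_zpowers, Subgroup.mem_centralizer_singleton_iff]
    have hfxe : ∀ ω, eHat C[Subgroup.zpowers q'] ω ∈ fx 𝒪 (Subgroup.zpowers q') := fun ω =>
      fx_anti hzc (eHat_mem_fx _ ω)
    have hcome : ∀ ω, Commute ε (eHat C[Subgroup.zpowers q'] ω) := fun ω =>
      commute_of_support (hεsupp q' hq) (eHat_mem_fx _ ω)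
    have hsq : ∀ ω, ε * eHat C[Subgroup.zpowers q'] ω * (ε * eHat C[Subgroup.zpowers q'] ω) =
        ε * eHat C[Subgroup.zpowers q'] ω := fun ω => by
      rw [mul_assoc, ← mul_assoc (eHat C[Subgroup.zpowers q'] ω), ← (hcome ω).eq,
        mul_assoc ε (eHat C[Subgroup.zpowers q'] ω), eHat_idem, ← mul_assoc, hεε]
    have hmem : ∀ ω, ε * eHat C[Subgroup.zpowers q'] ω ∈ fx 𝒪 (Subgroup.zpowers q') := fun ω =>
      mul_mem (fx_anti hle hεfx) (hfxe ω)
    have hsum : red M ε = ∑ ω : Blk (Res M) C[Subgroup.zpowers q'],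
        red M (ε * eHat C[Subgroup.zpowers q'] ω) := by
      rw [← map_sum, ← Finset.mul_sum, sum_eHat, mul_one]
    rw [hsum, theta_sum χ f Finset.univ (fun ω => red M (ε * eHat C[Subgroup.zpowers q'] ω))
      (fun ω _ => map_mem_fx _ (hmem ω))
      (fun ω _ => by rw [← map_mul, hsq]) (fun ω _ ν _ hne => ?_)]
    · refine Finset.sum_congr rfl fun ω _ => ?_
      rw [theta_of_blo χ f hM (hQ.to_le hle) (i := red M (ε * eHat C[Subgroup.zpowers q'] ω))
        (map_mem_fx _ (hmem ω)) (by rw [← map_mul, hsq])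
        (ω := ω) ?_, tauBar_eq χ (Subgroup.mem_zpowers q') (hmem ω) (hsq ω)]
      have hmw : red M (ε * eHat C[Subgroup.zpowers q'] ω) =
          red M ε * bext C[Subgroup.zpowers q'] ω := by rw [map_mul, red_eHat]
      rw [Blo, hmw, brx_mul (hQ.to_le hle)
        (show red M ε ∈ fx (Res M) (Subgroup.zpowers q') from map_mem_fx _ (fx_anti hle hεfx))
        (bext_mem_fx _ ω), brx_bext, mul_assoc, (bext_isIdem _ ω).eq]
    · rw [← map_mul, mul_assoc, ← mul_assoc (eHat C[Subgroup.zpowers q'] ω), ← (hcome ω).eq,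
        mul_assoc ε (eHat C[Subgroup.zpowers q'] ω), eHat_orth _ hne, mul_zero, mul_zero, map_zero]
  show _ = (Fintype.card K : ℂ) * (η (ι q) * theta χ f q' (red M ε))
  rw [hth, show η (ι q) = l (q : E) from by
    show l ((ι.symm (ι q) : (S : Subgroup E)) : E) = _
    rw [MulEquiv.symm_apply_apply]]
  have hstar : ∀ k : K, starFn χ f p (q' * ((k : E) : G)) =
      ∑ ω : Blk (Res M) C[Subgroup.zpowers q'], f q' ω *
        lin (χ : G → ℂ) (single (q' * ((k : E) : G)) 1 * toC (eHat C[Subgroup.zpowers q'] ω)) :=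
    fun k => by rw [starFn, pp_mul hord (hKord k) (hcomm q k), comp_eq]
  simp only [hstar, Finset.sum_mul, Finset.mul_sum]
  rw [Finset.sum_comm]
  refine Finset.sum_congr rfl fun ω _ => ?_
  have hεC : toC ε = ∑ k : K, ((Fintype.card K : ℂ)⁻¹ * l (k : E)) • single ((k : E) : G) 1 := by
    show toC ((_ : 𝒪) • Sk) = _
    rw [Finset.smul_sum, map_sum]
    refine Finset.sum_congr rfl fun k _ => ?_
    rw [MonoidAlgebra.smul_single', toC, MonoidAlgebra.mapRingHom_single,
      MonoidAlgebra.smul_single', mul_one]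
    rfl
  rw [tau, ← toC, map_mul toC, hεC, Finset.sum_mul, Finset.mul_sum, map_sum]
  simp only [smul_mul_assoc, mul_smul_comm, map_smul, smul_eq_mul, ← mul_assoc (single q' (1 : ℂ)),
    single_mul_single, mul_one, Finset.mul_sum]
  refine Finset.sum_congr rfl fun k _ => ?_
  have hc0 : (Fintype.card K : ℂ) ≠ 0 := Nat.cast_ne_zero.mpr Fintype.card_ne_zero
  field_simp

/-- **The star product is a generalized character.** -/
theorem isGeneralized_star [Fintype G] (hM : Cfsg.IsPModular p M) (hinv : IsInv f)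
    (hcoh : IsCoherent p f) : Cfsg.IsGeneralizedCharacter G (starFn χ f p) := by
  classical
  have hcl := star_classFunction (p := p) χ f hinv
  have := Fintype.ofFinite (Cfsg.IrrCharacter G)
  have hint : ∀ F ∈ Submodule.span ℤ (Brauer.Elementary.monoSet (Brauer.Elementary.IsElem (G := G))),
      ∃ n : ℤ, Cfsg.classInner (starFn χ f p) F = n := by
    intro F hF
    induction hF using Submodule.span_induction with
    | mem x hx =>
      obtain ⟨E, ⟨r, hr, hE⟩, l, rfl⟩ := hx
      have : Fintype E := Fintype.ofFinite _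
      have := Brauer.Monomial.isNilpotent_of_elementary hr hE
      obtain ⟨n, hn⟩ := exists_sum_hom χ f hM hinv hcoh E
        ((starRingEnd ℂ).toMonoidHom.comp l)
      refine ⟨n, ?_⟩
      rw [Induced.Basic.frobenius_reciprocity' E _ hcl, Cfsg.classInner, Nat.card_eq_fintype_card,
        show ∑ g : E, starFn χ f p (g : G) * conj (l g) = (Fintype.card E : ℂ) * n from hn,
        ← mul_assoc, inv_mul_cancel₀ (Nat.cast_ne_zero.mpr Fintype.card_ne_zero), one_mul]
    | zero => exact ⟨0, by rw [classInner_zero_right, Int.cast_zero]⟩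
    | add a b _ _ h1 h2 =>
      obtain ⟨n, hn⟩ := h1
      obtain ⟨m, hm⟩ := h2
      exact ⟨n + m, by rw [Induced.Basic.classInner_add_right, hn, hm, Int.cast_add]⟩
    | smul r a _ h =>
      obtain ⟨n, hn⟩ := h
      refine ⟨r * n, ?_⟩
      rw [← Int.cast_smul_eq_zsmul ℂ, Induced.Basic.classInner_smul_right, hn, map_intCast, Int.cast_mul]
  choose n hn using fun φ : Cfsg.IrrCharacter G =>
    hint (φ : G → ℂ) (Brauer.Monomial.char_mem (isCharacter_irr φ))
  have e : starFn χ f p = fun g => ∑ φ : Cfsg.IrrCharacter G, (n φ : ℂ) * (φ : G → ℂ) g := by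
    conv_lhs => rw [Characters.Complete.classFunction_eq_sum hcl]
    funext g
    rw [Blocks.BlockPart.sum_smul_apply]
    exact Finset.sum_congr rfl fun φ _ => by rw [hn]
  rw [e]
  exact BC77.Reg.isGeneralized_intComb n

end Cfsg.Agent.Lib.StarChar.Comp
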