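import Cfsg.Agent.Lib.StarChar.Theta

/-!
# Conjugation of the local part of the star product
-/

set_option autoImplicit false

namespace Cfsg.Agent.Lib.StarChar.Equiv

open MonoidAlgebra
open Cfsg.Agent.Lib.Blocks (localRing residue)
open Cfsg.Agent.Lib.BrauerMap.Basic
open Cfsg.Agent.Lib.BrauerPairs.Center Cfsg.Agent.Lib.BrauerPairs.Trunc
open Cfsg.Agent.Lib.BrauerPairs.Conj Cfsg.Agent.Lib.BrauerPairs.Pairs
open Cfsg.Agent.Lib.BrauerPairs.Transport
open Cfsg.Agent.Lib.BrauerPairs.Bridge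
open Cfsg.Agent.Lib.StarChar.Fixed Cfsg.Agent.Lib.StarChar.Theta

universe u

attribute [local instance] Ideal.Quotient.field

variable {M : Ideal Cfsg.AlgInt} [M.IsMaximal] {G : Type u} [Group G] [Finite G]

local notation "C[" P "]" => Subgroup.centralizer ((P : Subgroup G) : Set G)
local notation "kG" => MonoidAlgebra (Res M) G
local notation "𝒪" => localRing M

/-- Invariance of a function of `p`-elements and blocks of their centralisers. -/
def IsInv (f : ∀ q : G, Blk (Res M) (Subgroup.centralizer (Subgroup.zpowers q : Set G)) → ℂ) :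
    Prop :=
  ∀ (t q : G) (ω : Blk (Res M) C[Subgroup.zpowers q])
    (ω' : Blk (Res M) C[Subgroup.zpowers (t * q * t⁻¹)]),
    bext C[Subgroup.zpowers (t * q * t⁻¹)] ω' = conjA t (bext C[Subgroup.zpowers q] ω) →
      f (t * q * t⁻¹) ω' = f q ω

theorem mem_zpowers_conj_iff (t q g : G) :
    g ∈ Subgroup.zpowers q ↔ t * g * t⁻¹ ∈ Subgroup.zpowers (t * q * t⁻¹) := by
  rw [show t * q * t⁻¹ = (MulAut.conj t).toMonoidHom q from rfl, ← MonoidHom.map_zpowers,
    mem_map_conj_iff]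
  simp [mul_assoc]

theorem mem_centralizer_conj (t q g : G) :
    g ∈ C[Subgroup.zpowers q] ↔ t * g * t⁻¹ ∈ C[Subgroup.zpowers (t * q * t⁻¹)] := by
  rw [show t * q * t⁻¹ = (MulAut.conj t).toMonoidHom q from rfl, ← MonoidHom.map_zpowers]
  exact mem_centralizer_map_iff t _ g

theorem isPGroup_conj {p : ℕ} {q : G} (hq : IsPGroup p (Subgroup.zpowers q)) (t : G) :
    IsPGroup p (Subgroup.zpowers (t * q * t⁻¹)) := by
  rw [show t * q * t⁻¹ = (MulAut.conj t).toMonoidHom q from rfl, ← MonoidHom.map_zpowers]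
  exact hq.map _

/-- Conjugation maps fixed elements to fixed elements. -/
theorem cj_mem_fx {R : Type*} [CommRing R] {Q Q' : Subgroup G} {t : G}
    (h : ∀ g, g ∈ Q ↔ t * g * t⁻¹ ∈ Q') {a : MonoidAlgebra R G} (ha : a ∈ fx R Q) :
    cj t a ∈ fx R Q' := by
  intro u hu
  have h1 : t⁻¹ * u * t ∈ Q := (h _).mpr (by simpa [mul_assoc] using hu)
  rw [← cj_mul, show u * t = t * (t⁻¹ * u * t) by simp [mul_assoc], cj_mul, ha _ h1]

theorem cj_inv_cj {R : Type*} [CommRing R] (t : G) (a : MonoidAlgebra R G) :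
    cj t⁻¹ (cj t a) = a := by
  rw [← cj_mul, inv_mul_cancel, cj_one]

theorem indec_cj {Q Q' : Subgroup G} {t : G} (h : ∀ g, g ∈ Q ↔ t * g * t⁻¹ ∈ Q') {j : kG}
    (hj : Indec Q j) : Indec Q' (cj t j) := by
  have h' : ∀ g, g ∈ Q' ↔ t⁻¹ * g * t⁻¹⁻¹ ∈ Q := fun g => by
    rw [h]; simp [mul_assoc]
  refine ⟨cj_mem_fx h hj.mem, by rw [← map_mul, hj.idem],
    fun e => hj.ne (by rw [← cj_inv_cj t j, e, map_zero]), fun a ha haa h1 h2 => ?_⟩
  have e1 := congrArg (cj t⁻¹) h1
  have e2 := congrArg (cj t⁻¹) h2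
  rw [map_mul, cj_inv_cj] at e1 e2
  rcases hj.only _ (cj_mem_fx h' ha) (by rw [← map_mul, haa]) e1 e2 with e | e
  · left
    have := congrArg (cj t) e
    rwa [← cj_mul, mul_inv_cancel, cj_one, map_zero] at this
  · right
    have := congrArg (cj t) e
    rwa [← cj_mul, mul_inv_cancel, cj_one] at this

theorem brx_cj {Q Q' : Subgroup G} {t : G} (h : ∀ g, g ∈ C[Q] ↔ t * g * t⁻¹ ∈ C[Q']) (a : kG) :
    brx Q' (cj t a) = cj t (brx Q a) := by
  refine MonoidAlgebra.ext (Finsupp.ext fun g => ?_)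
  have hm : g ∈ C[Q'] ↔ t⁻¹ * g * t ∈ C[Q] := by rw [h]; simp [mul_assoc]
  rw [coeff_cj]
  by_cases hg : g ∈ C[Q']
  · rw [coeff_brx _ _ hg, coeff_brx _ _ (hm.mp hg), coeff_cj]
  · rw [coeff_brx_of_notMem _ _ hg, coeff_brx_of_notMem _ _ (fun e => hg (hm.mpr e))]

variable (χ : Cfsg.IrrCharacter G)
  (f : ∀ q : G, Blk (Res M) (Subgroup.centralizer (Subgroup.zpowers q : Set G)) → ℂ)

theorem tauBar_cj (t : G) {q : G} {i : kG} (hi : i ∈ fx (Res M) (Subgroup.zpowers q))
    (hii : i * i = i) : tauBar χ (t * q * t⁻¹) (cj t i) = tauBar χ q i := by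
  obtain ⟨e, he, hee, her⟩ := exists_lift hi hii
  have hr : red M (cj t e) = cj t i := by rw [← her]; exact map_cj _ t e
  rw [← hr, ← tauBar_eq χ (Subgroup.mem_zpowers _) (cj_mem_fx (mem_zpowers_conj_iff t q) he)
    (by rw [← map_mul, hee]), ← her, ← tauBar_eq χ (Subgroup.mem_zpowers _) he hee]
  have h1 : single (t * q * t⁻¹) (1 : ℂ) = cj t (single q 1) := (cj_single t q 1).symm
  rw [tau, tau, map_cj, h1, ← map_mul, cj_eq_mul, lin_mul_comm, ← mul_assoc, single_mul_single,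
    inv_mul_cancel, one_mul, ← MonoidAlgebra.one_def, one_mul]

variable {p : ℕ} [Fact p.Prime] [CharP (Res M) p]

theorem theta_cj (hM : Cfsg.IsPModular p M) (hf : IsInv f) (t : G) {q : G}
    (hq : IsPGroup p (Subgroup.zpowers q)) {i : kG} (hi : i ∈ fx (Res M) (Subgroup.zpowers q))
    (hii : i * i = i) : theta χ f (t * q * t⁻¹) (cj t i) = theta χ f q i := by
  have hz := mem_zpowers_conj_iff t q
  refine idem_induction (motive := fun i => theta χ f (t * q * t⁻¹) (cj t i) = theta χ f q i)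
    ?_ ?_ ?_ hi hii
  · rw [map_zero, theta_zero, theta_zero]
  · intro j hj
    have hj' := indec_cj hz hj
    obtain ⟨ω, hω⟩ := hj.exists_blo hq
    have hω' : Blo (Subgroup.zpowers (t * q * t⁻¹))
        (cBlk t _ _ (mem_centralizer_conj t q) ω) (cj t j) := by
      rw [Blo, brx_cj (mem_centralizer_conj t q), bext_cBlk]
      show cj t (brx _ j) * cj t (bext _ ω) = cj t (brx _ j)
      rw [← map_mul, hω]
    rw [theta_indec χ f hM (isPGroup_conj hq t) hj', theta_indec χ f hM hq hj,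
      val'_eq χ f hM (isPGroup_conj hq t) hj'.mem hj'.idem hω',
      val'_eq χ f hM hq hj.mem hj.idem hω, tauBar_cj χ t hj.mem hj.idem,
      hf t q ω _ (bext_cBlk _ _ _ _ _)]
  · intro a ha b hb haa hbb hab hba iha ihb
    rw [map_add, theta_add χ f (cj_mem_fx hz ha) (cj_mem_fx hz hb) (by rw [← map_mul, haa])
      (by rw [← map_mul, hbb]) (by rw [← map_mul, hab, map_zero])
      (by rw [← map_mul, hba, map_zero]), iha, ihb, theta_add χ f ha hb haa hbb hab hba]

end Cfsg.Agent.Lib.StarChar.Equiv
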