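import Cfsg.Agent.Lib.Blocks.SecondMain
import Cfsg.Agent.Lib.BrauerPairs.Bridge

/-!
# Fixed elements of the group algebra over the local ring

Idempotents of the fixed algebra lift, lifts of equivalent idempotents are equivalent, and
`tau χ q`, the character of a `p`-element times an idempotent, depends only on the reduction and
vanishes when the Brauer image is zero.
-/

set_option autoImplicit false

namespace Cfsg.Agent.Lib.StarChar.Fixed

open MonoidAlgebra
open Cfsg.Agent.Lib.Blocks (localRing residue lin)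
open Cfsg.Agent.Lib.BrauerMap.Basic

universe u w

variable {G : Type u} [Group G] [Finite G]

section Ring

variable {R : Type w} [CommRing R]

/-- Conjugation. -/
noncomputable def cj (t : G) : MonoidAlgebra R G ≃ₐ[R] MonoidAlgebra R G :=
  MonoidAlgebra.domCongr R R (MulAut.conj t)

theorem coeff_cj (t : G) (a : MonoidAlgebra R G) (g : G) :
    (cj t a).coeff g = a.coeff (t⁻¹ * g * t) := by
  simp [cj, MulAut.conj_symm_apply]

theorem cj_one (a : MonoidAlgebra R G) : cj 1 a = a := by
  refine MonoidAlgebra.ext (Finsupp.ext fun g => ?_)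
  simp [coeff_cj]

theorem cj_mul (x y : G) (a : MonoidAlgebra R G) : cj (x * y) a = cj x (cj y a) := by
  refine MonoidAlgebra.ext (Finsupp.ext fun g => ?_)
  simp [coeff_cj, mul_assoc]

theorem cj_single (t g : G) (r : R) : cj t (single g r) = single (t * g * t⁻¹) r := by
  rw [cj, domCongr_single, MulAut.conj_apply]

theorem cj_eq_mul (t : G) (a : MonoidAlgebra R G) :
    cj t a = single t 1 * a * single t⁻¹ 1 := by
  induction a using MonoidAlgebra.induction_linear with
  | zero => simp
  | add f h hf hh => simp [hf, hh, mul_add, add_mul]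
  | single g r => simp [cj_single, single_mul_single]

theorem isFixedBy_iff_cj (Q : Subgroup G) (a : MonoidAlgebra R G) :
    IsFixedBy Q a ↔ ∀ t ∈ Q, cj t a = a := by
  constructor
  · intro h t ht
    refine MonoidAlgebra.ext (Finsupp.ext fun g => ?_)
    rw [coeff_cj]
    simpa using h t⁻¹ (inv_mem ht) g
  · intro h t ht g
    conv_lhs => rw [← h t ht]
    rw [coeff_cj]
    simp [mul_assoc]

theorem commute_single {Q : Subgroup G} {a : MonoidAlgebra R G} (ha : IsFixedBy Q a) {t : G}
    (ht : t ∈ Q) : Commute (single t 1) a := by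
  have h := (isFixedBy_iff_cj Q a).mp ha t ht
  rw [cj_eq_mul] at h
  show single t 1 * a = a * single t 1
  conv_rhs => rw [← h]
  rw [mul_assoc (single t 1 * a), single_mul_single, inv_mul_cancel, one_mul,
    ← MonoidAlgebra.one_def, mul_one]

variable (R) in
/-- The fixed elements. -/
noncomputable def fx (Q : Subgroup G) : Subalgebra R (MonoidAlgebra R G) where
  carrier := {a | ∀ t ∈ Q, cj t a = a}
  mul_mem' := fun ha hb t ht => by rw [map_mul, ha t ht, hb t ht]
  one_mem' := fun t _ => map_one _
  add_mem' := fun ha hb t ht => by rw [map_add, ha t ht, hb t ht]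
  zero_mem' := fun t _ => map_zero _
  algebraMap_mem' := fun r t _ => AlgEquiv.commutes _ r

theorem mem_fx {Q : Subgroup G} {a : MonoidAlgebra R G} :
    a ∈ fx R Q ↔ IsFixedBy Q a := (isFixedBy_iff_cj Q a).symm

theorem fx_anti {Q Q' : Subgroup G} (h : Q ≤ Q') : fx R Q' ≤ fx R Q :=
  fun _ ha t ht => ha t (h ht)

theorem map_cj {S : Type*} [CommRing S] (f : R →+* S) (t : G) (a : MonoidAlgebra R G) :
    MonoidAlgebra.mapRingHom G f (cj t a) = cj t (MonoidAlgebra.mapRingHom G f a) := by
  induction a using MonoidAlgebra.induction_linear with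
  | zero => simp
  | add x y hx hy => simp [hx, hy]
  | single g r => simp [cj_single]

theorem map_mem_fx {S : Type*} [CommRing S] (f : R →+* S) {Q : Subgroup G}
    {a : MonoidAlgebra R G} (ha : a ∈ fx R Q) : MonoidAlgebra.mapRingHom G f a ∈ fx S Q :=
  fun t ht => by rw [← map_cj, ha t ht]

end Ring

section Local

attribute [local instance] Ideal.Quotient.field

variable {M : Ideal Cfsg.AlgInt} [M.IsMaximal]

local notation "𝒪" => localRing M
local notation "𝕜" => Cfsg.AlgInt ⧸ M

/-- Reduction modulo `M`. -/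
noncomputable def red (M : Ideal Cfsg.AlgInt) [M.IsMaximal] :
    MonoidAlgebra (localRing M) G →+* MonoidAlgebra (Cfsg.AlgInt ⧸ M) G :=
  MonoidAlgebra.mapRingHom G (residue M)

theorem coeff_red (x : MonoidAlgebra 𝒪 G) (g : G) :
    (red M x).coeff g = residue M (x.coeff g) := by
  simp [red]

theorem red_surjective_fx {Q : Subgroup G} {a : MonoidAlgebra 𝕜 G} (ha : a ∈ fx 𝕜 Q) :
    ∃ x ∈ fx 𝒪 Q, red M x = a := by
  let sec : 𝕜 → 𝒪 := Function.surjInv Cfsg.Agent.Lib.Blocks.residue_surjective
  refine ⟨MonoidAlgebra.ofCoeff (Finsupp.equivFunOnFinite.symm fun g => sec (a.coeff g)), ?_, ?_⟩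
  · rw [mem_fx]
    intro t ht g
    show sec (a.coeff (t * g * t⁻¹)) = sec (a.coeff g)
    rw [mem_fx.mp ha t ht g]
  · refine MonoidAlgebra.ext (Finsupp.ext fun g => ?_)
    rw [coeff_red]
    exact Function.surjInv_eq Cfsg.Agent.Lib.Blocks.residue_surjective _

instance : Module.Finite 𝒪 (MonoidAlgebra 𝒪 G) :=
  Module.Finite.equiv (MonoidAlgebra.coeffLinearEquiv 𝒪).symm

instance : Module.Free 𝒪 (MonoidAlgebra 𝒪 G) :=
  Module.Free.of_equiv (MonoidAlgebra.coeffLinearEquiv 𝒪).symm

/-- An element congruent to `1` has an inverse, fixed by whatever fixes it. -/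
theorem exists_inv {Q : Subgroup G} {w : MonoidAlgebra 𝒪 G} (hw : w ∈ fx 𝒪 Q)
    (h1 : red M w = 1) : ∃ y ∈ fx 𝒪 Q, w * y = 1 ∧ y * w = 1 := by
  classical
  have := Fintype.ofFinite G
  have hdec : w = 1 - ∑ g : G, ((1 : MonoidAlgebra 𝒪 G).coeff g - w.coeff g) • single g 1 := by
    refine MonoidAlgebra.ext (Finsupp.ext fun x => ?_)
    simp [coeff_sum, coeff_single, Finsupp.single_apply]
  have hu : IsUnit (LinearMap.mulLeft 𝒪 w) := by
    have h := Cfsg.Agent.Lib.Blocks.isUnit_one_sub_of_residue_eq_zero (M := M) Finset.univ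
      (fun g : G => (1 : MonoidAlgebra 𝒪 G).coeff g - w.coeff g)
      (fun g => LinearMap.mulLeft 𝒪 (single g 1 : MonoidAlgebra 𝒪 G)) (fun g _ => by
        rw [map_sub, ← coeff_red (M := M), ← coeff_red (M := M), h1, map_one, sub_self])
    convert h using 1
    refine LinearMap.ext fun z => ?_
    conv_lhs => rw [hdec]
    simp only [LinearMap.mulLeft_apply, LinearMap.sub_apply, Module.End.one_apply,
      LinearMap.sum_apply, LinearMap.smul_apply, sub_mul, one_mul, Finset.sum_mul, smul_mul_assoc]
  obtain ⟨T, hT⟩ := hu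
  set y := (↑T⁻¹ : Module.End 𝒪 (MonoidAlgebra 𝒪 G)) 1 with hy
  have hwy : w * y = 1 := by
    have := LinearMap.congr_fun (Units.mul_inv T) 1
    rw [hT] at this
    exact this
  have hinj : ∀ a b, w * a = w * b → a = b := fun a b h => by
    have := congrArg ((↑T⁻¹ : Module.End 𝒪 (MonoidAlgebra 𝒪 G))) (show (↑T : Module.End 𝒪 _) a =
      (↑T : Module.End 𝒪 _) b by rw [hT]; exact h)
    rwa [← Module.End.mul_apply, ← Module.End.mul_apply, Units.inv_mul] at this
  have hyw : y * w = 1 := hinj _ _ (by rw [← mul_assoc, hwy, one_mul, mul_one])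
  refine ⟨y, fun t ht => hinj _ _ ?_, hwy, hyw⟩
  conv_lhs => rw [← hw t ht, ← map_mul, hwy, map_one]
  exact hwy.symm

/-- An idempotent that reduces to zero is zero. -/
theorem idem_eq_zero {f : MonoidAlgebra 𝒪 G} (hf : f * f = f) (h0 : red M f = 0) : f = 0 := by
  obtain ⟨y, -, h1, -⟩ := exists_inv (Q := (⊥ : Subgroup G)) (w := 1 - f)
    (fun t ht => by rw [Subgroup.mem_bot.mp ht, cj_one])
    (by rw [map_sub, h0, map_one, sub_zero])
  have : f * ((1 - f) * y) = 0 := by rw [← mul_assoc, mul_sub, mul_one, hf, sub_self, zero_mul]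
  rwa [h1, mul_one] at this

open Polynomial in
theorem isCoprime_prod_of {A B : Multiset 𝒪}
    (h : ∀ a ∈ A, ∀ b ∈ B, IsUnit (a - b)) :
    IsCoprime (A.map fun a => X - C a).prod (B.map fun b => X - C b).prod := by
  induction A using Multiset.induction_on with
  | empty => simpa using isCoprime_one_left
  | cons a A ih =>
    rw [Multiset.map_cons, Multiset.prod_cons]
    refine IsCoprime.mul_left ?_ (ih fun x hx => h x (Multiset.mem_cons_of_mem hx))
    have ha := h a (Multiset.mem_cons_self a A)
    clear h ih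
    induction B using Multiset.induction_on with
    | empty => simpa using isCoprime_one_right
    | cons b B ih =>
      rw [Multiset.map_cons, Multiset.prod_cons]
      exact IsCoprime.mul_right
        (Polynomial.isCoprime_X_sub_C_of_isUnit_sub (ha b (Multiset.mem_cons_self b B)))
        (ih fun x hx => ha x (Multiset.mem_cons_of_mem hx))

open Polynomial in
/-- Every element is a root of a product of linear factors over the local ring. -/
theorem exists_split_poly (x : MonoidAlgebra 𝒪 G) :
    ∃ A : Multiset 𝒪, aeval x (A.map fun a => X - C a).prod = 0 := by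
  classical
  obtain ⟨q, hq, hx⟩ := IsIntegral.of_finite 𝒪 x
  set qC := q.map (localRing M).subtype with hqC
  have hmon : qC.Monic := hq.map _
  have hroot : ∀ z ∈ qC.roots, z ∈ localRing M := fun z hz =>
    Cfsg.Agent.Lib.Blocks.mem_localRing_of_monic_root hmon (fun i => by
      rw [hqC, Polynomial.coeff_map]; exact (q.coeff i).2) (isRoot_of_mem_roots hz)
  refine ⟨qC.roots.attach.map fun z => ⟨z.1, hroot z.1 z.2⟩, ?_⟩
  have heq : ((qC.roots.attach.map fun z => (⟨z.1, hroot z.1 z.2⟩ : 𝒪)).map
      fun a => X - C a).prod = q := by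
    refine Polynomial.map_injective (localRing M).subtype Subtype.val_injective ?_
    rw [← hqC]
    conv_rhs => rw [(IsAlgClosed.splits qC).eq_prod_roots_of_monic hmon]
    rw [Polynomial.map_multiset_prod, Multiset.map_map, Multiset.map_map]
    conv_rhs => rw [← Multiset.attach_map_val qC.roots, Multiset.map_map]
    congr 1
    refine Multiset.map_congr rfl fun z _ => ?_
    simp
  rw [heq, aeval_def]
  exact hx

open Polynomial in
/-- Idempotents lift, below a given lift of a larger one. -/
theorem exists_idem_lift {Q : Subgroup G} {e : MonoidAlgebra 𝒪 G} (he : e ∈ fx 𝒪 Q)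
    (hee : e * e = e) {a : MonoidAlgebra 𝕜 G} (ha : a ∈ fx 𝕜 Q) (haa : a * a = a)
    (hea : red M e * a = a) (hae : a * red M e = a) :
    ∃ f ∈ fx 𝒪 Q, f * f = f ∧ red M f = a ∧ e * f = f ∧ f * e = f := by
  classical
  obtain ⟨x₀, hx₀, hx₀a⟩ := red_surjective_fx ha
  set x := e * x₀ * e with hxdef
  have hex : e * x = x := by rw [hxdef, ← mul_assoc, ← mul_assoc, hee]
  have hxe : x * e = x := by rw [hxdef, mul_assoc, hee]
  have hxfx : x ∈ fx 𝒪 Q := mul_mem (mul_mem he hx₀) he
  have hxa : red M x = a := by rw [hxdef, map_mul, map_mul, hx₀a, hea, hae]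
  obtain ⟨A, hA⟩ := exists_split_poly x
  let A0 := A.filter fun r => residue M r ≠ 1
  let A1 := A.filter fun r => ¬ residue M r ≠ 1
  let P0 : (localRing M)[X] := ((0 ::ₘ A0).map fun r => X - C r).prod
  let P1 : (localRing M)[X] := ((1 ::ₘ A1).map fun r => X - C r).prod
  have hco : IsCoprime P0 P1 := isCoprime_prod_of fun r hr s hs => by
    rw [Cfsg.Agent.Lib.Blocks.isUnit_localRing_iff, map_sub, sub_ne_zero]
    have hs1 : residue M s = 1 := by
      rcases Multiset.mem_cons.mp hs with rfl | hs
      · exact map_one _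
      · exact not_not.mp (Multiset.mem_filter.mp hs).2
    rw [hs1]
    rcases Multiset.mem_cons.mp hr with rfl | hr
    · rw [map_zero]; exact zero_ne_one
    · exact (Multiset.mem_filter.mp hr).2
  obtain ⟨U, V, hUV⟩ := hco
  let ev := aeval (R := localRing M) x
  have hfx : ∀ q, ev q ∈ fx 𝒪 Q := fun q => by
    induction q using Polynomial.induction_on' with
    | add q r hq hr => rw [map_add]; exact add_mem hq hr
    | monomial n c =>
      rw [aeval_monomial]
      exact mul_mem (Subalgebra.algebraMap_mem _ c) (pow_mem hxfx n)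
  have h0 : ev (P0 * P1) = 0 := by
    have : P0 * P1 = X * (X - 1) * (A.map fun r => X - C r).prod := by
      simp only [P0, P1, Multiset.map_cons, Multiset.prod_cons, map_zero, map_one, sub_zero]
      conv_rhs => rw [← Multiset.filter_add_not (fun r => residue M r ≠ 1) A, Multiset.map_add,
        Multiset.prod_add]
      ring
    rw [this]
    show aeval x _ = 0
    rw [map_mul, hA, mul_zero]
  set f := ev (U * P0) with hf
  have hP0 : ev (U * P0) = x * ev (U * (A0.map fun r => X - C r).prod) := by
    have : U * P0 = X * (U * (A0.map fun r => X - C r).prod) := by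
      simp only [P0, Multiset.map_cons, Multiset.prod_cons, map_zero, sub_zero]
      ring
    rw [this]
    show aeval x _ = x * aeval x _
    rw [map_mul, aeval_X]
  refine ⟨f, hfx _, ?_, ?_, ?_, ?_⟩
  · have h1 : f * ev (V * P1) = 0 := by
      rw [hf, ← map_mul, show U * P0 * (V * P1) = U * V * (P0 * P1) by ring, map_mul, h0, mul_zero]
    have h2 : f + ev (V * P1) = 1 := by rw [hf, ← map_add, hUV, map_one]
    have h3 := congrArg (f * ·) h2
    simp only [mul_add, h1, add_zero, mul_one] at h3
    exact h3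
  · have h1 : a * red M f = red M f := by
      rw [hf, hP0, map_mul, hxa, ← mul_assoc, haa]
    have h2 : ev (V * P1) = (x - 1) * ev (V * (A1.map fun r => X - C r).prod) := by
      have : V * P1 = (X - 1) * (V * (A1.map fun r => X - C r).prod) := by
        simp only [P1, Multiset.map_cons, Multiset.prod_cons, map_one]
        ring
      rw [this]
      show aeval x _ = (x - 1) * aeval x _
      rw [map_mul, map_sub, aeval_X, map_one]
    have h3 : f + ev (V * P1) = 1 := by rw [hf, ← map_add, hUV, map_one]
    have h4 := congrArg (fun z => a * red M z) h3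
    simp only [h2, map_add, map_mul, map_sub, map_one, hxa, mul_add, h1, mul_one] at h4
    rwa [← mul_assoc, mul_sub, haa, mul_one, sub_self, zero_mul, add_zero] at h4
  · rw [hf, hP0, ← mul_assoc, hex]
  · have hcomm : x * ev (U * (A0.map fun r => X - C r).prod) =
        ev (U * (A0.map fun r => X - C r).prod) * x := by
      have h := congrArg ev (mul_comm X (U * (A0.map fun r => X - C r).prod))
      simpa [ev] using h
    rw [hf, hP0, hcomm, mul_assoc, hxe]

/-- The character of `q` times an element. -/
noncomputable def tau (χ : Cfsg.IrrCharacter G) (q : G) (x : MonoidAlgebra 𝒪 G) : ℂ :=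
  lin (χ : G → ℂ) (single q 1 * MonoidAlgebra.mapRingHom G (localRing M).subtype x)

theorem tau_add (χ : Cfsg.IrrCharacter G) (q : G) (x y : MonoidAlgebra 𝒪 G) :
    tau χ q (x + y) = tau χ q x + tau χ q y := by
  rw [tau, tau, tau, map_add, mul_add, map_add]

theorem tau_zero (χ : Cfsg.IrrCharacter G) (q : G) :
    tau χ q (0 : MonoidAlgebra 𝒪 G) = 0 := by
  rw [tau, map_zero, mul_zero, map_zero]

theorem lin_mul_comm (χ : Cfsg.IrrCharacter G) (a b : MonoidAlgebra ℂ G) :
    lin (χ : G → ℂ) (a * b) = lin (χ : G → ℂ) (b * a) := by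
  induction a using MonoidAlgebra.induction_linear with
  | zero => simp
  | add f h hf hh => rw [add_mul, mul_add, map_add, map_add, hf, hh]
  | single g r =>
    induction b using MonoidAlgebra.induction_linear with
    | zero => simp
    | add f h hf hh => rw [add_mul, mul_add, map_add, map_add, hf, hh]
    | single g' r' =>
      rw [single_mul_single, single_mul_single, Cfsg.Agent.Lib.Blocks.lin_single,
        Cfsg.Agent.Lib.Blocks.lin_single, mul_comm r]
      congr 1
      rw [show g * g' = g * (g' * g) * g⁻¹ by group, Cfsg.Agent.Lib.Blocks.char_conj_apply]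

theorem tau_mul_comm (χ : Cfsg.IrrCharacter G) {Q : Subgroup G} {q : G} (hq : q ∈ Q)
    {x y : MonoidAlgebra 𝒪 G} (hy : y ∈ fx 𝒪 Q) : tau χ q (x * y) = tau χ q (y * x) := by
  have hc := commute_single (mem_fx.mp (map_mem_fx (localRing M).subtype hy)) hq
  simp only [tau, map_mul]
  rw [← mul_assoc, lin_mul_comm χ, ← mul_assoc, ← hc.eq, mul_assoc]

/-- Equivalent idempotents have lifts with the same character. -/
theorem tau_eq_of_equiv (χ : Cfsg.IrrCharacter G) {Q : Subgroup G} {q : G} (hq : q ∈ Q)
    {e e' : MonoidAlgebra 𝒪 G} (he : e ∈ fx 𝒪 Q) (he' : e' ∈ fx 𝒪 Q) (hee : e * e = e)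
    (hee' : e' * e' = e') {a b : MonoidAlgebra 𝕜 G} (ha : a ∈ fx 𝕜 Q) (hb : b ∈ fx 𝕜 Q)
    (hab : a * b = red M e) (hba : b * a = red M e') : tau χ q e = tau χ q e' := by
  obtain ⟨x₀, hx₀, hxa⟩ := red_surjective_fx ha
  obtain ⟨y₀, hy₀, hyb⟩ := red_surjective_fx hb
  have hi : red M e * red M e = red M e := by rw [← map_mul, hee]
  have hi' : red M e' * red M e' = red M e' := by rw [← map_mul, hee']
  obtain ⟨x, hxdef⟩ : ∃ x, x = e * x₀ * e' := ⟨_, rfl⟩
  obtain ⟨y, hydef⟩ : ∃ y, y = e' * y₀ * e := ⟨_, rfl⟩
  have hex : e * x = x := by rw [hxdef, ← mul_assoc, ← mul_assoc, hee]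
  have hxe : x * e' = x := by rw [hxdef, mul_assoc, hee']
  have hey : e' * y = y := by rw [hydef, ← mul_assoc, ← mul_assoc, hee']
  have hye : y * e = y := by rw [hydef, mul_assoc, hee]
  have hxf : x ∈ fx 𝒪 Q := hxdef ▸ mul_mem (mul_mem he hx₀) he'
  have hyf : y ∈ fx 𝒪 Q := hydef ▸ mul_mem (mul_mem he' hy₀) he
  have hI : a * b * (a * b) = a * b := by rw [hab, hi]
  have hI' : b * a * (b * a) = b * a := by rw [hba, hi']
  have hX : red M x = a * b * a * (b * a) := by rw [hxdef, map_mul, map_mul, hxa, hab, hba]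
  have hY : red M y = b * a * b * (a * b) := by rw [hydef, map_mul, map_mul, hyb, hab, hba]
  have hred : red M (x * y) = red M e := by
    rw [map_mul, hX, hY, ← hab,
      show a * b * a * (b * a) * (b * a * b * (a * b)) = a * (b * a * (b * a)) * (b * a) * b * (a * b)
        by simp only [mul_assoc], hI',
      show a * (b * a) * (b * a) * b * (a * b) = a * b * (a * b) * (a * b) * (a * b)
        by simp only [mul_assoc], hI, hI, hI]
  have hred' : red M (y * x) = red M e' := by
    rw [map_mul, hX, hY, ← hba,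
      show b * a * b * (a * b) * (a * b * a * (b * a)) = b * (a * b * (a * b)) * (a * b) * a * (b * a)
        by simp only [mul_assoc], hI,
      show b * (a * b) * (a * b) * a * (b * a) = b * a * (b * a) * (b * a) * (b * a)
        by simp only [mul_assoc], hI', hI', hI']
  set w := 1 - e + x * y with hwdef
  obtain ⟨v, hv, hwv, hvw⟩ := exists_inv (Q := Q) (w := w)
    (add_mem (sub_mem (one_mem _) he) (mul_mem hxf hyf))
    (by rw [hwdef, map_add, map_sub, hred, map_one, sub_add_cancel])
  have hew : e * w = x * y := by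
    rw [hwdef, mul_add, mul_sub, mul_one, hee, sub_self, zero_add, ← mul_assoc, hex]
  have hwe : w * e = x * y := by
    rw [hwdef, add_mul, sub_mul, one_mul, hee, sub_self, zero_add, mul_assoc, hye]
  have hev : e * v = v * e := by
    calc e * v = v * w * (e * v) := by rw [hvw, one_mul]
      _ = v * (w * e) * v := by simp only [mul_assoc]
      _ = v * e := by rw [hwe, ← hew, mul_assoc, mul_assoc e, hwv, mul_one]
  have hxyv : x * (y * v) = e := by
    rw [← mul_assoc, ← hew, mul_assoc, hwv, mul_one]
  have hF : (y * v * x) * (y * v * x) = y * v * x := by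
    rw [show y * v * x * (y * v * x) = y * v * (x * (y * v)) * x by simp only [mul_assoc], hxyv,
      mul_assoc (y * v) e x, hex]
  have hf0 : e' - y * v * x = 0 := by
    refine idem_eq_zero ?_ ?_
    · have h1 : e' * (y * v * x) = y * v * x := by rw [← mul_assoc, ← mul_assoc, hey]
      have h2 : y * v * x * e' = y * v * x := by rw [mul_assoc, hxe]
      rw [sub_mul, mul_sub, mul_sub, hee', h1, h2, hF, sub_self, sub_zero]
    · have hv1 : red M v = 1 := by
        have h := congrArg (red M) hwv
        rwa [map_mul, hwdef, map_add, map_sub, hred, map_one, sub_add_cancel, one_mul] at h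
      rw [map_sub, map_mul, map_mul, hv1, mul_one, ← map_mul, hred', sub_self]
  rw [← hxyv, tau_mul_comm χ hq (mul_mem hyf hv), sub_eq_zero.mp hf0]

/-- Higman: the character vanishes when the Brauer image is zero. -/
theorem tau_eq_zero {p : ℕ} (hM : Cfsg.IsPModular p M) (χ : Cfsg.IrrCharacter G)
    {Q : Subgroup G} {q : G} (hq : q ∈ Q) {i : ℕ} (ho : orderOf q = p ^ i)
    {e : MonoidAlgebra 𝒪 G} (he : e ∈ fx 𝒪 Q) (hee : e * e = e)
    (h0 : ∀ v ∈ Subgroup.centralizer ({q} : Set G), (red M e).coeff v = 0) :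
    tau χ q e = 0 := by
  have h := Cfsg.Agent.Lib.Blocks.lin_single_mul_eq_zero hM hee (x := q) (y := 1) ho
    (by rw [orderOf_one]; exact hM.1.not_dvd_one) (Commute.one_right q)
    (commute_single (mem_fx.mp he) hq) (commute_single (mem_fx.mp he) (one_mem Q))
    (fun v hv => by rw [← coeff_red]; exact h0 v hv) χ
  rwa [mul_one] at h

end Local

end Cfsg.Agent.Lib.StarChar.Fixed
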