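import Cfsg.Agent.Lib.StarChar.Support
import Cfsg.Agent.Lib.Brauer.Elementary
import Cfsg.Agent.Lib.Characters.Basic
import Cfsg.Agent.Lib.StarChar.Equiv
import Cfsg.Agent.Lib.PGroups.Frattini

/-!
# Integrality of the local part of the star product

If `f` is invariant and on the pairs below each pair `(Q, Ω)` is a generalized character of `Q`, then
`∑ q ∈ Q, η q * theta q i` is a multiple of `|Q|` for every homomorphism `η` and every `Q`-fixed
idempotent `i` (`exists_int`).
-/

set_option autoImplicit false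

namespace Cfsg.Agent.Lib.StarChar.Integrality

open MonoidAlgebra
open Cfsg.Agent.Lib.Blocks (localRing residue lin)
open Cfsg.Agent.Lib.BrauerMap.Basic
open Cfsg.Agent.Lib.BrauerPairs.Center Cfsg.Agent.Lib.BrauerPairs.Trunc
open Cfsg.Agent.Lib.BrauerPairs.Conj Cfsg.Agent.Lib.BrauerPairs.Pairs
open Cfsg.Agent.Lib.BrauerPairs.Bridge
open Cfsg.Agent.Lib.StarChar.Fixed Cfsg.Agent.Lib.StarChar.Algebra
open Cfsg.Agent.Lib.StarChar.Theta Cfsg.Agent.Lib.StarChar.Trace
open Cfsg.Agent.Lib.StarChar.Equiv Cfsg.Agent.Lib.StarChar.Support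

universe u

attribute [local instance] Ideal.Quotient.field

variable {M : Ideal Cfsg.AlgInt} [M.IsMaximal] {G : Type u} [Group G] [Finite G]

local notation "C[" P "]" => Subgroup.centralizer ((P : Subgroup G) : Set G)
local notation "kG" => MonoidAlgebra (Res M) G
local notation "𝒪" => localRing M

/-- A function of `p`-elements and blocks given by generalized characters below each pair. -/
def IsCoherent (p : ℕ)
    (f : ∀ q : G, Blk (Res M) (Subgroup.centralizer (Subgroup.zpowers q : Set G)) → ℂ) : Prop :=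
  ∀ (Q : Subgroup G), IsPGroup p Q → ∀ Ω : Blk (Res M) C[Q], ∃ ν : Q → ℂ,
    Cfsg.IsGeneralizedCharacter Q ν ∧
    ∀ (q : G) (hq : q ∈ Q) (ω : Blk (Res M) C[Subgroup.zpowers q]),
      Le p (⟨Subgroup.zpowers q, ω⟩ : Idx (Res M) G) ⟨Q, Ω⟩ → f q ω = ν ⟨q, hq⟩

/-- The character at a fixed idempotent is a character of the subgroup. -/
theorem isCharacter_tau (χ : Cfsg.IrrCharacter G) {Q : Subgroup G}
    {e : MonoidAlgebra 𝒪 G} (he : e ∈ fx 𝒪 Q) (hee : e * e = e) :
    Cfsg.IsCharacter Q (fun q : Q => tau χ (q : G) e) := by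
  obtain ⟨d, ρ, -, hρ⟩ := χ.2
  set e' : MonoidAlgebra ℂ G := MonoidAlgebra.mapRingHom G (localRing M).subtype e with he'
  set A := ρ.asAlgebraHom e' with hA
  have hmem : e' ∈ fx ℂ Q := map_mem_fx _ he
  have hAA : A * A = A := by rw [hA, ← map_mul, he', ← map_mul, hee]
  have hcomm : ∀ q : Q, A * ρ (q : G) = ρ (q : G) * A := fun q => by
    have h := congrArg ρ.asAlgebraHom (commute_single (mem_fx.mp hmem) q.2).eq
    rw [map_mul, map_mul, Representation.asAlgebraHom_single, one_smul] at h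
    exact h.symm
  set W : Submodule ℂ (Fin d → ℂ) := LinearMap.range A
  have hinv : ∀ q : Q, ∀ x ∈ W, ρ (q : G) x ∈ W := by
    rintro q _ ⟨y, rfl⟩
    exact ⟨ρ (q : G) y, LinearMap.congr_fun (hcomm q) y⟩
  let σ : Representation ℂ Q W :=
    { toFun := fun q => (ρ (q : G)).restrict (hinv q)
      map_one' := LinearMap.ext fun x => Subtype.ext (by simp)
      map_mul' := fun q r => LinearMap.ext fun x => Subtype.ext (by simp) }
  rw [show (fun q : Q => tau χ (q : G) e) = σ.character from funext fun q => ?_]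
  · exact Characters.Basic.isCharacter_character σ
  have hf : ∀ x, (ρ (q : G) * A) x ∈ W := fun x => hinv q _ (LinearMap.mem_range_self A x)
  show tau χ (q : G) e = LinearMap.trace ℂ W (σ q)
  rw [show σ q = LinearMap.restrict (ρ (q : G) * A) (fun x _ => hf x) from
    LinearMap.ext fun x => Subtype.ext (by
      obtain ⟨y, hy⟩ := x.2
      show ρ (q : G) (x : Fin d → ℂ) = ρ (q : G) (A x)
      rw [← hy, ← Module.End.mul_apply A A, hAA]),
    LinearMap.trace_restrict_eq_of_forall_mem W _ hf, hA,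
    ← one_smul ℂ (ρ (q : G)), ← Representation.asAlgebraHom_single, ← map_mul,
    Cfsg.Agent.Lib.Blocks.trace_asAlgebraHom, hρ, tau]

/-- The sum of a character times the character at a fixed idempotent. -/
theorem sum_char_tau (χ : Cfsg.IrrCharacter G) {Q : Subgroup G} [Fintype Q] {φ : Q → ℂ}
    (hφ : Cfsg.IsCharacter Q φ) {e : MonoidAlgebra 𝒪 G} (he : e ∈ fx 𝒪 Q) (hee : e * e = e) :
    ∃ n : ℕ, ∑ q : Q, φ q * tau χ (q : G) e = (Fintype.card Q : ℂ) * n := by
  obtain ⟨n, hn⟩ := Characters.Basic.exists_classInner_nat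
    (Characters.Basic.isCharacter_mul hφ (isCharacter_tau χ he hee))
    Characters.Basic.isCharacter_one
  refine ⟨n, ?_⟩
  rw [← hn, Cfsg.classInner, Nat.card_eq_fintype_card,
    mul_inv_cancel_left₀ (Nat.cast_ne_zero.mpr Fintype.card_ne_zero)]
  simp

/-- An element of a local corner with nilpotent image has image zero. -/
theorem pi_eq_zero_of_nilpotent {k : Type*} [Field k] {A : Type*} [Ring A] [Algebra k A]
    {P : Pkg k A} {s : Fin P.n} {e x : A} (h : P.Single s e) (hx : e * x = x) (hx' : x * e = x)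
    {n : ℕ} (hn : x ^ (n + 1) = 0) : P.π s x = 0 := by
  obtain ⟨w, φ, hw, hE⟩ := h.exists_rankOne
  set c := φ (P.π s x w) with hc
  have hxs : P.π s x = c • P.π s e := by
    have h1 : P.π s e * P.π s x * P.π s e = P.π s x := by
      rw [← map_mul, ← map_mul, hx, hx']
    rw [← h1, hE]
    refine LinearMap.ext fun z => ?_
    simp only [Module.End.mul_apply, rankOne_apply, LinearMap.smul_apply, map_smul, smul_smul,
      hc, mul_comm]
  have hne : P.π s e ≠ 0 := fun h0 => by
    have := h.rank_self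
    rw [Pkg.rank, h0, LinearMap.range_zero, finrank_bot] at this
    exact zero_ne_one this
  have h2 := congrArg (P.π s) hn
  rw [map_pow, hxs, smul_pow, IsIdempotentElem.pow_succ_eq n (h.idem.map (P.π s)), map_zero,
    smul_eq_zero] at h2
  rw [hxs, eq_zero_of_pow_eq_zero (h2.resolve_right hne), zero_smul]

variable {p : ℕ} [Fact p.Prime]

open scoped Classical in
/-- An indecomposable idempotent with zero truncation at `Q` is a trace from a maximal
subgroup. -/
theorem exists_trace {Q : Subgroup G} (hQ : IsPGroup p Q) {i : kG} (hi : Indec Q i)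
    (h0 : brx Q i = 0) :
    ∃ R : Subgroup G, R ≤ Q ∧ (∀ u ∈ Q, ∀ r ∈ R, u * r * u⁻¹ ∈ R) ∧
      Nat.card R * p = Nat.card Q ∧ ∃ b ∈ fx (Res M) R, relTr Q R b = i := by
  obtain ⟨s, hs⟩ := hi.exists_single
  let A := fx (Res M) Q
  let ψ : kG → Module.End (Res M) (Fin ((pk (M := M) Q).d s) → Res M) := fun X =>
    if h : i * X * i ∈ fx (Res M) Q then (pk Q).π s ⟨i * X * i, h⟩ else 0
  have hψ : ∀ X (h : X ∈ fx (Res M) Q), ψ X = (pk Q).π s
      ⟨i * X * i, mul_mem (mul_mem hi.mem h) hi.mem⟩ := fun X h =>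
    dif_pos (mul_mem (mul_mem hi.mem h) hi.mem)
  by_contra hno
  push Not at hno
  have key : ∀ (m : ℕ) (X : kG), X ∈ fx (Res M) Q → (∀ g ∈ C[Q], X.coeff g = 0) →
      X.coeff.support.card ≤ m → ψ X = 0 := by
    intro m
    induction m with
    | zero =>
      intro X hX _ hcard
      have hX0 : X = 0 := MonoidAlgebra.coeff_injective (by
        rw [coeff_zero]
        exact Finsupp.support_eq_empty.mp (Finset.card_eq_zero.mp (by omega)))
      rw [hψ X hX, show (⟨i * X * i, mul_mem (mul_mem hi.mem hX) hi.mem⟩ : fx (Res M) Q) = 0 from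
        Subtype.ext (by show i * X * i = 0; rw [hX0, mul_zero, zero_mul]), map_zero]
    | succ m ih =>
      intro X hX hXC hcard
      by_cases hsupp : X.coeff.support = ∅
      · exact ih X hX hXC (by rw [hsupp, Finset.card_empty]; omega)
      obtain ⟨g₀, hg₀⟩ := Finset.nonempty_of_ne_empty hsupp
      rw [Finsupp.mem_support_iff] at hg₀
      have hne : (Subgroup.centralizer ({g₀} : Set G)).subgroupOf Q ≠ ⊤ := fun h => by
        refine hg₀ (hXC g₀ (BrauerPairs.Maximal.mem_centralizer_of_le ?_))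
        exact Subgroup.subgroupOf_eq_top.mp h
      obtain ⟨K, hK, hKle⟩ := (eq_top_or_exists_le_coatom _).resolve_left hne
      have hKn := PGroups.coatom_normal hQ hK
      have hKi := PGroups.coatom_index hQ hK
      set R : Subgroup G := K.map Q.subtype with hR
      have hRQ : R ≤ Q := Subgroup.map_subtype_le K
      have hnorm : ∀ u ∈ Q, ∀ r ∈ R, u * r * u⁻¹ ∈ R := by
        rintro u hu _ ⟨r, hr, rfl⟩
        exact ⟨_, hKn.conj_mem r hr ⟨u, hu⟩, rfl⟩
      have hcardR : Nat.card R * p = Nat.card Q := by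
        rw [hR, ← Nat.card_congr (K.equivMapOfInjective _ Q.subtype_injective).toEquiv, ← hKi,
          Subgroup.card_mul_index]
      let O : G → Prop := fun g => ∃ u ∈ Q, u * g₀ * u⁻¹ = g
      let X₁ : kG := MonoidAlgebra.ofCoeff
        (Finsupp.equivFunOnFinite.symm fun g => if O g then X.coeff g else 0)
      have hX₁c : ∀ g, X₁.coeff g = if O g then X.coeff g else 0 := fun g => rfl
      have hX₁ : X₁ ∈ fx (Res M) Q := mem_fx.mpr fun t ht g => by
        rw [hX₁c, hX₁c, mem_fx.mp hX t ht g]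
        refine if_congr ⟨fun ⟨u, hu, h⟩ => ⟨t⁻¹ * u, mul_mem (inv_mem ht) hu, ?_⟩,
          fun ⟨u, hu, h⟩ => ⟨t * u, mul_mem ht hu, by rw [← h]; simp [mul_assoc]⟩⟩ rfl rfl
        rw [show t⁻¹ * u * g₀ * (t⁻¹ * u)⁻¹ = t⁻¹ * (u * g₀ * u⁻¹) * t by simp [mul_assoc], h]
        simp [mul_assoc]
      have hst : ∀ g, X₁.coeff g ≠ 0 → ∀ v ∈ Q, v * g * v⁻¹ = g → v ∈ R := by
        intro g hg v hv hvg
        rw [hX₁c] at hg
        split_ifs at hg with hO
        swap
        · exact absurd rfl hg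
        obtain ⟨u, hu, rfl⟩ := hO
        have hmem : u⁻¹ * v * u ∈ Q := mul_mem (mul_mem (inv_mem hu) hv) hu
        have h1 : (⟨_, hmem⟩ : Q) ∈ K := hKle (by
          rw [Subgroup.mem_subgroupOf, Subgroup.mem_centralizer_singleton_iff]
          have h2 := mul_inv_eq_iff_eq_mul.mp hvg
          show u⁻¹ * v * u * g₀ = g₀ * (u⁻¹ * v * u)
          calc u⁻¹ * v * u * g₀ = u⁻¹ * (v * (u * g₀ * u⁻¹)) * u := by simp [mul_assoc]
            _ = u⁻¹ * (u * g₀ * u⁻¹ * v) * u := by rw [h2]
            _ = g₀ * (u⁻¹ * v * u) := by simp [mul_assoc])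
        have h3 := hnorm u hu _ ⟨_, h1, rfl⟩
        simpa [mul_assoc] using h3
      obtain ⟨a, ha, -, hrel⟩ := exists_relTr_eq hRQ hX₁ hst
      have hψ1 : ψ X₁ = 0 := by
        by_contra hne1
        set x := i * X₁ * i
        have hx : x ∈ fx (Res M) Q := mul_mem (mul_mem hi.mem hX₁) hi.mem
        have hix : i * x = x := by simp only [x, ← mul_assoc, hi.idem]
        have hxi : x * i = x := by simp only [x, mul_assoc, hi.idem]
        rcases hi.corner hx hix hxi with ⟨n, hn⟩ | ⟨y, hy, hxy, -⟩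
        · apply hne1
          rw [hψ X₁ hX₁]
          exact pi_eq_zero_of_nilpotent hs (Subtype.ext hix) (Subtype.ext hxi)
            (x := (⟨x, hx⟩ : fx (Res M) Q)) (n := n) (Subtype.ext (by simpa using hn))
        · refine hno R hRQ hnorm hcardR (i * a * i * y)
            (mul_mem (mul_mem (mul_mem (fx_anti hRQ hi.mem) ha) (fx_anti hRQ hi.mem))
              (fx_anti hRQ hy)) ?_
          rw [← relTr_mul _ hy, ← relTr_mul _ hi.mem, ← mul_relTr _ hi.mem, hrel]
          exact hxy
      have hψ2 : ψ (X - X₁) = 0 := by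
        refine ih _ (sub_mem hX hX₁) (fun g hg => ?_) ?_
        · rw [coeff_sub, Finsupp.sub_apply, hX₁c, hXC g hg, ite_self, sub_zero]
        · have hsub : (X - X₁).coeff.support ⊆ X.coeff.support.erase g₀ := by
            intro g hg
            rw [Finsupp.mem_support_iff, coeff_sub, Finsupp.sub_apply, hX₁c] at hg
            rw [Finset.mem_erase, Finsupp.mem_support_iff]
            refine ⟨fun e => hg ?_, fun e => hg ?_⟩
            · rw [e, if_pos ⟨1, one_mem _, by simp⟩, sub_self]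
            · rw [e, ite_self, sub_zero]
          have h1 := Finset.card_le_card hsub
          rw [Finset.card_erase_of_mem (Finsupp.mem_support_iff.mpr hg₀)] at h1
          omega
      rw [hψ X hX]
      rw [hψ _ (sub_mem hX hX₁)] at hψ2
      rw [hψ _ hX₁] at hψ1
      rw [show (⟨i * X * i, mul_mem (mul_mem hi.mem hX) hi.mem⟩ : fx (Res M) Q) =
        ⟨i * (X - X₁) * i, mul_mem (mul_mem hi.mem (sub_mem hX hX₁)) hi.mem⟩ +
          ⟨i * X₁ * i, mul_mem (mul_mem hi.mem hX₁) hi.mem⟩ from Subtype.ext (by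
            show i * X * i = i * (X - X₁) * i + i * X₁ * i
            rw [← add_mul, ← mul_add, sub_add_cancel]), map_add, hψ1, hψ2, add_zero]
  have h := key _ i hi.mem (fun g hg => by
    rw [← coeff_brx Q i hg, h0, coeff_zero, Finsupp.zero_apply]) le_rfl
  rw [hψ i hi.mem, show (⟨i * i * i, mul_mem (mul_mem hi.mem hi.mem) hi.mem⟩ : fx (Res M) Q) =
    ⟨i, hi.mem⟩ from Subtype.ext (by show i * i * i = i; rw [hi.idem, hi.idem])] at h
  have := hs.rank_self
  rw [Pkg.rank, h, LinearMap.range_zero, finrank_bot] at this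
  exact zero_ne_one this

/-- Conjugation on the fixed algebra of a normal subgroup. -/
noncomputable def cjR {R : Subgroup G} (t : G) (h : ∀ g, g ∈ R ↔ t * g * t⁻¹ ∈ R) :
    fx (Res M) R →ₐ[Res M] fx (Res M) R :=
  ((cj t).toAlgHom.comp (fx (Res M) R).val).codRestrict (fx (Res M) R)
    fun a => cj_mem_fx h a.2

/-- The quotient of an indecomposable. -/
noncomputable def cls {R : Subgroup G} {j : kG} (hj : Indec R j) : Fin (pk (M := M) R).n :=
  hj.exists_eqv_sgl.choose

open scoped Classical in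
theorem rk_indec {R : Subgroup G} {j : kG} (hj : Indec R j) (s : Fin (pk (M := M) R).n) :
    rk R s j = if s = cls hj then 1 else 0 := by
  obtain ⟨h1, h0, -⟩ := hj.exists_eqv_sgl.choose_spec
  split_ifs with h
  · rw [h]; exact h1
  · exact h0 s h

theorem eqv_cls {R : Subgroup G} {j : kG} (hj : Indec R j) : Eqv R j (sgl R (cls hj)) :=
  hj.exists_eqv_sgl.choose_spec.2.2

theorem cls_eq_of_eqv {R : Subgroup G} {j j' : kG} (hj : Indec R j) (hj' : Indec R j')
    (h : Eqv R j j') : cls hj = cls hj' := by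
  classical
  have e := rk_eqv (cls hj) hj.mem hj'.mem hj.idem hj'.idem h
  rw [rk_indec hj, rk_indec hj', if_pos rfl] at e
  by_contra hne
  rw [if_neg hne] at e
  exact one_ne_zero e

theorem cls_sgl {R : Subgroup G} (s : Fin (pk (M := M) R).n) : cls (indec_sgl R s) = s := by
  classical
  have h1 : rk R s (sgl R s) = 1 := by
    rw [rk_mem s (sgl_mem R s)]; exact (sgl_spec R s).rank_self
  rw [rk_indec (indec_sgl R s)] at h1
  by_contra hne
  rw [if_neg (Ne.symm hne)] at h1
  exact zero_ne_one h1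

variable [CharP (Res M) p]

/-- Invariant weights times the ranks of a trace from a normal subgroup of index `p`. -/
theorem dvd_rank_sum {Q R : Subgroup G} (hQ : IsPGroup p Q) (hRQ : R ≤ Q)
    (hnorm : ∀ u ∈ Q, ∀ r ∈ R, u * r * u⁻¹ ∈ R) (hcard : Nat.card R * p = Nat.card Q) {b : kG}
    (hb : b ∈ fx (Res M) R) {i : kG} (hi : i ∈ fx (Res M) Q) (hii : i * i = i)
    (hib : relTr Q R b = i) (w : Fin (pk (M := M) R).n → ℤ)
    (hw : ∀ t ∈ Q, ∀ s, ∀ hj : Indec R (cj t (sgl R s)), w (cls hj) = w s) :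
    (p : ℤ) ∣ ∑ s, (rk R s i : ℤ) * w s := by
  classical
  have hiff : ∀ t ∈ Q, ∀ g, g ∈ R ↔ t * g * t⁻¹ ∈ R := fun t ht g =>
    ⟨hnorm t ht g, fun h => by
      have := hnorm t⁻¹ (inv_mem ht) _ h
      simpa [mul_assoc] using this⟩
  have hind : ∀ (t : Q) s, Indec R (cj (t : G) (sgl (M := M) R s)) := fun t s =>
    indec_cj (hiff t t.2) (indec_sgl R s)
  have heqv : ∀ {t : G} (_ : t ∈ Q) {a a' : kG}, Eqv R a a' → Eqv R (cj t a) (cj t a') := by
    rintro t ht a a' ⟨x, hx, y, hy, h1, h2⟩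
    exact ⟨cj t x, cj_mem_fx (hiff t ht) hx, cj t y, cj_mem_fx (hiff t ht) hy,
      by rw [← map_mul, h1], by rw [← map_mul, h2]⟩
  have h1' : ∀ s, cls (hind 1 s) = s := fun s => by
    refine (cls_eq_of_eqv _ (indec_sgl R s) ?_).trans (cls_sgl s)
    rw [OneMemClass.coe_one, cj_one]
    exact ⟨sgl R s, sgl_mem R s, sgl R s, sgl_mem R s, (indec_sgl R s).idem, (indec_sgl R s).idem⟩
  letI act : MulAction Q (Fin (pk (M := M) R).n) :=
    { smul := fun t s => cls (hind t s)
      one_smul := h1'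
      mul_smul := fun u v s => by
        show cls (hind (u * v) s) = cls (hind u (cls (hind v s)))
        refine cls_eq_of_eqv _ _ ?_
        rw [Subgroup.coe_mul, cj_mul]
        exact heqv u.2 (eqv_cls (hind v s)) }
  have hsm : ∀ (t : Q) s, t • s = cls (hind t s) := fun _ _ => rfl
  have hrk : ∀ (t : Q) s (a : kG), a ∈ fx (Res M) R → a * a = a →
      rk R (t • s) (cj (t : G) a) = rk R s a := by
    intro t s a ha haa
    refine idem_induction (motive := fun a => rk R (t • s) (cj (t : G) a) = rk R s a) ?_ ?_ ?_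
      ha haa
    · rw [map_zero, rk_zero, rk_zero]
    · intro j hj
      have hj' := indec_cj (hiff t t.2) hj
      have e : cls hj' = t • cls hj := cls_eq_of_eqv hj' _ (heqv t.2 (eqv_cls hj))
      rw [rk_indec hj', rk_indec hj, e]
      exact if_congr (smul_left_cancel_iff t) rfl rfl
    · intro a ha b hb haa hbb hab hba iha ihb
      rw [map_add, rk_add _ (cj_mem_fx (hiff t t.2) ha) (cj_mem_fx (hiff t t.2) hb)
        (by rw [← map_mul, haa]) (by rw [← map_mul, hbb]) (by rw [← map_mul, hab, map_zero])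
        (by rw [← map_mul, hba, map_zero]), iha, ihb, rk_add _ ha hb haa hbb hab hba]
  have hiR : i ∈ fx (Res M) R := fx_anti hRQ hi
  have hfix : ∀ s, (∀ t : Q, t • s = s) → (p : ℤ) ∣ (rk R s i : ℤ) := by
    intro s hs
    rw [Int.natCast_dvd_natCast, ← CharP.cast_eq_zero_iff (Res M) p]
    let Tl : fx (Res M) R →ₗ[Res M] Res M :=
      (LinearMap.trace (Res M) _).comp ((pk (M := M) R).π s).toLinearMap
    have htrace : ∀ (t : Q) (a : fx (Res M) R), Tl (cjR (t : G) (hiff t t.2) a) = Tl a := by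
      intro t a
      let T := Tl.comp (cjR (t : G) (hiff t t.2)).toLinearMap
      have hT := (pk (M := M) R).trace_sym T
        (fun x y => by
          show LinearMap.trace (Res M) _ ((pk (M := M) R).π s (cjR (t : G) (hiff t t.2) (x * y))) =
            LinearMap.trace (Res M) _ ((pk (M := M) R).π s (cjR (t : G) (hiff t t.2) (y * x)))
          rw [map_mul (cjR (t : G) (hiff t t.2)), map_mul (cjR (t : G) (hiff t t.2)),
            map_mul ((pk (M := M) R).π s), map_mul ((pk (M := M) R).π s), LinearMap.trace_mul_comm])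
        (fun x hx => by
          obtain ⟨m, hm⟩ := (pk (M := M) R).nil x hx
          refine (LinearMap.isNilpotent_trace_of_isNilpotent ⟨m, ?_⟩).eq_zero
          show ((pk (M := M) R).π s (cjR (t : G) (hiff t t.2) x)) ^ m = 0
          rw [← map_pow, ← map_pow, hm, map_zero, map_zero])
        (fun s' => ⟨sgl R s', sgl_mem R s'⟩) (fun s' => sgl_spec R s') a
      have hval : ∀ s', T ⟨sgl R s', sgl_mem R s'⟩ = if s' = s then 1 else 0 := by
        intro s'
        show LinearMap.trace (Res M) _ ((pk (M := M) R).π s ⟨cj (t : G) (sgl R s'), (hind t s').mem⟩) = _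
        rw [(pk (M := M) R).trace_eq_rank (isIdem_mk _ (hind t s').idem), ← rk_mem s (hind t s').mem,
          rk_indec (hind t s'), ← hsm]
        have e : s = t • s' ↔ s' = s := by
          conv_lhs => rw [← hs t]
          exact (smul_left_cancel_iff t).trans eq_comm
        by_cases hc : s' = s
        · rw [if_pos (e.mpr hc), if_pos hc, Nat.cast_one]
        · rw [if_neg (fun he => hc (e.mp he)), if_neg hc, Nat.cast_zero]
      change T a = Tl a
      rw [hT]
      simp only [hval, ite_mul, one_mul, zero_mul, Finset.sum_ite_eq', Finset.mem_univ, if_true]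
      rfl
    have := Fintype.ofFinite (Q ⧸ R.subgroupOf Q)
    have hdec : (⟨i, hiR⟩ : fx (Res M) R) =
        ∑ c : Q ⧸ R.subgroupOf Q, cjR (c.out : G) (hiff _ c.out.2) ⟨b, hb⟩ := by
      apply Subtype.ext
      rw [AddSubmonoidClass.coe_finsetSum]
      show i = _
      rw [← hib, relTr_eq]
      rfl
    rw [rk_mem s hiR, ← (pk (M := M) R).trace_eq_rank (isIdem_mk hiR hii)]
    show Tl ⟨i, hiR⟩ = 0
    rw [hdec, map_sum, Finset.sum_congr rfl fun c _ => htrace c.out ⟨b, hb⟩, Finset.sum_const,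
      Finset.card_univ]
    have hidx : Fintype.card (Q ⧸ R.subgroupOf Q) = p := by
      have h1 := (R.subgroupOf Q).card_mul_index
      rw [Subgroup.index_eq_card, Nat.card_congr (Subgroup.subgroupOfEquivOfLe hRQ).toEquiv,
        Nat.card_eq_fintype_card (α := Q ⧸ R.subgroupOf Q), ← hcard] at h1
      exact Nat.eq_of_mul_eq_mul_left Nat.card_pos h1
    rw [hidx, nsmul_eq_mul, CharP.cast_eq_zero, zero_mul]
  rw [← ZMod.intCast_zmod_eq_zero_iff_dvd, Int.cast_sum]
  rw [sum_eq_sum_fixed hQ (fun s => (((rk R s i : ℤ) * w s : ℤ) : ZMod p)) ?_]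
  · refine Finset.sum_eq_zero fun s hs => ?_
    rw [ZMod.intCast_zmod_eq_zero_iff_dvd]
    exact Dvd.dvd.mul_right (hfix s (MulAction.mem_fixedPoints.mp (Finset.mem_filter.mp hs).2)) _
  · intro t s
    have e : rk R (t • s) i = rk R s i := by
      conv_lhs => rw [← hi (t : G) t.2]
      exact hrk t s i hiR hii
    rw [e, hsm, hw t t.2 s (hind t s)]

variable (χ : Cfsg.IrrCharacter G)
  (f : ∀ q : G, Blk (Res M) (Subgroup.centralizer (Subgroup.zpowers q : Set G)) → ℂ)

/-- The sum on an indecomposable with non-zero truncation. -/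
theorem exists_int_top (hM : Cfsg.IsPModular p M) (hcoh : IsCoherent p f) {Q : Subgroup G}
    [Fintype Q] (hQ : IsPGroup p Q) (η : Q →* ℂ) {i : kG} (hi : Indec Q i)
    (hne : brx Q i ≠ 0) :
    ∃ n : ℤ, ∑ q : Q, η q * theta χ f (q : G) i = (Fintype.card Q : ℂ) * n := by
  obtain ⟨Ω, hΩ⟩ := hi.exists_blo hQ
  obtain ⟨ν, ⟨ν₁, ν₂, hν₁, hν₂, hsub⟩, hν⟩ := hcoh Q hQ Ω
  obtain ⟨e, he, hee, her⟩ := exists_lift hi.mem hi.idem
  have hη := Brauer.Elementary.isCharacter_hom η
  obtain ⟨n₁, hn₁⟩ := sum_char_tau χ (Characters.Basic.isCharacter_mul hη hν₁) he hee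
  obtain ⟨n₂, hn₂⟩ := sum_char_tau χ (Characters.Basic.isCharacter_mul hη hν₂) he hee
  refine ⟨(n₁ : ℤ) - n₂, ?_⟩
  rw [Int.cast_sub, Int.cast_natCast, Int.cast_natCast, mul_sub, ← hn₁, ← hn₂,
    ← Finset.sum_sub_distrib]
  refine Finset.sum_congr rfl fun q _ => ?_
  have hle : Subgroup.zpowers (q : G) ≤ Q := Subgroup.zpowers_le.mpr q.2
  obtain ⟨ω, hω⟩ := exists_le_of_le hQ Ω _ hle
  rw [theta_of_blo χ f hM (hQ.to_le hle) (fx_anti hle hi.mem) hi.idem
      (blo_below hQ hi hΩ hne _ ω hω),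
    hν q q.2 ω hω, tauBar_eq χ q.2 he hee, her, hsub]
  simp only [Pi.mul_apply, Pi.sub_apply]
  ring

/-- **Integrality.** -/
theorem exists_int (hM : Cfsg.IsPModular p M) (hinv : IsInv f) (hcoh : IsCoherent p f)
    (Q : Subgroup G) [Fintype Q] (hQ : IsPGroup p Q) (η : Q →* ℂ) {i : kG}
    (hi : i ∈ fx (Res M) Q) (hii : i * i = i) :
    ∃ n : ℤ, ∑ q : Q, η q * theta χ f (q : G) i = (Fintype.card Q : ℂ) * n := by
  classical
  suffices ∀ (m : ℕ) (Q : Subgroup G) [Fintype Q], Nat.card Q = m → IsPGroup p Q →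
      ∀ (η : Q →* ℂ) (i : kG), i ∈ fx (Res M) Q → i * i = i →
        ∃ n : ℤ, ∑ q : Q, η q * theta χ f (q : G) i = (Fintype.card Q : ℂ) * n from
    this _ Q rfl hQ η i hi hii
  clear hi hii i η hQ
  intro m
  induction m using Nat.strong_induction_on with
  | _ m ih =>
    intro Q' _ hm hQ η i hi hii
    have hz : ∀ q : Q', Subgroup.zpowers (q : G) ≤ Q' := fun q => Subgroup.zpowers_le.mpr q.2
    refine idem_induction (motive := fun i =>
      ∃ n : ℤ, ∑ q : Q', η q * theta χ f (q : G) i = (Fintype.card Q' : ℂ) * n) ?_ ?_ ?_ hi hii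
    · exact ⟨0, by simp [theta_zero]⟩
    swap
    · intro a ha b hb haa hbb hab hba ⟨na, hna⟩ ⟨nb, hnb⟩
      refine ⟨na + nb, ?_⟩
      rw [Int.cast_add, mul_add, ← hna, ← hnb, ← Finset.sum_add_distrib]
      refine Finset.sum_congr rfl fun q _ => ?_
      rw [theta_add χ f (fx_anti (hz q) ha) (fx_anti (hz q) hb) haa hbb hab hba, mul_add]
    intro i hi
    by_cases hne : brx Q' i = 0
    swap
    · exact exists_int_top χ f hM hcoh hQ η hi hne
    obtain ⟨R, hRQ, hnorm, hcard, b, hb, hib⟩ := exists_trace hQ hi hne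
    have hR : IsPGroup p R := hQ.to_le hRQ
    have hlt : Nat.card R < m := by
      rw [← hm, ← hcard]
      exact lt_mul_of_one_lt_right Nat.card_pos (Fact.out : p.Prime).one_lt
    let η' : R →* ℂ := η.comp (Subgroup.inclusion hRQ)
    have hoff : ∀ q : Q', (q : G) ∉ R → theta χ f (q : G) i = 0 := by
      intro q hq
      have hbr : brx (Subgroup.zpowers (q : G)) i = 0 := brx_eq_zero fun g hg => by
        rw [← hib]
        refine coeff_relTr_eq_zero (hQ.to_le (hz q)) (hz q) hb (fun u hu => ?_) hg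
        refine ⟨q, Subgroup.mem_zpowers _, fun h => hq ?_⟩
        have := hnorm u hu _ h
        simpa [mul_assoc] using this
      obtain ⟨ω⟩ := nonempty_blk (M := M) (Subgroup.zpowers (q : G))
      rw [theta_of_blo χ f hM (hQ.to_le (hz q)) (fx_anti (hz q) hi.mem) hi.idem
          (blo_of_brx_eq_zero ω hbr),
        tauBar_eq_zero χ hM (hQ.to_le (hz q)) (fx_anti (hz q) hi.mem) hi.idem hbr, mul_zero]
    have := Fintype.ofFinite R
    have hrestr : ∑ q : Q', η q * theta χ f (q : G) i =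
        ∑ r : R, η' r * theta χ f (r : G) i := by
      refine (Fintype.sum_of_injective (Subgroup.inclusion hRQ) (Subgroup.inclusion_injective hRQ)
        _ _ (fun q hq => ?_) (fun r => rfl)).symm
      rw [hoff q (fun h => hq ⟨⟨q, h⟩, rfl⟩), mul_zero]
    choose w hw using fun s => ih (Nat.card R) hlt R rfl hR η' (sgl R s) (sgl_mem R s)
      (indec_sgl R s).idem
    have hzR : ∀ r : R, Subgroup.zpowers (r : G) ≤ R := fun r => Subgroup.zpowers_le.mpr r.2
    let NR : kG → ℂ := fun a => ∑ r : R, η' r * theta χ f (r : G) a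
    have hNeqv : ∀ a a', a ∈ fx (Res M) R → a' ∈ fx (Res M) R → a * a = a → a' * a' = a' →
        Eqv R a a' → NR a = NR a' := fun a a' ha ha' haa haa' h =>
      Finset.sum_congr rfl fun r _ => by
        rw [theta_eqv χ f (fx_anti (hzR r) ha) (fx_anti (hzR r) ha') haa haa' (h.mono (hzR r))]
    have hNi : NR i = ∑ s, (rk R s i : ℂ) * NR (sgl R s) := by
      refine eq_sum_rk NR (by simp [NR, theta_zero]) (fun a ha b hb haa hbb hab hba => ?_)
        (fun j hj s h => hNeqv _ _ hj.mem (sgl_mem R s) hj.idem (indec_sgl R s).idem h)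
        (fx_anti hRQ hi.mem) hi.idem
      simp only [NR]
      rw [← Finset.sum_add_distrib]
      refine Finset.sum_congr rfl fun r _ => ?_
      rw [theta_add χ f (fx_anti (hzR r) ha) (fx_anti (hzR r) hb) haa hbb hab hba, mul_add]
    have hNcj : ∀ t ∈ Q', ∀ a : kG, a ∈ fx (Res M) R → a * a = a → NR (cj t a) = NR a := by
      intro t ht a ha haa
      let c : R → R := fun r => ⟨t * r * t⁻¹, hnorm t ht r r.2⟩
      have hc : Function.Bijective c := Finite.injective_iff_bijective.mp fun r r' h =>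
        Subtype.ext (by simpa [c] using congrArg Subtype.val h)
      refine (Fintype.sum_bijective c hc _ _ fun r => ?_).symm
      have hη : η' (c r) = η' r := by
        show η (Subgroup.inclusion hRQ (c r)) = η (Subgroup.inclusion hRQ r)
        rw [show Subgroup.inclusion hRQ (c r) =
          ⟨t, ht⟩ * Subgroup.inclusion hRQ r * (⟨t, ht⟩ : Q')⁻¹ from rfl, map_mul, map_mul,
          mul_comm (η ⟨t, ht⟩), mul_assoc, ← map_mul, mul_inv_cancel, map_one, mul_one]
      show η' r * theta χ f (r : G) a = η' (c r) * theta χ f (t * r * t⁻¹) (cj t a)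
      rw [hη, theta_cj χ f hM hinv t (hR.to_le (hzR r)) (fx_anti (hzR r) ha) haa]
    have hwinv : ∀ t ∈ Q', ∀ s, ∀ hj : Indec R (cj t (sgl R s)), w (cls hj) = w s := by
      intro t ht s hj
      have e : NR (sgl R (cls hj)) = NR (sgl R s) :=
        (hNeqv _ _ hj.mem (sgl_mem R _) hj.idem (indec_sgl R _).idem (eqv_cls hj)).symm.trans
          (hNcj t ht _ (sgl_mem R s) (indec_sgl R s).idem)
      simp only [NR, hw] at e
      exact Int.cast_injective (mul_left_cancel₀ (Nat.cast_ne_zero.mpr Fintype.card_ne_zero) e)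
    obtain ⟨n, hn⟩ := dvd_rank_sum hQ hRQ hnorm hcard hb hi.mem hi.idem hib w hwinv
    refine ⟨n, ?_⟩
    rw [hrestr]
    show NR i = _
    rw [hNi]
    have h2 : ∀ s, NR (sgl R s) = (Fintype.card R : ℂ) * w s := hw
    simp only [h2]
    rw [show (Fintype.card Q' : ℂ) = (Fintype.card R : ℂ) * (p : ℂ) by
      rw [← Nat.card_eq_fintype_card, ← Nat.card_eq_fintype_card, ← hcard, Nat.cast_mul],
      mul_assoc, show (p : ℂ) * (n : ℂ) = (((p : ℤ) * n : ℤ) : ℂ) by push_cast; rfl, ← hn,
      Int.cast_sum, Finset.mul_sum]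
    refine Finset.sum_congr rfl fun s _ => ?_
    push_cast
    ring

end Cfsg.Agent.Lib.StarChar.Integrality
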