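import Cfsg.Agent.Lib.StarChar.Fixed
import Cfsg.Agent.Lib.BrauerPairs.Maximal

/-!
# Relative traces inside a `p`-subgroup

`relTr Q R a` is the sum of the conjugates of the `R`-fixed element `a` over the cosets of `R` in
`Q`.  On the centraliser of a subgroup only the fixed cosets count (`coeff_relTr_fixed`); a
`Q`-fixed element whose support has stabilisers in `R` is such a trace
(`exists_relTr_eq`).
-/

set_option autoImplicit false

namespace Cfsg.Agent.Lib.StarChar.Trace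

open MonoidAlgebra
open Cfsg.Agent.Lib.BrauerMap.Basic
open Cfsg.Agent.Lib.StarChar.Fixed

universe u w

variable {G : Type u} [Group G] [Finite G] {k : Type w} [CommRing k]

local notation "C[" P "]" => Subgroup.centralizer ((P : Subgroup G) : Set G)

/-- The trace from `R` to `Q`. -/
noncomputable def relTr (Q R : Subgroup G) (a : MonoidAlgebra k G) : MonoidAlgebra k G :=
  letI := Fintype.ofFinite (Q ⧸ R.subgroupOf Q)
  ∑ c : Q ⧸ R.subgroupOf Q, cj (c.out : G) a

theorem relTr_eq {Q R : Subgroup G} [Fintype (Q ⧸ R.subgroupOf Q)] (a : MonoidAlgebra k G) :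
    relTr Q R a = ∑ c : Q ⧸ R.subgroupOf Q, cj (c.out : G) a := by
  rw [relTr]
  convert rfl

theorem cj_out {Q R : Subgroup G} {a : MonoidAlgebra k G} (ha : a ∈ fx k R) (u : Q) :
    cj ((QuotientGroup.mk u : Q ⧸ R.subgroupOf Q).out : G) a = cj (u : G) a := by
  obtain ⟨r, hr⟩ := QuotientGroup.mk_out_eq_mul (R.subgroupOf Q) u
  rw [hr, Subgroup.coe_mul, cj_mul, ha (r : G) r.2]

theorem relTr_mem_fx {Q R : Subgroup G} {a : MonoidAlgebra k G} (ha : a ∈ fx k R) :
    relTr Q R a ∈ fx k Q := by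
  intro t ht
  have := Fintype.ofFinite (Q ⧸ R.subgroupOf Q)
  rw [relTr_eq, map_sum]
  refine Fintype.sum_equiv (MulAction.toPerm (⟨t, ht⟩ : Q)) _ _ fun c => ?_
  induction c using QuotientGroup.induction_on with
  | _ u =>
    rw [MulAction.toPerm_apply, MulAction.Quotient.smul_mk, cj_out ha, cj_out ha, ← cj_mul]
    rfl

theorem relTr_mul {Q R : Subgroup G} (a : MonoidAlgebra k G) {y : MonoidAlgebra k G}
    (hy : y ∈ fx k Q) : relTr Q R a * y = relTr Q R (a * y) := by
  have := Fintype.ofFinite (Q ⧸ R.subgroupOf Q)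
  rw [relTr_eq, relTr_eq, Finset.sum_mul]
  refine Finset.sum_congr rfl fun c _ => ?_
  rw [map_mul, hy _ c.out.2]

theorem mul_relTr {Q R : Subgroup G} (a : MonoidAlgebra k G) {y : MonoidAlgebra k G}
    (hy : y ∈ fx k Q) : y * relTr Q R a = relTr Q R (y * a) := by
  have := Fintype.ofFinite (Q ⧸ R.subgroupOf Q)
  rw [relTr_eq, relTr_eq, Finset.mul_sum]
  refine Finset.sum_congr rfl fun c _ => ?_
  rw [map_mul, hy _ c.out.2]

theorem coeff_relTr {Q R : Subgroup G} [Fintype (Q ⧸ R.subgroupOf Q)] (a : MonoidAlgebra k G)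
    (g : G) : (relTr Q R a).coeff g =
      ∑ c : Q ⧸ R.subgroupOf Q, a.coeff ((c.out : G)⁻¹ * g * c.out) := by
  rw [relTr_eq, coeff_sum, Finsupp.finsetSum_apply]
  exact Finset.sum_congr rfl fun c _ => coeff_cj _ _ _

open scoped Classical in
/-- On the centraliser of `S` only the cosets fixed by `S` count. -/
theorem coeff_relTr_fixed {p : ℕ} [Fact p.Prime] [CharP k p] {Q R S : Subgroup G}
    [Fintype (Q ⧸ R.subgroupOf Q)] (hS : IsPGroup p S) (hSQ : S ≤ Q) {a : MonoidAlgebra k G}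
    (ha : a ∈ fx k R) {g : G} (hg : g ∈ C[S]) :
    (relTr Q R a).coeff g =
      ∑ c ∈ Finset.univ.filter (fun c : Q ⧸ R.subgroupOf Q =>
          ∀ s ∈ S, (c.out : G)⁻¹ * s * c.out ∈ R),
        a.coeff ((c.out : G)⁻¹ * g * c.out) := by
  have hS' : IsPGroup p (S.subgroupOf Q) :=
    hS.of_equiv (Subgroup.subgroupOfEquivOfLe hSQ).symm
  rw [coeff_relTr, sum_eq_sum_fixed hS' (fun c : Q ⧸ R.subgroupOf Q =>
    a.coeff ((c.out : G)⁻¹ * g * c.out)) ?_]
  · refine Finset.sum_congr ?_ fun _ _ => rfl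
    refine Finset.filter_congr fun c _ => ?_
    rw [MulAction.mem_fixedPoints]
    constructor
    · intro h s hs
      have h1 : (⟨s, hSQ hs⟩ : Q) • c = c := h ⟨⟨s, hSQ hs⟩, hs⟩
      have h2 : (c.out)⁻¹ * (⟨s, hSQ hs⟩ * c.out) ∈ R.subgroupOf Q := by
        rw [← QuotientGroup.eq, QuotientGroup.out_eq']
        conv_lhs => rw [← h1]
        conv_lhs => rw [← QuotientGroup.out_eq' c]
        rfl
      simpa [Subgroup.mem_subgroupOf, mul_assoc] using h2
    · intro h s
      show (s : Q) • c = c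
      conv_lhs => rw [← QuotientGroup.out_eq' c]
      rw [MulAction.Quotient.smul_mk, smul_eq_mul]
      conv_rhs => rw [← QuotientGroup.out_eq' c]
      refine (QuotientGroup.eq.mpr ?_).symm
      simpa [Subgroup.mem_subgroupOf, mul_assoc] using h _ s.2
  · intro s c
    induction c using QuotientGroup.induction_on with
    | _ u =>
      show a.coeff ((((s : Q) • (QuotientGroup.mk u : Q ⧸ R.subgroupOf Q)).out : G)⁻¹ * g *
        ((s : Q) • (QuotientGroup.mk u : Q ⧸ R.subgroupOf Q)).out) = _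
      rw [MulAction.Quotient.smul_mk, smul_eq_mul, ← coeff_cj, ← coeff_cj,
        cj_out ha, cj_out ha, coeff_cj, coeff_cj, Subgroup.coe_mul]
      have hc : ((s : Q) : G) * g = g * ((s : Q) : G) := Subgroup.mem_centralizer_iff.mp hg _ s.2
      congr 1
      rw [mul_inv_rev]
      calc (u : G)⁻¹ * ((s : Q) : G)⁻¹ * g * (((s : Q) : G) * u)
          = (u : G)⁻¹ * ((s : Q) : G)⁻¹ * (g * ((s : Q) : G)) * u := by simp only [mul_assoc]
        _ = (u : G)⁻¹ * g * u := by rw [← hc]; simp [mul_assoc]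

/-- Without fixed cosets the trace vanishes on the centraliser. -/
theorem coeff_relTr_eq_zero {p : ℕ} [Fact p.Prime] [CharP k p] {Q R S : Subgroup G}
    (hS : IsPGroup p S) (hSQ : S ≤ Q) {a : MonoidAlgebra k G} (ha : a ∈ fx k R)
    (hno : ∀ u ∈ Q, ∃ s ∈ S, u⁻¹ * s * u ∉ R) {g : G} (hg : g ∈ C[S]) :
    (relTr Q R a).coeff g = 0 := by
  classical
  have := Fintype.ofFinite (Q ⧸ R.subgroupOf Q)
  rw [coeff_relTr_fixed hS hSQ ha hg]
  refine Finset.sum_eq_zero fun c hc => ?_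
  obtain ⟨s, hs, hn⟩ := hno _ c.out.2
  exact absurd ((Finset.mem_filter.mp hc).2 s hs) hn

/-- On the centraliser of `R` only the normaliser counts. -/
theorem coeff_relTr_normalizer {p : ℕ} [Fact p.Prime] [CharP k p] {Q R : Subgroup G}
    (hR : IsPGroup p R) (hRQ : R ≤ Q) {a : MonoidAlgebra k G} (ha : a ∈ fx k R) {g : G}
    (hg : g ∈ C[R]) :
    (relTr Q R a).coeff g =
      (relTr (Q ⊓ Subgroup.normalizer (R : Set G)) R a).coeff g := by
  classical
  set N := Q ⊓ Subgroup.normalizer (R : Set G)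
  have := Fintype.ofFinite (Q ⧸ R.subgroupOf Q)
  have := Fintype.ofFinite (N ⧸ R.subgroupOf N)
  rw [coeff_relTr_fixed hR hRQ ha hg, coeff_relTr]
  refine (Finset.sum_bij (fun c _ => Subgroup.quotientSubgroupOfEmbeddingOfLE R
    (inf_le_left : N ≤ Q) c) ?_ ?_ ?_ ?_).symm
  · intro c _
    refine Finset.mem_filter.mpr ⟨Finset.mem_univ _, fun s hs => ?_⟩
    induction c using QuotientGroup.induction_on with
    | _ u =>
      rw [Subgroup.quotientSubgroupOfEmbeddingOfLE_apply_mk]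
      obtain ⟨r, hr⟩ := QuotientGroup.mk_out_eq_mul (R.subgroupOf Q) (Subgroup.inclusion inf_le_left u)
      rw [hr]
      have h1 : (u : G)⁻¹ * s * u ∈ R :=
        (Subgroup.mem_normalizer_iff''.mp (Subgroup.mem_inf.mp u.2).2 s).mp hs
      have hr' : ((r : Q) : G) ∈ R := r.2
      have h2 := mul_mem (mul_mem (inv_mem hr') h1) hr'
      simpa [mul_assoc] using h2
  · intro c _ c' _ h
    exact (Subgroup.quotientSubgroupOfEmbeddingOfLE R (inf_le_left : N ≤ Q)).injective h
  · intro c hc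
    have hc' := (Finset.mem_filter.mp hc).2
    have hn : (c.out : G) ∈ Subgroup.normalizer (R : Set G) := by
      rw [← inv_mem_iff, Subgroup.mem_normalizer_iff_map_conj_eq]
      refine Subgroup.eq_of_le_of_card_ge ?_
        (BrauerPairs.Maximal.card_map_conj _ R).ge
      rintro _ ⟨s, hs, rfl⟩
      simpa using hc' s hs
    refine ⟨QuotientGroup.mk (⟨(c.out : G), Subgroup.mem_inf.mpr ⟨c.out.2, hn⟩⟩ : N),
      Finset.mem_univ _, ?_⟩
    rw [Subgroup.quotientSubgroupOfEmbeddingOfLE_apply_mk]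
    exact QuotientGroup.out_eq' c
  · intro c _
    induction c using QuotientGroup.induction_on with
    | _ u =>
      rw [Subgroup.quotientSubgroupOfEmbeddingOfLE_apply_mk, ← coeff_cj, ← coeff_cj, cj_out ha,
        cj_out ha]
      rfl

/-- An invariant element whose support has stabilisers in `R` is a trace from `R`. -/
theorem exists_relTr_eq {Q R : Subgroup G} (hRQ : R ≤ Q) {X : MonoidAlgebra k G}
    (hX : X ∈ fx k Q) (hst : ∀ g, X.coeff g ≠ 0 → ∀ u ∈ Q, u * g * u⁻¹ = g → u ∈ R) :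
    ∃ a ∈ fx k R, (∀ g, a.coeff g ≠ 0 → X.coeff g ≠ 0) ∧ relTr Q R a = X := by
  classical
  let st : Setoid G :=
    { r := fun g h => ∃ u ∈ Q, u * g * u⁻¹ = h
      iseqv :=
        { refl := fun g => ⟨1, one_mem _, by simp⟩
          symm := fun ⟨u, hu, h⟩ => ⟨u⁻¹, inv_mem hu, by rw [← h]; simp [mul_assoc]⟩
          trans := fun ⟨u, hu, h⟩ ⟨v, hv, h'⟩ =>
            ⟨v * u, mul_mem hv hu, by rw [← h', ← h]; simp [mul_assoc]⟩ } }
  let rep : G → G := fun g => (Quotient.mk st g).out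
  have hrep : ∀ u ∈ Q, ∀ g, rep (u * g * u⁻¹) = rep g := fun u hu g =>
    congrArg Quotient.out (Quotient.sound (s := st) ⟨u⁻¹, inv_mem hu, by simp [mul_assoc]⟩)
  have hrep' : ∀ g, ∃ u ∈ Q, u * rep g * u⁻¹ = g := fun g => Quotient.mk_out (s := st) g
  let T : G → Prop := fun g => ∃ r ∈ R, r * rep g * r⁻¹ = g
  let a : MonoidAlgebra k G :=
    MonoidAlgebra.ofCoeff (Finsupp.equivFunOnFinite.symm fun g => if T g then X.coeff g else 0)
  have hco : ∀ g, a.coeff g = if T g then X.coeff g else 0 := fun g => rfl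
  have hXi := mem_fx.mp hX
  have hT : ∀ t ∈ R, ∀ g, T g → T (t * g * t⁻¹) := by
    rintro t ht g ⟨r, hr, h⟩
    refine ⟨t * r, mul_mem ht hr, ?_⟩
    rw [hrep t (hRQ ht)]
    conv_rhs => rw [← h]
    simp [mul_assoc]
  have haR : a ∈ fx k R := mem_fx.mpr fun t ht g => by
    rw [hco, hco, hXi t (hRQ ht)]
    refine if_congr ⟨fun h => ?_, hT t ht g⟩ rfl rfl
    have := hT t⁻¹ (inv_mem ht) _ h
    simpa [mul_assoc] using this
  refine ⟨a, haR, fun g hg => ?_, ?_⟩
  · rw [hco] at hg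
    split_ifs at hg with h
    · exact hg
    · exact absurd rfl hg
  have := Fintype.ofFinite (Q ⧸ R.subgroupOf Q)
  refine MonoidAlgebra.ext (Finsupp.ext fun g => ?_)
  rw [coeff_relTr]
  have hXc : ∀ c : Q ⧸ R.subgroupOf Q, X.coeff ((c.out : G)⁻¹ * g * c.out) = X.coeff g := fun c => by
    simpa using hXi _ (inv_mem c.out.2) g
  by_cases hg : X.coeff g = 0
  · rw [hg]
    refine Finset.sum_eq_zero fun c _ => ?_
    rw [hco, hXc, hg, ite_self]
  obtain ⟨u₀, hu₀, hu₀g⟩ := hrep' g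
  have key : ∀ c : Q ⧸ R.subgroupOf Q,
      T ((c.out : G)⁻¹ * g * c.out) ↔ c = QuotientGroup.mk ⟨u₀, hu₀⟩ := by
    intro c
    have hr0 : rep ((c.out : G)⁻¹ * g * c.out) = rep g := by
      have := hrep _ (inv_mem c.out.2) g
      simpa using this
    have hX0 : X.coeff (rep g) ≠ 0 := by
      rw [← hu₀g, hXi u₀ hu₀] at hg
      exact hg
    conv_rhs => rw [← QuotientGroup.out_eq' c]
    rw [QuotientGroup.eq, Subgroup.mem_subgroupOf, Subgroup.coe_mul, Subgroup.coe_inv]
    show (∃ r ∈ R, _) ↔ (c.out : G)⁻¹ * u₀ ∈ R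
    rw [hr0]
    constructor
    · rintro ⟨r, hr, h⟩
      have h1 := hst _ hX0 _ (mul_mem (inv_mem (hRQ hr)) (mul_mem (inv_mem c.out.2) hu₀)) (by
        conv_rhs => rw [← show r⁻¹ * (r * rep g * r⁻¹) * r = rep g by simp [mul_assoc]]
        rw [h]
        conv_rhs => rw [← hu₀g]
        simp [mul_assoc])
      have h2 := mul_mem hr h1
      rwa [mul_inv_cancel_left] at h2
    · intro h
      refine ⟨_, h, ?_⟩
      conv_rhs => rw [← hu₀g]
      simp [mul_assoc]
  rw [Finset.sum_congr rfl fun c _ => (hco _).trans (if_congr (key c) (hXc c) rfl),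
    Finset.sum_ite_eq', if_pos (Finset.mem_univ _)]

end Cfsg.Agent.Lib.StarChar.Trace
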