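import Cfsg.Agent.Lib.StarChar.Algebra
import Cfsg.Agent.Lib.StarChar.Trace
import Cfsg.Agent.Lib.BrauerPairs.Bridge

/-!
# The local part of the star product

For a `p`-element `q`, a function `f` of the blocks of `C(q)` and a character `χ`, `theta q i` adds
`f (block) * χ (q * lift)` over a decomposition of the `q`-fixed idempotent `i`.
-/

set_option autoImplicit false

namespace Cfsg.Agent.Lib.StarChar.Theta

open MonoidAlgebra
open Cfsg.Agent.Lib.Blocks (localRing residue)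
open Cfsg.Agent.Lib.BrauerMap.Basic
open Cfsg.Agent.Lib.BrauerPairs.Center Cfsg.Agent.Lib.BrauerPairs.Trunc
open Cfsg.Agent.Lib.BrauerPairs.Conj Cfsg.Agent.Lib.BrauerPairs.Pairs
open Cfsg.Agent.Lib.BrauerPairs.Bridge
open Cfsg.Agent.Lib.StarChar.Fixed Cfsg.Agent.Lib.StarChar.Algebra

universe u

attribute [local instance] Ideal.Quotient.field

variable {M : Ideal Cfsg.AlgInt} [M.IsMaximal] {G : Type u} [Group G] [Finite G]

local notation "C[" P "]" => Subgroup.centralizer ((P : Subgroup G) : Set G)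
local notation "kG" => MonoidAlgebra (Res M) G
local notation "𝒪" => localRing M
local notation "Zp[" q "]" => Subgroup.zpowers (q : G)

/-! ### Idempotents that do not decompose -/

/-- A `Q`-fixed idempotent that does not decompose. -/
structure Indec (Q : Subgroup G) (j : kG) : Prop where
  mem : j ∈ fx (Res M) Q
  idem : j * j = j
  ne : j ≠ 0
  only : ∀ a ∈ fx (Res M) Q, a * a = a → j * a = a → a * j = a → a = 0 ∨ a = j

/-- Equivalence by `Q`-fixed elements. -/
def Eqv (Q : Subgroup G) (a b : kG) : Prop :=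
  ∃ x ∈ fx (Res M) Q, ∃ y ∈ fx (Res M) Q, x * y = a ∧ y * x = b

theorem Eqv.symm {Q : Subgroup G} {a b : kG} (h : Eqv Q a b) : Eqv Q b a := by
  obtain ⟨x, hx, y, hy, h1, h2⟩ := h
  exact ⟨y, hy, x, hx, h2, h1⟩

theorem Eqv.mono {Q Q' : Subgroup G} (h : Q ≤ Q') {a b : kG} (he : Eqv Q' a b) : Eqv Q a b := by
  obtain ⟨x, hx, y, hy, h1, h2⟩ := he
  exact ⟨x, fx_anti h hx, y, fx_anti h hy, h1, h2⟩

/-- The simple quotients of the fixed algebra. -/
noncomputable def pk (Q : Subgroup G) : Pkg (Res M) (fx (Res M) Q) := Classical.choice exists_pkg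

open scoped Classical in
/-- The rank. -/
noncomputable def rk (Q : Subgroup G) (s : Fin (pk (M := M) Q).n) (a : kG) : ℕ :=
  if h : a ∈ fx (Res M) Q then (pk Q).rank s ⟨a, h⟩ else 0

theorem rk_mem {Q : Subgroup G} (s : Fin (pk (M := M) Q).n) {a : kG} (h : a ∈ fx (Res M) Q) :
    rk Q s a = (pk Q).rank s ⟨a, h⟩ := by
  classical
  rw [rk, dif_pos h]

theorem isIdem_mk {Q : Subgroup G} {a : kG} (h : a ∈ fx (Res M) Q) (ha : a * a = a) :
    IsIdempotentElem (⟨a, h⟩ : fx (Res M) Q) := Subtype.ext ha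

theorem rk_zero {Q : Subgroup G} (s : Fin (pk (M := M) Q).n) : rk Q s (0 : kG) = 0 := by
  rw [rk_mem s (zero_mem _)]
  exact (pk Q).rank_zero s

theorem rk_add {Q : Subgroup G} (s : Fin (pk (M := M) Q).n) {a b : kG} (ha : a ∈ fx (Res M) Q)
    (hb : b ∈ fx (Res M) Q) (haa : a * a = a) (hbb : b * b = b) (hab : a * b = 0)
    (hba : b * a = 0) : rk Q s (a + b) = rk Q s a + rk Q s b := by
  rw [rk_mem s (add_mem ha hb), rk_mem s ha, rk_mem s hb]
  have hA := isIdem_mk ha haa
  have hB := isIdem_mk hb hbb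
  have hAB : (⟨a, ha⟩ : fx (Res M) Q) * ⟨b, hb⟩ = 0 := Subtype.ext hab
  have hBA : (⟨b, hb⟩ : fx (Res M) Q) * ⟨a, ha⟩ = 0 := Subtype.ext hba
  have h := (pk Q).rank_add (i := s) hA hB hAB hBA
  exact h

theorem rk_le_of_eqv {Q : Subgroup G} (s : Fin (pk (M := M) Q).n) {a b : kG}
    (ha : a ∈ fx (Res M) Q) (hb : b ∈ fx (Res M) Q) (haa : a * a = a) (h : Eqv Q a b) :
    rk Q s a ≤ rk Q s b := by
  obtain ⟨x, hx, y, hy, h1, h2⟩ := h
  rw [rk_mem s ha, rk_mem s hb, Pkg.rank, Pkg.rank]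
  have e : (⟨a, ha⟩ : fx (Res M) Q) = ⟨x, hx⟩ * ⟨b, hb⟩ * ⟨y, hy⟩ := Subtype.ext (by
    show a = x * b * y
    rw [← h2, show x * (y * x) * y = x * y * (x * y) by simp only [mul_assoc], h1, haa])
  rw [e, map_mul, map_mul]
  refine le_trans (Submodule.finrank_mono ?_) (Submodule.finrank_map_le ((pk Q).π s ⟨x, hx⟩) _)
  rintro _ ⟨z, rfl⟩
  exact ⟨_, LinearMap.mem_range_self _ ((pk Q).π s ⟨y, hy⟩ z), rfl⟩

theorem rk_eqv {Q : Subgroup G} (s : Fin (pk (M := M) Q).n) {a b : kG} (ha : a ∈ fx (Res M) Q)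
    (hb : b ∈ fx (Res M) Q) (haa : a * a = a) (hbb : b * b = b) (h : Eqv Q a b) :
    rk Q s a = rk Q s b :=
  le_antisymm (rk_le_of_eqv s ha hb haa h) (rk_le_of_eqv s hb ha hbb h.symm)

/-- The chosen idempotent of rank one. -/
noncomputable def sgl (Q : Subgroup G) (s : Fin (pk (M := M) Q).n) : kG :=
  (((pk Q).exists_single s).choose : fx (Res M) Q)

theorem sgl_mem (Q : Subgroup G) (s : Fin (pk (M := M) Q).n) : sgl Q s ∈ fx (Res M) Q :=
  SetLike.coe_mem _

theorem sgl_spec (Q : Subgroup G) (s : Fin (pk (M := M) Q).n) :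
    (pk Q).Single s ⟨sgl Q s, sgl_mem Q s⟩ :=
  ((pk Q).exists_single s).choose_spec

theorem indec_of_single {Q : Subgroup G} {s : Fin (pk (M := M) Q).n} {j : kG}
    (hj : j ∈ fx (Res M) Q) (h : (pk Q).Single s ⟨j, hj⟩) : Indec Q j := by
  refine ⟨hj, congrArg Subtype.val h.idem.eq, fun e => h.ne_zero (Subtype.ext e), ?_⟩
  intro a ha haa hja haj
  have hjj : j * j = j := congrArg Subtype.val h.idem.eq
  have hd : (j - a) * (j - a) = j - a := by
    rw [sub_mul, mul_sub, mul_sub, hjj, hja, haj, haa, sub_self, sub_zero]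
  have h1 : a * (j - a) = 0 := by rw [mul_sub, haj, haa, sub_self]
  have h2 : (j - a) * a = 0 := by rw [sub_mul, hja, haa, sub_self]
  set A : fx (Res M) Q := ⟨a, ha⟩
  set D : fx (Res M) Q := ⟨j - a, sub_mem hj ha⟩
  have hsum : ∀ i, (pk Q).rank i A + (pk Q).rank i D = (pk Q).rank i ⟨j, hj⟩ := fun i => by
    rw [← (pk Q).rank_add (isIdem_mk ha haa) (isIdem_mk _ hd) (Subtype.ext h1) (Subtype.ext h2)]
    exact congrArg _ (Subtype.ext (add_sub_cancel a j))
  have hzero : ∀ E : fx (Res M) Q, IsIdempotentElem E → (∀ i, (pk Q).rank i E = 0) → E = 0 :=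
    fun E hE hr => (pk Q).idem_eq_zero hE fun i => LinearMap.range_eq_bot.mp
      (Submodule.finrank_eq_zero.mp (hr i))
  by_cases h0 : (pk Q).rank s A = 0
  · refine Or.inl (congrArg Subtype.val (hzero A (isIdem_mk ha haa) fun i => ?_))
    rcases eq_or_ne i s with rfl | hi
    · exact h0
    · have := hsum i; rw [h.rank_other hi] at this; omega
  · refine Or.inr (sub_eq_zero.mp (congrArg Subtype.val (hzero D (isIdem_mk _ hd) fun i => ?_))).symm
    rcases eq_or_ne i s with rfl | hi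
    · have := hsum i; rw [h.rank_self] at this; omega
    · have := hsum i; rw [h.rank_other hi] at this; omega

theorem indec_sgl (Q : Subgroup G) (s : Fin (pk (M := M) Q).n) : Indec Q (sgl Q s) :=
  indec_of_single _ (sgl_spec Q s)

theorem Indec.exists_single {Q : Subgroup G} {j : kG} (h : Indec Q j) :
    ∃ s, (pk (M := M) Q).Single s ⟨j, h.mem⟩ := by
  by_cases hz : ∀ i, (pk Q).π i (⟨j, h.mem⟩ : fx (Res M) Q) = 0
  · exact absurd (congrArg Subtype.val ((pk Q).idem_eq_zero (isIdem_mk h.mem h.idem) hz)) h.ne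
  push Not at hz
  obtain ⟨s, hs⟩ := hz
  obtain ⟨a, hsa, h1, h2⟩ := (pk Q).exists_single_le (isIdem_mk h.mem h.idem) hs
  refine ⟨s, ?_⟩
  rcases h.only a a.2 (congrArg Subtype.val hsa.idem.eq) (congrArg Subtype.val h1)
    (congrArg Subtype.val h2) with e | e
  · exact absurd (Subtype.ext e) hsa.ne_zero
  · rwa [show (⟨j, h.mem⟩ : fx (Res M) Q) = a from Subtype.ext e.symm]

theorem Indec.exists_eqv_sgl {Q : Subgroup G} {j : kG} (h : Indec Q j) :
    ∃ s, rk (M := M) Q s j = 1 ∧ (∀ i ≠ s, rk Q i j = 0) ∧ Eqv Q j (sgl Q s) := by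
  obtain ⟨s, hs⟩ := h.exists_single
  refine ⟨s, ?_, fun i hi => ?_, ?_⟩
  · rw [rk_mem s h.mem]; exact hs.rank_self
  · rw [rk_mem i h.mem]; exact hs.rank_other hi
  · obtain ⟨x, y, h1, h2, -⟩ := hs.equiv (sgl_spec Q s)
    exact ⟨x, x.2, y, y.2, congrArg Subtype.val h1, congrArg Subtype.val h2⟩

/-- Induction over decompositions. -/
theorem idem_induction {Q : Subgroup G} {motive : kG → Prop} (h0 : motive 0)
    (h1 : ∀ j, Indec Q j → motive j)
    (hadd : ∀ a ∈ fx (Res M) Q, ∀ b ∈ fx (Res M) Q, a * a = a → b * b = b → a * b = 0 →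
      b * a = 0 → motive a → motive b → motive (a + b))
    {e : kG} (he : e ∈ fx (Res M) Q) (hee : e * e = e) : motive e :=
  (pk Q).idem_induction (motive := fun x => motive (x : kG)) h0
    (fun _ x hx => h1 _ (indec_of_single x.2 hx))
    (fun a b ha hb hab hba => hadd a a.2 b b.2 (congrArg Subtype.val ha.eq)
      (congrArg Subtype.val hb.eq) (congrArg Subtype.val hab) (congrArg Subtype.val hba))
    (isIdem_mk he hee)

/-- An additive function is the sum of its values on the chosen idempotents. -/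
theorem eq_sum_rk {Q : Subgroup G} (g : kG → ℂ) (h0 : g 0 = 0)
    (hadd : ∀ a ∈ fx (Res M) Q, ∀ b ∈ fx (Res M) Q, a * a = a → b * b = b → a * b = 0 →
      b * a = 0 → g (a + b) = g a + g b)
    (heqv : ∀ j, Indec Q j → ∀ s, Eqv Q j (sgl Q s) → g j = g (sgl Q s))
    {e : kG} (he : e ∈ fx (Res M) Q) (hee : e * e = e) :
    g e = ∑ s, (rk Q s e : ℂ) * g (sgl Q s) := by
  refine idem_induction (motive := fun e => g e = ∑ s, (rk Q s e : ℂ) * g (sgl Q s)) ?_ ?_ ?_
    he hee
  · simp [rk_zero, h0]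
  · intro j hj
    obtain ⟨s, hs1, hs0, hs⟩ := hj.exists_eqv_sgl
    rw [Finset.sum_eq_single s (fun i _ hi => by rw [hs0 i hi, Nat.cast_zero, zero_mul])
      (fun h => absurd (Finset.mem_univ _) h), hs1, Nat.cast_one, one_mul, heqv j hj s hs]
  · intro a ha b hb haa hbb hab hba iha ihb
    rw [hadd a ha b hb haa hbb hab hba, iha, ihb, ← Finset.sum_add_distrib]
    refine Finset.sum_congr rfl fun s _ => ?_
    rw [rk_add s ha hb haa hbb hab hba, Nat.cast_add, add_mul]

/-! ### The truncation inside the group algebra -/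

/-- The truncation at `Q`, seen in the group algebra. -/
noncomputable def brx (Q : Subgroup G) (a : kG) : kG := ext C[Q] (br Q a)

theorem coeff_brx (Q : Subgroup G) (a : kG) {g : G} (hg : g ∈ C[Q]) :
    (brx Q a).coeff g = a.coeff g := by
  rw [brx, show g = ((⟨g, hg⟩ : C[Q]) : G) from rfl, coeff_ext, coeff_br]

theorem coeff_brx_of_notMem (Q : Subgroup G) (a : kG) {g : G} (hg : g ∉ C[Q]) :
    (brx Q a).coeff g = 0 := coeff_ext_of_notMem _ _ hg

theorem brx_eq_zero {Q : Subgroup G} {a : kG} (h : ∀ g ∈ C[Q], a.coeff g = 0) :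
    brx Q a = 0 := by
  refine MonoidAlgebra.ext (Finsupp.ext fun g => ?_)
  rw [coeff_zero, Finsupp.zero_apply]
  by_cases hg : g ∈ C[Q]
  · rw [coeff_brx Q a hg, h g hg]
  · exact coeff_brx_of_notMem Q a hg

theorem brx_zero (Q : Subgroup G) : brx Q (0 : kG) = 0 := by rw [brx, br_zero, map_zero]

theorem brx_add (Q : Subgroup G) (a b : kG) : brx Q (a + b) = brx Q a + brx Q b := by
  rw [brx, brx, brx, br_add, map_add]

theorem brx_sub (Q : Subgroup G) (a b : kG) : brx Q (a - b) = brx Q a - brx Q b := by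
  rw [eq_sub_iff_add_eq, ← brx_add, sub_add_cancel]

theorem brx_bext (Q : Subgroup G) (ω : Blk (Res M) C[Q]) :
    brx Q (bext C[Q] ω) = bext C[Q] ω := by
  refine MonoidAlgebra.ext (Finsupp.ext fun g => ?_)
  by_cases hg : g ∈ C[Q]
  · exact coeff_brx _ _ hg
  · rw [coeff_brx_of_notMem _ _ hg, bext, coeff_ext_of_notMem _ _ hg]

theorem brx_comm (Q : Subgroup G) (a : kG) (ω : Blk (Res M) C[Q]) :
    bext C[Q] ω * brx Q a = brx Q a * bext C[Q] ω := by
  rw [brx, bext, ← map_mul, ← map_mul, Subalgebra.mem_center_iff.mp (bidem_mem ω) (br Q a)]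

theorem bext_mem_fx (Q : Subgroup G) (ω : Blk (Res M) C[Q]) :
    bext C[Q] ω ∈ fx (Res M) Q := by
  refine mem_fx.mpr fun u hu g => ?_
  by_cases hg : g ∈ C[Q]
  · rw [hg u hu, mul_inv_cancel_right]
  · rw [bext, coeff_ext_of_notMem _ _ hg, coeff_ext_of_notMem]
    rwa [← mem_centralizer_conj_iff (Subgroup.le_normalizer hu) g]

theorem centralizer_zpowers (q : G) : C[Zp[q]] = Subgroup.centralizer ({q} : Set G) := by
  ext v
  rw [Subgroup.mem_centralizer_singleton_iff, Subgroup.mem_centralizer_iff]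
  constructor
  · intro h
    exact (h q (Subgroup.mem_zpowers q)).symm
  · rintro h _ ⟨n, rfl⟩
    exact ((show Commute v q from h).zpow_right n).symm.eq

/-- `ω` is the block of `j` at `Q`. -/
def Blo (Q : Subgroup G) (ω : Blk (Res M) C[Q]) (j : kG) : Prop :=
  brx Q j * bext C[Q] ω = brx Q j

theorem blo_of_brx_eq_zero {Q : Subgroup G} (ω : Blk (Res M) C[Q]) {j : kG} (h : brx Q j = 0) :
    Blo Q ω j := by rw [Blo, h, zero_mul]

theorem Blo.unique {Q : Subgroup G} {ω ω' : Blk (Res M) C[Q]} {j : kG} (h : Blo Q ω j)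
    (h' : Blo Q ω' j) (hne : brx Q j ≠ 0) : ω = ω' := by
  by_contra hd
  apply hne
  rw [← h', ← h, mul_assoc, bext_mul_bext _ hd, mul_zero]

theorem nonempty_blk (Q : Subgroup G) : Nonempty (Blk (Res M) C[Q]) := by
  have := Fintype.ofFinite (Blk (Res M) C[Q])
  by_contra h
  rw [not_nonempty_iff] at h
  have h1 := sum_bext (k := Res M) C[Q]
  rw [Finset.univ_eq_empty, Finset.sum_empty] at h1
  exact zero_ne_one h1

variable {p : ℕ} [Fact p.Prime] [CharP (Res M) p]

theorem brx_mul {Q : Subgroup G} (hQ : IsPGroup p Q) {a b : kG} (ha : a ∈ fx (Res M) Q)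
    (hb : b ∈ fx (Res M) Q) : brx Q (a * b) = brx Q a * brx Q b := by
  rw [brx, brx, brx, br_mul hQ (mem_fx.mp ha) (mem_fx.mp hb), map_mul]

theorem Blo.of_le {Q : Subgroup G} (hQ : IsPGroup p Q) {ω : Blk (Res M) C[Q]} {i a : kG}
    (hi : i ∈ fx (Res M) Q) (ha : a ∈ fx (Res M) Q) (h : Blo Q ω i) (hai : a * i = a) :
    Blo Q ω a := by
  rw [Blo, ← hai, brx_mul hQ ha hi, mul_assoc, h]

theorem Blo.of_eqv {Q : Subgroup G} (hQ : IsPGroup p Q) {ω : Blk (Res M) C[Q]} {a b : kG}
    (haa : a * a = a) (hb : b ∈ fx (Res M) Q) (he : Eqv Q a b) (h : Blo Q ω b) : Blo Q ω a := by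
  obtain ⟨x, hx, y, hy, h1, h2⟩ := he
  have e : a = x * b * y := by
    rw [← h2, show x * (y * x) * y = x * y * (x * y) by simp only [mul_assoc], h1, haa]
  rw [Blo, e, brx_mul hQ (mul_mem hx hb) hy, brx_mul hQ hx hb, mul_assoc _ (brx Q y),
    ← brx_comm, ← mul_assoc, mul_assoc (brx Q x), h]

theorem brx_pow {Q : Subgroup G} (hQ : IsPGroup p Q) {a : kG} (ha : a ∈ fx (Res M) Q) (n : ℕ) :
    brx Q (a ^ (n + 1)) = brx Q a ^ (n + 1) := by
  induction n with
  | zero => simp
  | succ n ih => rw [pow_succ, brx_mul hQ (pow_mem ha _) ha, ih, ← pow_succ]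

/-- In a corner without decomposition an element is nilpotent or invertible. -/
theorem Indec.corner {Q : Subgroup G} {j x : kG} (h : Indec Q j) (hx : x ∈ fx (Res M) Q)
    (hjx : j * x = x) (hxj : x * j = x) :
    (∃ n : ℕ, x ^ (n + 1) = 0) ∨
      ∃ y ∈ fx (Res M) Q, x * y = j ∧ y * x = j ∧ j * y = y ∧ y * j = y := by
  obtain ⟨s, hs⟩ := h.exists_single
  rcases hs.corner (x := (⟨x, hx⟩ : fx (Res M) Q)) (Subtype.ext hjx) (Subtype.ext hxj) with
    ⟨n, hn⟩ | ⟨y, h1, h2, h3, h4⟩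
  · refine Or.inl ⟨n, ?_⟩
    have := congrArg (fun z : fx (Res M) Q => (z : kG) * x) hn
    simpa [pow_succ] using this
  · exact Or.inr ⟨y, y.2, congrArg Subtype.val h3, congrArg Subtype.val h4,
      congrArg Subtype.val h1, congrArg Subtype.val h2⟩

theorem brx_eq_zero_of_idem {Q : Subgroup G} (hQ : IsPGroup p Q) {x z : kG}
    (hx : x ∈ fx (Res M) Q) {n : ℕ} (hn : x ^ (n + 1) = 0) (hz : brx Q x = z) (hzz : z * z = z) :
    z = 0 := by
  have h := brx_pow hQ hx n
  rw [hn, brx_zero, hz, IsIdempotentElem.pow_succ_eq n hzz] at h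
  exact h.symm

theorem Indec.exists_blo {Q : Subgroup G} (hQ : IsPGroup p Q) {j : kG}
    (h : Indec Q j) : ∃ ω, Blo Q ω j := by
  classical
  have := Fintype.ofFinite (Blk (Res M) C[Q])
  have hsum : ∑ ω : Blk (Res M) C[Q], brx Q j * bext C[Q] ω = brx Q j := by
    rw [← Finset.mul_sum, sum_bext, mul_one]
  by_contra hno
  push Not at hno
  have hz : ∀ ω, brx Q j * bext C[Q] ω = 0 := by
    intro ω
    have hb := bext_mem_fx Q ω
    have hbj : brx Q j * brx Q j = brx Q j := by rw [← brx_mul hQ h.mem h.mem, h.idem]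
    have hbx : brx Q (j * bext C[Q] ω * j) = brx Q j * bext C[Q] ω := by
      rw [brx_mul hQ (mul_mem h.mem hb) h.mem, brx_mul hQ h.mem hb, brx_bext, mul_assoc,
        brx_comm, ← mul_assoc, hbj]
    rcases h.corner (x := j * bext C[Q] ω * j) (mul_mem (mul_mem h.mem hb) h.mem)
      (by rw [← mul_assoc, ← mul_assoc, h.idem]) (by rw [mul_assoc, h.idem]) with
      ⟨n, hn⟩ | ⟨y, hy, hxy, -⟩
    · refine brx_eq_zero_of_idem hQ (mul_mem (mul_mem h.mem hb) h.mem) hn hbx ?_
      calc brx Q j * bext C[Q] ω * (brx Q j * bext C[Q] ω)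
          = brx Q j * (bext C[Q] ω * brx Q j) * bext C[Q] ω := by simp only [mul_assoc]
        _ = brx Q j * brx Q j * (bext C[Q] ω * bext C[Q] ω) := by
            rw [brx_comm]; simp only [mul_assoc]
        _ = brx Q j * bext C[Q] ω := by rw [hbj, (bext_isIdem _ ω).eq]
    · refine absurd ?_ (hno ω)
      show brx Q j * bext C[Q] ω = brx Q j
      have e := congrArg (brx Q) hxy
      rw [brx_mul hQ (mul_mem (mul_mem h.mem hb) h.mem) hy, hbx] at e
      conv_lhs => rw [← e]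
      rw [mul_assoc (brx Q j * bext C[Q] ω), ← brx_comm Q y ω, ← mul_assoc, mul_assoc (brx Q j),
        (bext_isIdem _ ω).eq, e]
  have h0 : brx Q j = 0 := by
    rw [← hsum]
    exact Finset.sum_eq_zero fun ω _ => hz ω
  obtain ⟨ω⟩ := nonempty_blk (M := M) Q
  exact hno ω (blo_of_brx_eq_zero ω h0)

/-! ### The lifted character and its local sum -/

variable (χ : Cfsg.IrrCharacter G) (f : ∀ q : G, Blk (Res M) (Subgroup.centralizer (Subgroup.zpowers q : Set G)) → ℂ)

open scoped Classical in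
/-- The character of `q` times a lift of an idempotent. -/
noncomputable def tauBar (q : G) (i : kG) : ℂ :=
  if h : ∃ e ∈ fx 𝒪 Zp[q], e * e = e ∧ red M e = i then tau χ q h.choose else 0

theorem tauBar_eq {Q : Subgroup G} {q : G} (hq : q ∈ Q) {e : MonoidAlgebra 𝒪 G}
    (he : e ∈ fx 𝒪 Q) (hee : e * e = e) : tau χ q e = tauBar χ q (red M e) := by
  classical
  have hle : Zp[q] ≤ Q := Subgroup.zpowers_le.mpr hq
  have h : ∃ e' ∈ fx 𝒪 Zp[q], e' * e' = e' ∧ red M e' = red M e :=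
    ⟨e, fx_anti hle he, hee, rfl⟩
  rw [tauBar, dif_pos h]
  obtain ⟨h1, h2, h3⟩ := h.choose_spec
  exact tau_eq_of_equiv χ (Subgroup.mem_zpowers q) (fx_anti hle he) h1 hee h2
    (a := red M e) (b := red M e) (map_mem_fx _ (fx_anti hle he)) (map_mem_fx _ (fx_anti hle he))
    (by rw [← map_mul, hee]) (by rw [← map_mul, hee, h3])

theorem exists_lift {Q : Subgroup G} {i : kG} (hi : i ∈ fx (Res M) Q) (hii : i * i = i) :
    ∃ e ∈ fx 𝒪 Q, e * e = e ∧ red M e = i := by
  obtain ⟨e, he, h1, h2, -⟩ := exists_idem_lift (M := M) (e := 1) (one_mem _) (one_mul 1) hi hii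
    (by rw [map_one, one_mul]) (by rw [map_one, mul_one])
  exact ⟨e, he, h1, h2⟩

theorem tauBar_zero (q : G) : tauBar χ q (0 : kG) = 0 := by
  rw [← map_zero (red M (G := G)),
    ← tauBar_eq χ (Subgroup.mem_zpowers q) (zero_mem _) (mul_zero 0), tau_zero]

theorem tauBar_add {q : G} {a b : kG} (ha : a ∈ fx (Res M) Zp[q]) (hb : b ∈ fx (Res M) Zp[q])
    (haa : a * a = a) (hbb : b * b = b) (hab : a * b = 0) (hba : b * a = 0) :
    tauBar χ q (a + b) = tauBar χ q a + tauBar χ q b := by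
  obtain ⟨e, he, hee, her⟩ := exists_lift (add_mem ha hb) (show (a + b) * (a + b) = a + b by
    rw [add_mul, mul_add, mul_add, haa, hbb, hab, hba, add_zero, zero_add])
  obtain ⟨g, hg, hgg, hgr, heg, hge⟩ := exists_idem_lift he hee ha haa
    (by rw [her, add_mul, haa, hba, add_zero]) (by rw [her, mul_add, haa, hab, add_zero])
  have hd : (e - g) * (e - g) = e - g := by
    rw [sub_mul, mul_sub, mul_sub, hee, heg, hge, hgg, sub_self, sub_zero]
  have hdr : red M (e - g) = b := by rw [map_sub, her, hgr, add_sub_cancel_left]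
  have hq := Subgroup.mem_zpowers q
  rw [← her, ← tauBar_eq χ hq he hee, ← hgr, ← tauBar_eq χ hq hg hgg, ← hdr,
    ← tauBar_eq χ hq (sub_mem he hg) hd, ← tau_add, add_sub_cancel]

theorem tauBar_eqv {q : G} {a b : kG} (ha : a ∈ fx (Res M) Zp[q]) (hb : b ∈ fx (Res M) Zp[q])
    (haa : a * a = a) (hbb : b * b = b) (h : Eqv Zp[q] a b) :
    tauBar χ q a = tauBar χ q b := by
  obtain ⟨e, he, hee, her⟩ := exists_lift ha haa
  obtain ⟨e', he', hee', her'⟩ := exists_lift hb hbb
  obtain ⟨x, hx, y, hy, h1, h2⟩ := h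
  have hq := Subgroup.mem_zpowers q
  rw [← her, ← her', ← tauBar_eq χ hq he hee, ← tauBar_eq χ hq he' hee']
  exact tau_eq_of_equiv χ hq he he' hee hee' hx hy (by rw [h1, her]) (by rw [h2, her'])

theorem tauBar_eq_zero (hM : Cfsg.IsPModular p M) {q : G} (hq : IsPGroup p Zp[q]) {j : kG}
    (hj : j ∈ fx (Res M) Zp[q]) (hjj : j * j = j) (h : brx Zp[q] j = 0) :
    tauBar χ q j = 0 := by
  obtain ⟨e, he, hee, her⟩ := exists_lift hj hjj
  obtain ⟨n, hn⟩ := hq.exists_card_eq
  rw [Nat.card_zpowers] at hn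
  rw [← her, ← tauBar_eq χ (Subgroup.mem_zpowers q) he hee]
  refine tau_eq_zero hM χ (Subgroup.mem_zpowers q) hn he hee fun v hv => ?_
  rw [her, ← coeff_brx Zp[q] j (by rwa [centralizer_zpowers]), h, coeff_zero, Finsupp.zero_apply]

open scoped Classical in
/-- The value at an idempotent with a block. -/
noncomputable def val' (q : G) (j : kG) : ℂ :=
  if h : ∃ ω, Blo Zp[q] ω j then f q h.choose * tauBar χ q j else 0

theorem val'_eq (hM : Cfsg.IsPModular p M) {q : G} (hq : IsPGroup p Zp[q]) {j : kG}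
    (hj : j ∈ fx (Res M) Zp[q]) (hjj : j * j = j) {ω : Blk (Res M) C[Zp[q]]}
    (hω : Blo Zp[q] ω j) : val' χ f q j = f q ω * tauBar χ q j := by
  classical
  have h : ∃ ω, Blo Zp[q] ω j := ⟨ω, hω⟩
  rw [val', dif_pos h]
  by_cases h0 : brx Zp[q] j = 0
  · rw [tauBar_eq_zero χ hM hq hj hjj h0, mul_zero, mul_zero]
  · rw [h.choose_spec.unique hω h0]

/-- The local part of the star product. -/
noncomputable def theta (q : G) (i : kG) : ℂ :=
  ∑ s, (rk Zp[q] s i : ℂ) * val' χ f q (sgl Zp[q] s)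

theorem theta_zero (q : G) : theta χ f q (0 : kG) = 0 := by simp [theta, rk_zero]

theorem theta_add {q : G} {a b : kG} (ha : a ∈ fx (Res M) Zp[q]) (hb : b ∈ fx (Res M) Zp[q])
    (haa : a * a = a) (hbb : b * b = b) (hab : a * b = 0) (hba : b * a = 0) :
    theta χ f q (a + b) = theta χ f q a + theta χ f q b := by
  simp only [theta, rk_add _ ha hb haa hbb hab hba, Nat.cast_add, add_mul, Finset.sum_add_distrib]

theorem theta_eqv {q : G} {a b : kG} (ha : a ∈ fx (Res M) Zp[q]) (hb : b ∈ fx (Res M) Zp[q])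
    (haa : a * a = a) (hbb : b * b = b) (h : Eqv Zp[q] a b) :
    theta χ f q a = theta χ f q b := by
  simp only [theta, rk_eqv _ ha hb haa hbb h]

theorem theta_indec (hM : Cfsg.IsPModular p M) {q : G} (hq : IsPGroup p Zp[q]) {j : kG}
    (hj : Indec Zp[q] j) : theta χ f q j = val' χ f q j := by
  obtain ⟨s, hs1, hs0, hs⟩ := hj.exists_eqv_sgl
  rw [theta, Finset.sum_eq_single s (fun i _ hi => by rw [hs0 i hi, Nat.cast_zero, zero_mul])
    (fun h => absurd (Finset.mem_univ _) h), hs1, Nat.cast_one, one_mul]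
  have hi := indec_sgl (M := M) Zp[q] s
  obtain ⟨ω, hω⟩ := hi.exists_blo hq
  rw [val'_eq χ f hM hq hi.mem hi.idem hω,
    val'_eq χ f hM hq hj.mem hj.idem (hω.of_eqv hq hj.idem hi.mem hs),
    tauBar_eqv χ hj.mem hi.mem hj.idem hi.idem hs]

/-- An idempotent with one block. -/
theorem theta_of_blo (hM : Cfsg.IsPModular p M) {q : G} (hq : IsPGroup p Zp[q]) {i : kG}
    (hi : i ∈ fx (Res M) Zp[q]) (hii : i * i = i) {ω : Blk (Res M) C[Zp[q]]}
    (hω : Blo Zp[q] ω i) : theta χ f q i = f q ω * tauBar χ q i := by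
  refine idem_induction (motive := fun a => a * i = a → theta χ f q a = f q ω * tauBar χ q a)
    ?_ ?_ ?_ hi hii hii
  · intro _; rw [theta_zero, tauBar_zero, mul_zero]
  · intro j hj hji
    rw [theta_indec χ f hM hq hj, val'_eq χ f hM hq hj.mem hj.idem (hω.of_le hq hi hj.mem hji)]
  · intro a ha b hb haa hbb hab hba iha ihb habi
    have h1 : a * i = a := by
      have := congrArg (a * ·) habi
      simp only [← mul_assoc, mul_add, haa, hab, add_zero] at this
      exact this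
    have h2 : b * i = b := by
      have := congrArg (b * ·) habi
      simp only [← mul_assoc, mul_add, hbb, hba, zero_add] at this
      exact this
    rw [theta_add χ f ha hb haa hbb hab hba, iha h1, ihb h2,
      tauBar_add χ ha hb haa hbb hab hba, mul_add]

/-- Orthogonal families. -/
theorem theta_sum {ι : Type*} (s : Finset ι) {q : G} (g : ι → kG)
    (hg : ∀ i ∈ s, g i ∈ fx (Res M) Zp[q]) (hgg : ∀ i ∈ s, g i * g i = g i)
    (ho : ∀ i ∈ s, ∀ j ∈ s, i ≠ j → g i * g j = 0) :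
    theta χ f q (∑ i ∈ s, g i) = ∑ i ∈ s, theta χ f q (g i) := by
  classical
  induction s using Finset.induction_on with
  | empty => simp [theta_zero]
  | insert a t hat ih =>
    have hz : ∀ j ∈ t, g a * g j = 0 ∧ g j * g a = 0 := fun j hj =>
      ⟨ho a (Finset.mem_insert_self a t) j (Finset.mem_insert_of_mem hj) fun e => hat (e ▸ hj),
        ho j (Finset.mem_insert_of_mem hj) a (Finset.mem_insert_self a t) fun e => hat (e ▸ hj)⟩
    rw [Finset.sum_insert hat, Finset.sum_insert hat,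
      theta_add χ f (hg a (Finset.mem_insert_self a t))
        (sum_mem fun i hi => hg i (Finset.mem_insert_of_mem hi))
        (hgg a (Finset.mem_insert_self a t)) ?_ ?_ ?_,
      ih (fun i hi => hg i (Finset.mem_insert_of_mem hi))
        (fun i hi => hgg i (Finset.mem_insert_of_mem hi))
        (fun i hi j hj => ho i (Finset.mem_insert_of_mem hi) j (Finset.mem_insert_of_mem hj))]
    · rw [Finset.sum_mul]
      refine Finset.sum_congr rfl fun i hi => ?_
      rw [Finset.mul_sum, Finset.sum_eq_single i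
        (fun j hj hne => ho i (Finset.mem_insert_of_mem hi) j (Finset.mem_insert_of_mem hj)
          (Ne.symm hne)) (fun h => absurd hi h), hgg i (Finset.mem_insert_of_mem hi)]
    · rw [Finset.mul_sum]
      exact Finset.sum_eq_zero fun j hj => (hz j hj).1
    · rw [Finset.sum_mul]
      exact Finset.sum_eq_zero fun j hj => (hz j hj).2

end Cfsg.Agent.Lib.StarChar.Theta
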